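import Cfsg.Agent.AltInvolCent.RootCount

/-!
# Degree at least twelve

With four transpositions in `t` and at least four points fixed, the derived structure of the
centralizers of elements of order three in `C(z, t)` tells `z` from `t`.
-/

set_option autoImplicit false
set_option linter.unusedSectionVars false

namespace CfsgLib.AltInvolCent

open Equiv Equiv.Perm
open scoped commutatorElement

variable {α : Type*} [Fintype α] [DecidableEq α]

theorem commute_of_commute_three :
    ∀ {β : Type*} [Fintype β] [DecidableEq β], Fintype.card β = 4 → ∀ τ : Perm β, τ ≠ 1 → τ ^ 3 = 1 →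
      ∀ a b : Perm β, a * τ = τ * a → b * τ = τ * b → a * b = b * a := by
  intro β _ _ hβ τ h1 h3 a b ha hb
  let e : β ≃ Fin 4 := Fintype.equivFinOfCardEq hβ
  let E : Perm β ≃* Perm (Fin 4) := e.permCongrHom
  have key : ∀ x : Perm (Fin 4), x ≠ 1 → x ^ 3 = 1 → ∀ y : Perm (Fin 4), y * x = x * y →
      y = 1 ∨ y = x ∨ y = x * x := by decide
  have hx : E τ ≠ 1 := fun h => h1 (E.injective (h.trans (map_one E).symm))
  have hx3 : E τ ^ 3 = 1 := by rw [← map_pow, h3, map_one]
  have hy : ∀ y : Perm β, y * τ = τ * y → E y = 1 ∨ E y = E τ ∨ E y = E τ * E τ := fun y hy =>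
    key _ hx hx3 _ (by rw [← map_mul, hy, map_mul])
  refine E.injective ?_
  rw [map_mul, map_mul]
  rcases hy a ha with h | h | h <;> rcases hy b hb with h' | h' | h' <;> simp only [h, h', one_mul, mul_one,
    mul_assoc]

/-- The double derived subgroup, inside the ambient group. -/
def derived2 {G : Type*} [Group G] (H : Subgroup G) : Subgroup G := ⁅⁅H, H⁆, ⁅H, H⁆⁆

theorem derived2_map {G : Type*} [Group G] (H : Subgroup G) (f : G →* G) :
    (derived2 H).map f = derived2 (H.map f) := by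
  rw [derived2, derived2, Subgroup.map_commutator, Subgroup.map_commutator]

theorem derived2_le {G : Type*} [Group G] (H : Subgroup G) : derived2 H ≤ H := by
  have h : ∀ K : Subgroup G, ⁅K, K⁆ ≤ K := fun K => Subgroup.commutator_le.2 fun a ha b hb => by
    rw [commutatorElement_def]
    exact mul_mem (mul_mem (mul_mem ha hb) (inv_mem ha)) (inv_mem hb)
  exact (h _).trans (h H)

namespace Setup

variable {G : Type*} [Group G] {n : ℕ} (S : Setup G n)

/-- The centralizer of `z`, `t` and `y`. -/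
def trip (t y : G) : Subgroup G := Subgroup.centralizer ({S.z, t, y} : Set G)

theorem mem_trip {t y c : G} : c ∈ S.trip t y ↔ Commute c S.z ∧ Commute c t ∧ Commute c y := by
  simp only [trip, Subgroup.mem_centralizer_iff, Set.mem_insert_iff, Set.mem_singleton_iff, forall_eq_or_imp,
    forall_eq]
  exact ⟨fun h => ⟨h.1.symm, h.2.1.symm, h.2.2.symm⟩, fun h => ⟨h.1.symm.eq, h.2.1.symm.eq, h.2.2.symm.eq⟩⟩

theorem commute_p {t c : G} (ht : Commute t S.z) (hc : Commute c S.z) (h : Commute c t) :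
    Commute (S.p c) (S.p t) := by
  show S.p c * S.p t = S.p t * S.p c
  rw [← S.p_mul hc ht, ← S.p_mul ht hc, h.eq]

theorem p_bracket {a b : G} (ha : Commute a S.z) (hb : Commute b S.z) :
    Commute ⁅a, b⁆ S.z ∧ S.p ⁅a, b⁆ = ⁅S.p a, S.p b⁆ := by
  rw [commutatorElement_def, commutatorElement_def]
  refine ⟨((ha.mul_left hb).mul_left ha.inv_left).mul_left hb.inv_left, ?_⟩
  rw [S.p_mul ((ha.mul_left hb).mul_left ha.inv_left) hb.inv_left, S.p_mul (ha.mul_left hb) ha.inv_left,
    S.p_mul ha hb, S.p_inv ha, S.p_inv hb]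

/-- If `y` moves the transpositions of `t` then `t` is not in the double derived group. -/
theorem not_mem_derived2 {t y : G} (ht : Commute t S.z) (hs : S.p t * S.p t = 1)
    (hc : (S.p t).support.card = 8) (hy : Commute y S.z) (hyt : Commute y t) (hy3 : y ^ 3 = 1)
    (hmove : blockPerm (S.p t) (S.p y) ≠ 1) : t ∉ derived2 (S.trip t y) := by
  set σ := S.p t with hσ
  have hT : Fintype.card σ.cycleFactorsFinset = 4 := by
    rw [Fintype.card_coe]
    have := card_pairs hs
    omega
  have hyσ := S.commute_p ht hy hyt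
  have hτ3 : blockPerm σ (S.p y) ^ 3 = 1 := by
    have h2 : blockPerm σ (S.p y ^ 2) = blockPerm σ (S.p y) ^ 2 := by
      rw [sq, sq, blockPerm_mul hyσ hyσ]
    rw [pow_succ, ← h2, ← blockPerm_mul (hyσ.pow_left 2) hyσ, ← pow_succ, ← S.p_pow hy, hy3, S.p_one,
      blockPerm_one]
  have hkey : ∀ c ∈ S.trip t y, Commute c S.z ∧ Commute (S.p c) σ ∧
      blockPerm σ (S.p c) * blockPerm σ (S.p y) = blockPerm σ (S.p y) * blockPerm σ (S.p c) := by
    intro c hc
    obtain ⟨h1, h2, h3⟩ := S.mem_trip.1 hc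
    have hcσ := S.commute_p ht h1 h2
    refine ⟨h1, hcσ, ?_⟩
    rw [← blockPerm_mul hcσ hyσ, ← blockPerm_mul hyσ hcσ, ← S.p_mul h1 hy, ← S.p_mul hy h1, h3.eq]
  let K : Subgroup G :=
    { carrier := {c | Commute c S.z ∧ Commute (S.p c) σ ∧ blockPerm σ (S.p c) = 1}
      one_mem' := ⟨Commute.one_left _, by rw [S.p_one]; exact Commute.one_left _,
        by rw [S.p_one, blockPerm_one]⟩
      mul_mem' := by
        rintro a b ⟨a1, a2, a3⟩ ⟨b1, b2, b3⟩
        exact ⟨a1.mul_left b1, by rw [S.p_mul a1 b1]; exact a2.mul_left b2,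
          by rw [S.p_mul a1 b1, blockPerm_mul a2 b2, a3, b3, one_mul]⟩
      inv_mem' := by
        rintro a ⟨a1, a2, a3⟩
        exact ⟨a1.inv_left, by rw [S.p_inv a1]; exact a2.inv_left,
          by rw [S.p_inv a1, blockPerm_inv a2, a3, inv_one]⟩ }
  let L : Subgroup G :=
    { carrier := {c | Commute c S.z ∧ ∀ i ∈ σ.support, S.p c i = i}
      one_mem' := ⟨Commute.one_left _, fun i _ => by rw [S.p_one, Perm.one_apply]⟩
      mul_mem' := by
        rintro a b ⟨a1, a2⟩ ⟨b1, b2⟩
        exact ⟨a1.mul_left b1, fun i hi => by rw [S.p_mul a1 b1, Perm.mul_apply, b2 i hi, a2 i hi]⟩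
      inv_mem' := by
        rintro a ⟨a1, a2⟩
        exact ⟨a1.inv_left, fun i hi => by rw [S.p_inv a1, Perm.inv_eq_iff_eq, a2 i hi]⟩ }
  have h1 : ⁅S.trip t y, S.trip t y⁆ ≤ K := Subgroup.commutator_le.2 fun a ha b hb => by
    obtain ⟨a1, a2, a3⟩ := hkey a ha
    obtain ⟨b1, b2, b3⟩ := hkey b hb
    obtain ⟨e1, e2⟩ := S.p_bracket a1 b1
    refine ⟨e1, ?_, ?_⟩
    · rw [e2, commutatorElement_def]
      exact ((a2.mul_left b2).mul_left a2.inv_left).mul_left b2.inv_left
    · rw [e2, commutatorElement_def, blockPerm_mul ((a2.mul_left b2).mul_left a2.inv_left) b2.inv_left,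
        blockPerm_mul (a2.mul_left b2) a2.inv_left, blockPerm_mul a2 b2,
        commute_of_commute_three hT _ hmove hτ3 _ _ a3 b3, mul_assoc (blockPerm σ (S.p b)), ← blockPerm_mul a2 a2.inv_left,
        mul_inv_cancel, blockPerm_one, mul_one, ← blockPerm_mul b2 b2.inv_left, mul_inv_cancel, blockPerm_one]
  have h2 : derived2 (S.trip t y) ≤ L := Subgroup.commutator_le.2 fun a ha b hb => by
    obtain ⟨a1, a2, a3⟩ := h1 ha
    obtain ⟨b1, b2, b3⟩ := h1 hb
    obtain ⟨e1, e2⟩ := S.p_bracket a1 b1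
    refine ⟨e1, fun i hi => ?_⟩
    have hval : ∀ {c : Perm (Fin n)}, Commute c σ → blockPerm σ c = 1 → ∀ {j}, j ∈ σ.support →
        c j = j ∧ c (σ j) = σ j ∨ c j = σ j ∧ c (σ j) = j := by
      intro c hc hb j hj
      rw [mem_support] at hj
      have h := (blockPerm_eq_one hc).1 hb _ (swap_mem_pairs hs hj)
      have e : swap (c j) (c (σ j)) = swap j (σ j) := by
        rw [Equiv.swap_apply_apply, h.eq, mul_inv_cancel_right]
      have hcs : c (σ j) = σ (c j) := by rw [← Perm.mul_apply, hc.eq, Perm.mul_apply]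
      rw [hcs] at e ⊢
      rcases (pair_eq_iff hs hj).1 e.symm with h' | h'
      · exact Or.inl ⟨h', by rw [h']⟩
      · exact Or.inr ⟨h', by rw [h', invol_apply hs]⟩
    have hfix : S.p a (S.p b i) = S.p b (S.p a i) := by
      rcases hval a2 a3 hi with ⟨u1, u2⟩ | ⟨u1, u2⟩ <;> rcases hval b2 b3 hi with ⟨v1, v2⟩ | ⟨v1, v2⟩ <;>
        simp only [u1, u2, v1, v2]
    rw [e2, commutatorElement_def]
    have hgen : ∀ j ∈ σ.support, S.p a (S.p b j) = S.p b (S.p a j) := by
      intro j hj
      rcases hval a2 a3 hj with ⟨u1, u2⟩ | ⟨u1, u2⟩ <;> rcases hval b2 b3 hj with ⟨v1, v2⟩ | ⟨v1, v2⟩ <;>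
        simp only [u1, u2, v1, v2]
    have hst : ∀ {c : Perm (Fin n)}, Commute c σ → ∀ {j}, j ∈ σ.support → c⁻¹ j ∈ σ.support := by
      intro c hc j hj
      rw [mem_support] at hj ⊢
      intro e
      refine hj ?_
      have := congrArg c e
      rw [← Perm.mul_apply, hc.eq, Perm.mul_apply] at this
      simpa using this
    show S.p a (S.p b ((S.p a)⁻¹ ((S.p b)⁻¹ i))) = i
    rw [hgen _ (hst a2 (hst b2 hi))]
    simp
  intro h
  obtain ⟨i, hi⟩ : σ.support.Nonempty := Finset.card_pos.1 (by omega)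
  exact mem_support.1 hi ((h2 h).2 i hi)

/-- Two lifts generating a four-group of double transpositions commute up to `z`. -/
theorem bracket_eq_z {a b : G} (ha : Commute a S.z) (hb : Commute b S.z) (hab : S.p a * S.p b = S.p b * S.p a)
    (h1 : (S.p a).cycleType = {2, 2}) (h2 : (S.p b).cycleType = {2, 2})
    (h3 : (S.p a * S.p b).cycleType = {2, 2}) : ⁅a, b⁆ = S.z := by
  have hsq : ∀ {x : Perm (Fin n)}, x.cycleType = {2, 2} → x * x = 1 ∧ x.support.card = 4 * 1 := by
    intro x hx
    refine ⟨?_, by rw [← sum_cycleType, hx]; rfl⟩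
    rw [← sq, ← orderOf_dvd_iff_pow_eq_one, ← lcm_cycleType, hx]
    rfl
  have h := (S.commute_iff ha hb (hsq h1).1 (hsq h2).1 hab (i := 1) (j := 1) (k := 1) (hsq h1).2 (hsq h2).2
    (hsq h3).2).2 (by decide)
  rw [commutatorElement_def, h, mul_assoc (b * a), ← (ha.inv_left).eq,
    show b * a * (a⁻¹ * S.z) * b⁻¹ = b * S.z * b⁻¹ by group, hb.eq, mul_inv_cancel_right]

/-- A three-cycle of transpositions and a double transposition put `z` into the double derived group. -/
theorem z_mem_derived2 {H : Subgroup G} {q w : G} (hq : q ∈ H) (hw : w ∈ H) (hqz : Commute q S.z)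
    (hwz : Commute w S.z) {u v : Perm (Fin n)} (hu : ⁅S.p q, S.p w⁆ = u) (hv : ⁅S.p q, u⁆ = v)
    (huv : u * v = v * u) (h1 : u.cycleType = {2, 2}) (h2 : v.cycleType = {2, 2})
    (h3 : (u * v).cycleType = {2, 2}) : S.z ∈ derived2 H := by
  obtain ⟨a1, a2⟩ := S.p_bracket hqz hwz
  rw [hu] at a2
  obtain ⟨b1, b2⟩ := S.p_bracket hqz a1
  rw [a2, hv] at b2
  have hm : ⁅q, w⁆ ∈ ⁅H, H⁆ := Subgroup.commutator_mem_commutator hq hw
  have hm' : ⁅q, w⁆ ∈ H := (Subgroup.commutator_le.2 fun a ha b hb => by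
    rw [commutatorElement_def]
    exact mul_mem (mul_mem (mul_mem ha hb) (inv_mem ha)) (inv_mem hb)) hm
  rw [← S.bracket_eq_z a1 b1 (by rw [a2, b2, huv]) (a2 ▸ h1) (b2 ▸ h2) (by rw [a2, b2]; exact h3)]
  exact Subgroup.commutator_mem_commutator hm (Subgroup.commutator_mem_commutator hq hm')

/-- If `y` fixes all transpositions of `t` then `z` is in the double derived group. -/
theorem z_mem_of_fixed {t y : G} (ht : Commute t S.z) (hs : S.p t * S.p t = 1)
    (hc : (S.p t).support.card = 8) (hy : Commute y S.z) (hyt : Commute y t) (hy3 : y ^ 3 = 1)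
    (hfix : blockPerm (S.p t) (S.p y) = 1) : S.z ∈ derived2 (S.trip t y) := by
  set σ := S.p t with hσ
  have inv := invol_apply hs
  have hyσ := S.commute_p ht hy hyt
  have hyfix : ∀ i ∈ σ.support, S.p y i = i := by
    intro i hi
    rw [mem_support] at hi
    have h := (blockPerm_eq_one hyσ).1 hfix _ (swap_mem_pairs hs hi)
    have hcs : S.p y (σ i) = σ (S.p y i) := by rw [← Perm.mul_apply, hyσ.eq, Perm.mul_apply]
    have e : swap (S.p y i) (σ (S.p y i)) = swap i (σ i) := by
      rw [← hcs, Equiv.swap_apply_apply, h.eq, mul_inv_cancel_right]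
    rcases (pair_eq_iff hs hi).1 e.symm with h' | h'
    · exact h'
    · exfalso
      have h2 : S.p y (S.p y i) = i := by rw [h', hcs, h', inv]
      have h3 : S.p y (S.p y (S.p y i)) = i := by
        have := congrArg (fun f : Perm (Fin n) => f i) (show S.p y ^ 3 = 1 by rw [← S.p_pow hy, hy3, S.p_one])
        simpa [pow_succ] using this
      rw [h2, h'] at h3
      exact hi h3
  have hdis : ∀ {x : Perm (Fin n)}, x.support ⊆ σ.support → x * S.p y = S.p y * x := by
    intro x hx
    refine (Perm.Disjoint.commute fun i => ?_).eq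
    by_cases hi : i ∈ σ.support
    · exact Or.inr (hyfix i hi)
    · exact Or.inl (notMem_support.1 fun h => hi (hx h))
  obtain ⟨a, ha⟩ : σ.support.Nonempty := Finset.card_pos.1 (by omega)
  obtain ⟨b, hb, hb'⟩ : ∃ b ∈ σ.support, b ∉ ({a, σ a} : Finset (Fin n)) := by
    by_contra h
    push Not at h
    have := (Finset.card_le_card h).trans Finset.card_le_two
    omega
  obtain ⟨c, hc', hc''⟩ : ∃ c ∈ σ.support, c ∉ ({a, σ a, b, σ b} : Finset (Fin n)) := by
    by_contra h
    push Not at h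
    have := (Finset.card_le_card h).trans Finset.card_le_four
    omega
  rw [mem_support] at ha hb hc'
  simp only [Finset.mem_insert, Finset.mem_singleton, not_or] at hb' hc''
  obtain ⟨x, hx3, hxσ, xa, xb, xc, xsa, xsb, xsc, xo⟩ :=
    exists_threeBlock hs ha hb hc' hb'.1 hb'.2 hc''.1 hc''.2.1 hc''.2.2.1 hc''.2.2.2
  obtain ⟨q, hq, rfl, hq3⟩ := S.lift_odd (m := 3) (by decide) hx3
  obtain ⟨w, hw, hwt, hpw, -⟩ :=
    S.lift_two ht hs (m := 2) (by rw [hc]) ha hc' hc''.1 hc''.2.1
  rw [← hσ] at hpw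
  have hy3' : Odd 3 := by decide
  have hqsupp : (S.p q).support ⊆ σ.support := by
    intro i hi
    rw [mem_support] at hi ⊢
    by_contra hne
    refine hi (xo i fun h => ?_)
    simp only [Finset.mem_insert, Finset.mem_singleton] at h
    rcases h with rfl | rfl | rfl | rfl | rfl | rfl
    · exact ha hne
    · exact hb hne
    · exact hc' hne
    · rw [inv] at hne; exact ha hne.symm
    · rw [inv] at hne; exact hb hne.symm
    · rw [inv] at hne; exact hc' hne.symm
  have hwsupp : (S.p w).support ⊆ σ.support := by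
    obtain ⟨-, hag⟩ := two_pairs hs ha hc' hc''.1 hc''.2.1
    rw [hpw]
    exact (sub_invol hs hag).2.2.2
  have hqH : q ∈ S.trip t y := S.mem_trip.2 ⟨hq, S.commute_of_odd hq ht hy3' hq3 hxσ.eq,
    (S.commute_of_odd hy hq hy3' hy3 (hdis hqsupp).symm).symm⟩
  have hwH : w ∈ S.trip t y := S.mem_trip.2 ⟨hw, hwt,
    (S.commute_of_odd hy hw hy3' hy3 (hdis hwsupp).symm).symm⟩
  set A : Perm (Fin n) := swap a (σ a) with hA
  set B : Perm (Fin n) := swap b (σ b) with hB
  set C : Perm (Fin n) := swap c (σ c) with hC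
  set X := S.p q with hX
  have cA : X * A * X⁻¹ = B := by rw [hA, ← Equiv.swap_apply_apply, xa, xsa]
  have cB : X * B * X⁻¹ = C := by rw [hB, ← Equiv.swap_apply_apply, xb, xsb]
  have cC : X * C * X⁻¹ = A := by rw [hC, ← Equiv.swap_apply_apply, xc, xsc]
  have hmem := fun {i} (hi : σ i ≠ i) => swap_mem_pairs hs hi
  have neAB : A ≠ B := fun h => (not_or.2 hb') ((pair_eq_iff hs ha).1 h)
  have neAC : A ≠ C := fun h => (not_or.2 ⟨hc''.1, hc''.2.1⟩) ((pair_eq_iff hs ha).1 h)
  have neBC : B ≠ C := fun h => (not_or.2 hc''.2.2) ((pair_eq_iff hs hb).1 h)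
  have kAB : A * B = B * A := cycleFactorsFinset_mem_commute σ (hmem ha) (hmem hb) neAB
  have kAC : A * C = C * A := cycleFactorsFinset_mem_commute σ (hmem ha) (hmem hc') neAC
  have kBC : B * C = C * B := cycleFactorsFinset_mem_commute σ (hmem hb) (hmem hc') neBC
  have qA : A * A = 1 := swap_mul_self _ _
  have qB : B * B = 1 := swap_mul_self _ _
  have qC : C * C = 1 := swap_mul_self _ _
  have eu : ⁅X, S.p w⁆ = B * C := by
    rw [commutatorElement_def, hpw, mul_inv_rev, show X * (A * C) * X⁻¹ = (X * A * X⁻¹) * (X * C * X⁻¹) by group,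
      cA, cC, inv_eq_of_mul_eq_one_right qA, inv_eq_of_mul_eq_one_right qC, mul_assoc B A, ← mul_assoc A C,
      kAC, mul_assoc C A, qA, mul_one]
  have ev : ⁅X, B * C⁆ = A * B := by
    rw [commutatorElement_def, mul_inv_rev, show X * (B * C) * X⁻¹ = (X * B * X⁻¹) * (X * C * X⁻¹) by group,
      cB, cC, inv_eq_of_mul_eq_one_right qB, inv_eq_of_mul_eq_one_right qC, ← mul_assoc (C * A), mul_assoc C A C,
      kAC, ← mul_assoc C C, qC, one_mul]
  have euv : B * C * (A * B) = A * C := by
    rw [kBC, mul_assoc C B, ← mul_assoc B A, ← kAB, mul_assoc A B, qB, mul_one, kAC]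
  have evu : A * B * (B * C) = A * C := by rw [mul_assoc, ← mul_assoc B, qB, one_mul]
  refine S.z_mem_derived2 hqH hwH hq hw eu ev (euv.trans evu.symm) ?_ ?_ ?_
  · exact AltDoubleCoverInvol.cycleType_dt (two_pairs hs hb hc' hc''.2.2.1 hc''.2.2.2).1
  · exact AltDoubleCoverInvol.cycleType_dt (two_pairs hs ha hb hb'.1 hb'.2).1
  · rw [euv]
    exact AltDoubleCoverInvol.cycleType_dt (two_pairs hs ha hc' hc''.1 hc''.2.1).1

/-- In degree at least twelve some element moving the transpositions of `t` sees `z`. -/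
theorem exists_z_mem {t : G} (ht : Commute t S.z) (hs : S.p t * S.p t = 1)
    (hc : (S.p t).support.card = 8) (hn : 12 ≤ n) :
    ∃ y, Commute y S.z ∧ Commute y t ∧ y ^ 3 = 1 ∧ blockPerm (S.p t) (S.p y) ≠ 1 ∧
      S.z ∈ derived2 (S.trip t y) := by
  set σ := S.p t with hσ
  obtain ⟨a, ha⟩ : σ.support.Nonempty := Finset.card_pos.1 (by omega)
  obtain ⟨b, hb, hb'⟩ : ∃ b ∈ σ.support, b ∉ ({a, σ a} : Finset (Fin n)) := by
    by_contra h
    push Not at h
    have := (Finset.card_le_card h).trans Finset.card_le_two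
    omega
  obtain ⟨c, hc', hc''⟩ : ∃ c ∈ σ.support, c ∉ ({a, σ a, b, σ b} : Finset (Fin n)) := by
    by_contra h
    push Not at h
    have := (Finset.card_le_card h).trans Finset.card_le_four
    omega
  rw [mem_support] at ha hb hc'
  simp only [Finset.mem_insert, Finset.mem_singleton, not_or] at hb' hc''
  obtain ⟨x, hx3, hxσ, xa, xb, xc, xsa, xsb, xsc, xo⟩ :=
    exists_threeBlock hs ha hb hc' hb'.1 hb'.2 hc''.1 hc''.2.1 hc''.2.2.1 hc''.2.2.2
  obtain ⟨y, hy, rfl, hy3⟩ := S.lift_odd (m := 3) (by decide) hx3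
  have hodd : Odd 3 := by decide
  have hyt := S.commute_of_odd hy ht hodd hy3 hxσ.eq
  refine ⟨y, hy, hyt, hy3, fun h => ?_, ?_⟩
  · have := (blockPerm_eq_one hxσ).1 h _ (swap_mem_pairs hs ha)
    have e : swap (S.p y a) (S.p y (σ a)) = swap a (σ a) := by
      rw [Equiv.swap_apply_apply, this.eq, mul_inv_cancel_right]
    rw [xa, xsa] at e
    exact (not_or.2 hb') ((pair_eq_iff hs ha).1 e.symm)
  obtain ⟨D, hD, hDc⟩ := Finset.exists_subset_card_eq (s := σ.supportᶜ) (n := 4)
    (by rw [Finset.card_compl, Fintype.card_fin, hc]; omega)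
  obtain ⟨l, hlnd, hl⟩ := D.exists_list_nodup_eq
  match l, hl, hlnd with
  | [d1, d2, d3, d4], hl, hnd =>
    have hout : ∀ i ∈ ([d1, d2, d3, d4] : List (Fin n)), σ i = i ∧ S.p y i = i := by
      intro i hi
      have : i ∈ σ.supportᶜ := hD (by rw [← hl]; exact List.mem_toFinset.2 hi)
      rw [Finset.mem_compl, notMem_support] at this
      refine ⟨this, xo i fun h => ?_⟩
      simp only [Finset.mem_insert, Finset.mem_singleton] at h
      rcases h with rfl | rfl | rfl | rfl | rfl | rfl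
      · exact ha this
      · exact hb this
      · exact hc' this
      · rw [invol_apply hs] at this; exact ha this.symm
      · rw [invol_apply hs] at this; exact hb this.symm
      · rw [invol_apply hs] at this; exact hc' this.symm
    have hd := hnd
    simp only [List.nodup_cons, List.mem_cons, List.not_mem_nil, or_false, not_or, List.nodup_nil, and_true,
      not_false_iff] at hd
    obtain ⟨⟨n12, n13, n14⟩, ⟨n23, n24⟩, n34⟩ := hd
    obtain ⟨s1, y1⟩ := hout d1 (by simp)
    obtain ⟨s2, y2⟩ := hout d2 (by simp)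
    obtain ⟨s3, y3⟩ := hout d3 (by simp)
    obtain ⟨s4, y4⟩ := hout d4 (by simp)
    set Q : Perm (Fin n) := swap d1 d2 * swap d2 d3 with hQ
    have hcomm : ∀ {i j : Fin n} (g : Perm (Fin n)), g i = i → g j = j → g * swap i j = swap i j * g := by
      intro i j g hi hj
      have := (Equiv.swap_apply_apply g i j).symm
      rw [hi, hj, mul_inv_eq_iff_eq_mul] at this
      exact this
    have hQσ : Q * σ = σ * Q := by
      rw [hQ, mul_assoc, ← hcomm σ s2 s3, ← mul_assoc, ← hcomm σ s1 s2, mul_assoc]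
    have hQy : Q * S.p y = S.p y * Q := by
      rw [hQ, mul_assoc, ← hcomm _ y2 y3, ← mul_assoc, ← hcomm _ y1 y2, mul_assoc]
    have hQ1 : Q d1 = d2 := by rw [hQ, Perm.mul_apply, swap_apply_of_ne_of_ne n12 n13, swap_apply_left]
    have hQ2 : Q d2 = d3 := by
      rw [hQ, Perm.mul_apply, swap_apply_left, swap_apply_of_ne_of_ne (Ne.symm n13) (Ne.symm n23)]
    have hQ3 : Q d3 = d1 := by rw [hQ, Perm.mul_apply, swap_apply_right, swap_apply_right]
    have hQ4 : Q d4 = d4 := by
      rw [hQ, Perm.mul_apply, swap_apply_of_ne_of_ne (Ne.symm n24) (Ne.symm n34),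
        swap_apply_of_ne_of_ne (Ne.symm n14) (Ne.symm n24)]
    have hQ3' : Q ^ 3 = 1 := by
      have : IsThreeCycle Q := by
        rw [hQ, swap_comm d1 d2]
        exact isThreeCycle_swap_mul_swap_same (Ne.symm n12) n23 n13
      rw [← this.orderOf, pow_orderOf_eq_one]
    obtain ⟨q, hq, hpq, hq3⟩ := S.lift_odd (m := 3) hodd hQ3'
    set W : Perm (Fin n) := swap d1 d2 * swap d3 d4 with hW
    obtain ⟨w, hw, hpw⟩ := S.lift W (mem_alternatingGroup.1 (AltDoubleCoverInvol.dt_mem hnd))
    have hwt : Commute w t := (S.comm_dt (i := d1) (j := d3) (k := d2) (l := d4) hw ht (hpw.trans hW) s1 s3 s2 s4)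
    have hwy : Commute w y := S.comm_dt (i := d1) (j := d3) (k := d2) (l := d4) hw hy (hpw.trans hW) y1 y3 y2 y4
    have hqH : q ∈ S.trip t y := S.mem_trip.2 ⟨hq, S.commute_of_odd hq ht hodd hq3 (by rw [hpq]; exact hQσ),
      S.commute_of_odd hq hy hodd hq3 (by rw [hpq]; exact hQy)⟩
    have hwH : w ∈ S.trip t y := S.mem_trip.2 ⟨hw, hwt, hwy⟩
    have n12' := Ne.symm n12
    have m1 : [d1, d3, d2, d4].Nodup := by simp [n12, n13, n14, n24, n34, Ne.symm n23]
    have m2 : [d1, d4, d2, d3].Nodup := by simp [n12, n13, n14, n23, Ne.symm n34, Ne.symm n24]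
    have f := AltDoubleCover.four_points hnd
    have iW : W⁻¹ = W := inv_eq_of_mul_eq_one_right f.2.2.2
    have iU : (swap d1 d3 * swap d2 d4)⁻¹ = swap d1 d3 * swap d2 d4 :=
      inv_eq_of_mul_eq_one_right (AltDoubleCover.four_points m1).2.2.2
    have m0 : [d2, d3, d1, d4].Nodup := by simp [n23, n24, n34, n14, Ne.symm n12, Ne.symm n13]
    have m3 : [d1, d3, d4, d2].Nodup := by simp [n13, n14, n12, n34, Ne.symm n23, Ne.symm n24]
    have eu : ⁅S.p q, S.p w⁆ = swap d1 d3 * swap d2 d4 := by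
      rw [hpq, hpw, commutatorElement_def, iW, hW, AltDoubleCover.conj_swap_mul_swap, hQ1, hQ2, hQ3, hQ4]
      have g := (AltDoubleCover.four_points m0).2.1
      rw [swap_comm d2 d1, swap_comm d3 d1] at g
      rw [g]
      exact (Perm.Disjoint.commute (by
        rw [Perm.disjoint_iff_disjoint_support, support_swap n24, support_swap n13]
        simp [Ne.symm n12, Ne.symm n23, Ne.symm n14, Ne.symm n34, n12, n23, n14, n34])).eq
    have ev : ⁅S.p q, swap d1 d3 * swap d2 d4⁆ = swap d1 d4 * swap d2 d3 := by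
      rw [hpq, commutatorElement_def, iU, AltDoubleCover.conj_swap_mul_swap, hQ1, hQ2, hQ3, hQ4, swap_comm d2 d1]
      exact f.2.1
    have g1 := (AltDoubleCover.four_points m3).2.1
    have g2 := (AltDoubleCover.four_points m3).2.2.1
    rw [swap_comm d4 d2, swap_comm d3 d2] at g1 g2
    exact S.z_mem_derived2 hqH hwH hq hw eu ev (g1.trans g2.symm) (AltDoubleCoverInvol.cycleType_dt m1)
      (AltDoubleCoverInvol.cycleType_dt m2)
      (by rw [g1]; exact AltDoubleCoverInvol.cycleType_dt hnd)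
  | [], hl, _ => rw [← hl] at hDc; simp at hDc
  | [_], hl, _ => rw [← hl] at hDc; simp at hDc
  | [_, _], hl, hnd => rw [← hl, List.toFinset_card_of_nodup hnd] at hDc; simp at hDc
  | [_, _, _], hl, hnd => rw [← hl, List.toFinset_card_of_nodup hnd] at hDc; simp at hDc
  | _ :: _ :: _ :: _ :: _ :: _, hl, hnd =>
    rw [← hl, List.toFinset_card_of_nodup hnd] at hDc; simp at hDc

include S in
/-- Degree at most eleven. -/
theorem le_eleven [Finite G] [IsSimpleGroup G] : n ≤ 11 := by
  by_contra hn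
  obtain ⟨g, h, hne⟩ := S.exists_fused
  obtain ⟨c8, c8'⟩ := S.fused_eight h hne
  set t := g * S.z * g⁻¹ with htdef
  have hs := (S.fused_support h hne).1
  obtain ⟨r, r1, r2, r3⟩ := S.exists_rot h hne (m := 2) (by omega) c8 c8' h hs c8
  obtain ⟨y, hy, hyt, hy3, hmove, hz⟩ := S.exists_z_mem h hs c8 (by omega)
  set y' := r * y * r⁻¹ with hy'
  have conjc : ∀ {u v : G}, Commute u v → Commute (r * u * r⁻¹) (r * v * r⁻¹) := fun h => (Commute.conj_iff r).2 h
  have hy't : Commute y' t := by rw [← r1]; exact conjc hy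
  have hy'z : Commute y' S.z := by rw [← r3]; exact conjc (hyt.mul_right hy)
  have hy'3 : y' ^ 3 = 1 := by rw [hy', conj_pow, hy3, mul_one, mul_inv_cancel]
  have hmap : (S.trip t y).map (MulAut.conj r).toMonoidHom = S.trip t y' := by
    ext c
    constructor
    · rintro ⟨d, hd, rfl⟩
      obtain ⟨d1, d2, d3⟩ := S.mem_trip.1 hd
      refine S.mem_trip.2 ⟨?_, ?_, conjc d3⟩
      · rw [← r3]; exact conjc (d2.mul_right d1)
      · rw [← r1]; exact conjc d1
    · intro hc
      obtain ⟨c1, c2, c3⟩ := S.mem_trip.1 hc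
      refine ⟨r⁻¹ * c * r, S.mem_trip.2 ⟨?_, ?_, ?_⟩, by simp [mul_assoc]⟩
      · have := (Commute.conj_iff r⁻¹).2 c2
        rw [← r1] at this
        simpa [mul_assoc] using this
      · have := (Commute.conj_iff r⁻¹).2 (c2.mul_right c1)
        rw [← r2] at this
        simpa [mul_assoc] using this
      · have := (Commute.conj_iff r⁻¹).2 c3
        rw [hy'] at this
        simpa [mul_assoc] using this
  have ht' : t ∈ derived2 (S.trip t y') := by
    have := Subgroup.mem_map_of_mem (MulAut.conj r).toMonoidHom hz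
    rw [derived2_map, hmap] at this
    rw [← r1] at *
    simpa using this
  have hz' : S.z ∈ derived2 (S.trip t y') := by
    by_cases hb : blockPerm (S.p t) (S.p y') = 1
    · exact S.z_mem_of_fixed h hs c8 hy'z hy't hy'3 hb
    · exact absurd ht' (S.not_mem_derived2 h hs c8 hy'z hy't hy'3 hb)
  have htz : t * S.z ∈ derived2 (S.trip t y') := mul_mem ht' hz'
  rw [← hmap, ← derived2_map] at htz
  obtain ⟨d, hd, hde⟩ := htz
  have : d = t := (MulAut.conj r).injective (hde.trans r2.symm)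
  exact S.not_mem_derived2 h hs c8 hy hyt hy3 hmove (this ▸ hd)

end Setup

end CfsgLib.AltInvolCent
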