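import Cfsg.Agent.AltInvolCent.Squares

/-!
# The involution is fused inside its centralizer

By the Z*-theorem `z` has a conjugate `t ≠ z` in its centralizer. For degree at most seven there is
no such involution. An element of order three modulo the centralizer of `⟨z, t⟩` permuting `z`, `t`,
`t z` is constructed when both sides see `t` with the same support.
-/

set_option autoImplicit false
set_option linter.unusedSectionVars false

namespace CfsgLib.AltInvolCent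

open Equiv Equiv.Perm

namespace Setup

variable {G : Type*} [Group G] {n : ℕ} (S : Setup G n)

theorem mem_cent_iff {a : G} : a ∈ Subgroup.centralizer ({S.z} : Set G) ↔ Commute a S.z :=
  Subgroup.mem_centralizer_singleton_iff

include S in
theorem not_all_commute : ¬ ∀ a b : G, Commute a b := by
  intro h
  have hn := S.hn
  set i0 : Fin n := ⟨0, by omega⟩
  set i1 : Fin n := ⟨1, by omega⟩
  set i2 : Fin n := ⟨2, by omega⟩
  set i3 : Fin n := ⟨3, by omega⟩
  set i4 : Fin n := ⟨4, by omega⟩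
  have h1 : [i0, i1, i2, i3].Nodup := by simp [i0, i1, i2, i3, Fin.ext_iff]
  have h2 : [i0, i4, i2, i3].Nodup := by simp [i0, i4, i2, i3, Fin.ext_iff]
  obtain ⟨a, ha, hpa⟩ := S.lift _ (mem_alternatingGroup.1 (AltDoubleCoverInvol.dt_mem h1))
  obtain ⟨b, hb, hpb⟩ := S.lift _ (mem_alternatingGroup.1 (AltDoubleCoverInvol.dt_mem h2))
  have e : (S.p a * S.p b) i0 = (S.p b * S.p a) i0 := by
    rw [← S.p_mul ha hb, ← S.p_mul hb ha, (h a b).eq]
  rw [hpa, hpb] at e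
  simp [i0, i1, i2, i3, i4, swap_apply_def, Fin.ext_iff] at e

/-- The Z*-theorem: `z` has another conjugate in its centralizer. -/
theorem exists_fused [Finite G] [IsSimpleGroup G] :
    ∃ g, Commute (g * S.z * g⁻¹) S.z ∧ g * S.z * g⁻¹ ≠ S.z := by
  by_contra hc
  push Not at hc
  have hiso : Cfsg.IsIsolatedInvolution S.z := ⟨S.hz, fun g h => hc g h.symm⟩
  obtain ⟨N, hN, hodd, hcomm⟩ := ZStar.exists_oddNormal hiso
  rcases hN.eq_bot_or_eq_top with rfl | rfl
  · have hz : S.z ∈ Subgroup.center G := Subgroup.mem_center_iff.2 fun g => by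
      have h := Subgroup.mem_bot.1 (hcomm g)
      rw [mul_inv_eq_one, mul_inv_eq_iff_eq_mul] at h
      exact h.symm
    rcases (inferInstance : (Subgroup.center G).Normal).eq_bot_or_eq_top with h | h
    · rw [h, Subgroup.mem_bot] at hz
      exact S.z_ne hz
    · exact S.not_all_commute fun a b => Subgroup.mem_center_iff.1 (show b ∈ Subgroup.center G by simp [h]) a
  · rw [Subgroup.card_top] at hodd
    have := orderOf_dvd_natCard S.z
    rw [S.hz] at this
    exact (Nat.not_even_iff_odd.2 hodd) (even_iff_two_dvd.2 this)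

theorem conj_sq (g : G) : g * S.z * g⁻¹ * (g * S.z * g⁻¹) = 1 := by
  rw [show g * S.z * g⁻¹ * (g * S.z * g⁻¹) = g * (S.z * S.z) * g⁻¹ by group, S.z_sq, mul_one, mul_inv_cancel]

theorem conj_ne_one (g : G) : g * S.z * g⁻¹ ≠ 1 := fun h => S.z_ne (conj_eq_one_iff.1 h)

/-- The support of a conjugate of `z` in the centralizer. -/
theorem fused_support {g : G} (h : Commute (g * S.z * g⁻¹) S.z) (hne : g * S.z * g⁻¹ ≠ S.z) :
    S.p (g * S.z * g⁻¹) * S.p (g * S.z * g⁻¹) = 1 ∧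
      ∃ m, 0 < m ∧ Even m ∧ (S.p (g * S.z * g⁻¹)).support.card = 4 * m :=
  S.invol_support h (S.conj_sq g) (S.conj_ne_one g) hne

include S in
/-- Degree at most seven is impossible. -/
theorem eight_le [Finite G] [IsSimpleGroup G] : 8 ≤ n := by
  obtain ⟨g, h, hne⟩ := S.exists_fused
  obtain ⟨-, m, hm, ⟨k, rfl⟩, hc⟩ := S.fused_support h hne
  have h1 := Finset.card_le_univ (S.p (g * S.z * g⁻¹)).support
  rw [Fintype.card_fin] at h1
  omega

theorem inv_fused {g : G} (h : Commute (g * S.z * g⁻¹) S.z) (hne : g * S.z * g⁻¹ ≠ S.z) :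
    Commute (g⁻¹ * S.z * g⁻¹⁻¹) S.z ∧ g⁻¹ * S.z * g⁻¹⁻¹ ≠ S.z := by
  rw [inv_inv]
  refine ⟨?_, fun e => hne ?_⟩
  · have h' : (g * S.z * g⁻¹) * S.z = S.z * (g * S.z * g⁻¹) := h.eq
    show g⁻¹ * S.z * g * S.z = S.z * (g⁻¹ * S.z * g)
    calc g⁻¹ * S.z * g * S.z = g⁻¹ * (S.z * (g * S.z * g⁻¹)) * g := by group
      _ = g⁻¹ * ((g * S.z * g⁻¹) * S.z) * g := by rw [h']
      _ = S.z * (g⁻¹ * S.z * g) := by group
  · conv_lhs => rw [← e]
    group

/-- If both sides see the same support there is an element permuting `z`, `t`, `t z` cyclically. -/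
theorem exists_rot {g : G} (h : Commute (g * S.z * g⁻¹) S.z) (hne : g * S.z * g⁻¹ ≠ S.z) {m : ℕ}
    (hm : 0 < m) (hc : (S.p (g * S.z * g⁻¹)).support.card = 4 * m)
    (hc' : (S.p (g⁻¹ * S.z * g⁻¹⁻¹)).support.card = 4 * m) {t : G} (ht : Commute t S.z)
    (hts : S.p t * S.p t = 1) (htc : (S.p t).support.card = 4 * m) :
    ∃ r, r * S.z * r⁻¹ = t ∧ r * t * r⁻¹ = t * S.z ∧ r * (t * S.z) * r⁻¹ = S.z := by
  obtain ⟨h', hne'⟩ := S.inv_fused h hne
  obtain ⟨c₁, hc₁, e₁⟩ := S.exists_conj_invol ht h hts (S.fused_support h hne).1 hm htc hc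
  obtain ⟨c₂, hc₂, e₂⟩ := S.exists_conj_invol h' ht (S.fused_support h' hne').1 hts hm hc' htc
  obtain ⟨y, hy, ey⟩ := S.exists_conj_z ht hts hm htc
  set φ := y * (c₂ * g⁻¹ * c₁) with hφ
  have ft : φ * t * φ⁻¹ = S.z := by
    rw [hφ, show y * (c₂ * g⁻¹ * c₁) * t * (y * (c₂ * g⁻¹ * c₁))⁻¹ =
      y * (c₂ * (g⁻¹ * (c₁ * t * c₁⁻¹) * g) * c₂⁻¹) * y⁻¹ by group, e₁,
      show g⁻¹ * (g * S.z * g⁻¹) * g = S.z by group, hc₂.eq, mul_inv_cancel_right, hy.eq, mul_inv_cancel_right]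
  have fz : φ * S.z * φ⁻¹ = t * S.z := by
    rw [hφ, show y * (c₂ * g⁻¹ * c₁) * S.z * (y * (c₂ * g⁻¹ * c₁))⁻¹ =
      y * (c₂ * (g⁻¹ * (c₁ * S.z * c₁⁻¹) * g⁻¹⁻¹) * c₂⁻¹) * y⁻¹ by group, hc₁.eq, mul_inv_cancel_right,
      e₂, ey]
  refine ⟨φ⁻¹, ?_, ?_, ?_⟩
  · rw [← ft]; group
  · have e : φ * (t * S.z) * φ⁻¹ = t := by
      rw [show φ * (t * S.z) * φ⁻¹ = (φ * t * φ⁻¹) * (φ * S.z * φ⁻¹) by group, ft, fz, ← mul_assoc,
        ← ht.eq, mul_assoc t S.z S.z, S.z_sq, mul_one]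
    conv_lhs => rw [← e]
    group
  · rw [← fz]; group

end Setup

end CfsgLib.AltInvolCent
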