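import Cfsg.Agent.AltInvolCent.Squares

/-!
# Inverted elements of three-power order in a centralizer

For a central element `X` of order three the elements of three-power order of `C(X)` inverted by `z`
form a group modulo `⟨X⟩` as soon as the product of two of them stays among them up to a power of `X`.
The consequences used for degrees nine and ten are derived from this one property.
-/

set_option autoImplicit false
set_option linter.unusedSectionVars false

namespace CfsgLib.AltInvolCent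

open Equiv Equiv.Perm

/-- Powers of a product of two elements with central commutator. -/
theorem mul_pow_comm {G : Type*} [Group G] {v w c : G} (hv : Commute c v) (hw : Commute c w)
    (h : w * v = v * w * c) : ∀ m : ℕ, (v * w) ^ m = v ^ m * w ^ m * c ^ m.choose 2 := by
  have sw : ∀ m : ℕ, w ^ m * v = v * w ^ m * c ^ m := by
    intro m
    induction m with
    | zero => simp
    | succ m ih =>
      rw [pow_succ' w m, mul_assoc w, ih, show w * (v * w ^ m * c ^ m) = w * v * w ^ m * c ^ m by group, h,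
        show v * w * c * w ^ m * c ^ m = v * w * (c * w ^ m) * c ^ m by group, (hw.pow_right m).eq, pow_succ' c m]
      group
  intro m
  induction m with
  | zero => simp
  | succ m ih =>
    rw [pow_succ (v * w) m, ih, mul_assoc (v ^ m * w ^ m), ((hv.mul_right hw).pow_left _).eq,
      show v ^ m * w ^ m * (v * w * c ^ m.choose 2) = v ^ m * (w ^ m * v) * w * c ^ m.choose 2 by group, sw,
      show v ^ m * (v * w ^ m * c ^ m) * w * c ^ m.choose 2 =
        v ^ m * v * w ^ m * (c ^ m * w) * c ^ m.choose 2 by group, (hw.pow_left m).eq,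
      Nat.choose_succ_succ', Nat.choose_one_right, pow_add, pow_succ v, pow_succ w]
    group

theorem pow_three_pow {G : Type*} [Group G] {w : G} {k l : ℕ} (hkl : k ≤ l) (h : w ^ 3 ^ k = 1) :
    w ^ 3 ^ l = 1 := by
  obtain ⟨d, rfl⟩ := Nat.exists_eq_add_of_le hkl
  rw [pow_add, pow_mul, h, one_pow]

theorem three_dvd_choose (k : ℕ) : 3 ∣ (3 ^ (k + 1)).choose 2 := by
  have h := Nat.choose_two_right (3 ^ (k + 1))
  obtain ⟨r, hr⟩ : 2 ∣ 3 ^ (k + 1) * (3 ^ (k + 1) - 1) := even_iff_two_dvd.1 (Nat.even_mul_pred_self _)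
  rw [h, hr, Nat.mul_div_cancel_left _ two_pos]
  refine (Nat.Coprime.dvd_mul_left (by decide : Nat.Coprime 3 2)).1 ⟨3 ^ k * (3 ^ (k + 1) - 1), ?_⟩
  rw [← hr, pow_succ']
  ring

namespace Setup

variable {G : Type*} [Group G] {n : ℕ} (S : Setup G n)

/-- Elements of three-power order commuting with `X` and inverted by `z`. -/
def inv3 (X : G) : Set G := {w | Commute w X ∧ S.z * w * S.z = w⁻¹ ∧ ∃ k, w ^ 3 ^ k = 1}

theorem z_conj_mul (a b : G) : S.z * (a * b) * S.z = S.z * a * S.z * (S.z * b * S.z) := by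
  rw [show S.z * a * S.z * (S.z * b * S.z) = S.z * a * (S.z * S.z) * b * S.z by group, S.z_sq]
  group

theorem z_conj_of_commute {a : G} (h : Commute a S.z) : S.z * a * S.z = a := by
  rw [← h.eq, mul_assoc, S.z_sq, mul_one]

theorem one_mem_inv3 (X : G) : 1 ∈ S.inv3 X :=
  ⟨Commute.one_left _, by rw [mul_one, S.z_sq, inv_one], 0, by simp⟩

theorem inv_mem_inv3 {X w : G} (hw : w ∈ S.inv3 X) : w⁻¹ ∈ S.inv3 X := by
  obtain ⟨h1, h2, k, h3⟩ := hw
  refine ⟨h1.inv_left, ?_, k, by rw [inv_pow, h3, inv_one]⟩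
  rw [show S.z * w⁻¹ * S.z = (S.z⁻¹ * w * S.z⁻¹)⁻¹ by group, S.z_inv, h2]

theorem mul_mem_inv3 {X v w : G} (hv : v ∈ S.inv3 X) (hw : w ∈ S.inv3 X) (h : Commute v w) :
    v * w ∈ S.inv3 X := by
  obtain ⟨h1, h2, k, h3⟩ := hv
  obtain ⟨g1, g2, l, g3⟩ := hw
  refine ⟨h1.mul_left g1, by rw [S.z_conj_mul, h2, g2, ← mul_inv_rev, h.eq], max k l, ?_⟩
  rw [h.mul_pow, pow_three_pow (le_max_left k l) h3, pow_three_pow (le_max_right k l) g3, mul_one]

theorem conj_mem_inv3 {X w d : G} (hd : Commute d S.z) (hw : w ∈ S.inv3 X) :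
    d * w * d⁻¹ ∈ S.inv3 (d * X * d⁻¹) := by
  obtain ⟨h1, h2, k, h3⟩ := hw
  refine ⟨(Commute.conj_iff d).2 h1, ?_, k, by rw [conj_pow, h3, mul_one, mul_inv_cancel]⟩
  rw [S.z_conj_mul, S.z_conj_mul, h2, S.z_conj_of_commute hd, S.z_conj_of_commute hd.inv_left]
  group

theorem inv3_inv (X : G) : S.inv3 X⁻¹ = S.inv3 X := by
  ext w
  show (Commute w X⁻¹ ∧ _) ↔ (Commute w X ∧ _)
  rw [Commute.inv_right_iff]

theorem eq_one_of_inv3 {X w : G} (hw : w ∈ S.inv3 X) (h : Commute w S.z) : w = 1 := by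
  obtain ⟨-, h2, k, h3⟩ := hw
  rw [S.z_conj_of_commute h] at h2
  obtain ⟨r, hr⟩ := (Odd.pow (by decide : Odd 3) : Odd (3 ^ k))
  rw [hr, pow_succ, pow_mul, sq] at h3
  rwa [show w * w = 1 by rw [mul_eq_one_iff_eq_inv]; exact h2, one_pow, one_mul] at h3

theorem eq_of_sq {v w : G} {k l : ℕ} (hv : v ^ 3 ^ k = 1) (hw : w ^ 3 ^ l = 1) (h : v * v = w * w) :
    v = w := by
  obtain ⟨r, hr⟩ := (Odd.pow (by decide : Odd 3) : Odd (3 ^ max k l))
  have e : ∀ x : G, x ^ 3 ^ max k l = 1 → x = (x * x) ^ (r + 1) := fun x hx => by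
    rw [← sq, ← pow_mul, show 2 * (r + 1) = 3 ^ max k l + 1 by omega, pow_succ, hx, one_mul]
  rw [e v (pow_three_pow (le_max_left k l) hv), e w (pow_three_pow (le_max_right k l) hw), h]

/-- An element of order three whose inverted elements of three-power order form a group modulo it. -/
structure Cyc (X : G) : Prop where
  comm : Commute X S.z
  cube : X ^ 3 = 1
  ne : X ≠ 1
  prod : ∀ v ∈ S.inv3 X, ∀ w ∈ S.inv3 X, ∃ i : ℕ, ∃ u ∈ S.inv3 X, v * w = X ^ i * u

namespace Cyc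

variable {S} {X : G} (hX : S.Cyc X)

include hX

theorem conj {d : G} (hd : Commute d S.z) : S.Cyc (d * X * d⁻¹) := by
  refine ⟨S.comm_conj hd hX.comm, by rw [conj_pow, hX.cube, mul_one, mul_inv_cancel],
    fun h => hX.ne (conj_eq_one_iff.1 h), fun v hv w hw => ?_⟩
  have hv' := S.conj_mem_inv3 hd.inv_left hv
  have hw' := S.conj_mem_inv3 hd.inv_left hw
  rw [show d⁻¹ * (d * X * d⁻¹) * d⁻¹⁻¹ = X by group] at hv' hw'
  obtain ⟨i, u, hu, e⟩ := hX.prod _ hv' _ hw'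
  refine ⟨i, d * u * d⁻¹, S.conj_mem_inv3 hd hu, ?_⟩
  rw [conj_pow, show d * X ^ i * d⁻¹ * (d * u * d⁻¹) = d * (X ^ i * u) * d⁻¹ by group, ← e]
  group

/-- Decompositions are unique. -/
theorem unique {i j : ℕ} {u u' : G} (hu : u ∈ S.inv3 X) (hu' : u' ∈ S.inv3 X)
    (h : X ^ i * u = X ^ j * u') : u = u' := by
  have hz := congrArg (fun g => S.z * g * S.z) h
  simp only [S.z_conj_mul, S.z_conj_of_commute (hX.comm.pow_left _), hu.2.1, hu'.2.1] at hz
  obtain ⟨k, hk⟩ := hu.2.2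
  obtain ⟨l, hl⟩ := hu'.2.2
  refine eq_of_sq hk hl ?_
  calc u * u = (X ^ i * u⁻¹)⁻¹ * (X ^ i * u) := by group
    _ = (X ^ j * u'⁻¹)⁻¹ * (X ^ j * u') := by rw [hz, h]
    _ = u' * u' := by group

theorem eq_of_pow {i j : ℕ} {u u' : G} (hu : u ∈ S.inv3 X) (hu' : u' ∈ S.inv3 X)
    (h : X ^ i * u = X ^ j * u') : X ^ i = X ^ j := by
  rw [hX.unique hu hu' h] at h
  exact mul_right_cancel h

/-- Commutators are powers of `X`. -/
theorem swap_eq {v w u : G} (hv : v ∈ S.inv3 X) (hw : w ∈ S.inv3 X) (hu : u ∈ S.inv3 X) {i : ℕ}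
    (e : v * w = X ^ i * u) : w * v = v * w * X ^ i := by
  have h := congrArg (fun g => S.z * g * S.z) e
  simp only [S.z_conj_mul, S.z_conj_of_commute (hX.comm.pow_left _), hv.2.1, hw.2.1, hu.2.1] at h
  have h3 : X ^ i * X ^ i * X ^ i = 1 := by
    rw [← pow_add, ← pow_add, show i + i + i = 3 * i by omega, pow_mul, hX.cube, one_pow]
  have hc : Commute (X ^ i) u := (hu.1.pow_right i).symm
  calc w * v = (v⁻¹ * w⁻¹)⁻¹ := by group
    _ = u * (X ^ i)⁻¹ := by rw [h]; group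
    _ = u * (X ^ i * X ^ i) := by rw [inv_eq_of_mul_eq_one_left h3]
    _ = X ^ i * u * X ^ i := by rw [← mul_assoc, ← hc.eq]
    _ = v * w * X ^ i := by rw [e]

theorem exists_swap {v w : G} (hv : v ∈ S.inv3 X) (hw : w ∈ S.inv3 X) :
    ∃ i : ℕ, w * v = v * w * X ^ i := by
  obtain ⟨i, u, hu, e⟩ := hX.prod v hv w hw
  exact ⟨i, hX.swap_eq hv hw hu e⟩

/-- The fixed points of an element centralizing `X` and `z` form a three-power. -/
theorem card_fixed [Finite G] {Q : Set G} (hQX : ∀ q ∈ Q, Commute q X) :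
    ∃ k, {w ∈ S.inv3 X | ∀ q ∈ Q, Commute w q}.ncard = 3 ^ k := by
  have : Fact (Nat.Prime 3) := ⟨Nat.prime_three⟩
  set F : Set G := {w ∈ S.inv3 X | ∀ q ∈ Q, Commute w q} with hF
  have cX : ∀ {w}, w ∈ F → ∀ i : ℕ, Commute (X ^ i) w := fun hw i => (hw.1.1.pow_right i).symm
  let H : Subgroup G :=
    { carrier := {g | ∃ i : ℕ, ∃ w ∈ F, g = X ^ i * w}
      one_mem' := ⟨0, 1, ⟨S.one_mem_inv3 X, fun q _ => Commute.one_left q⟩, by simp⟩
      mul_mem' := by
        rintro _ _ ⟨i, v, hv, rfl⟩ ⟨j, w, hw, rfl⟩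
        obtain ⟨l, u, hu, e⟩ := hX.prod v hv.1 w hw.1
        refine ⟨i + j + l, u, ⟨hu, ?_⟩, ?_⟩
        · intro q hq
          have : Commute (X ^ l * u) q := e ▸ (hv.2 q hq).mul_left (hw.2 q hq)
          have h' := (((hQX q hq).pow_right l).symm.inv_left).mul_left this
          rwa [inv_mul_cancel_left] at h'
        · rw [show X ^ i * v * (X ^ j * w) = X ^ i * (v * X ^ j) * w by group, ← (cX hv j).eq,
            show X ^ i * (X ^ j * v) * w = X ^ i * X ^ j * (v * w) by group, e, ← mul_assoc, ← pow_add, ← pow_add]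
      inv_mem' := by
        rintro _ ⟨i, w, hw, rfl⟩
        refine ⟨2 * i, w⁻¹, ⟨S.inv_mem_inv3 hw.1, fun q hq => (hw.2 q hq).inv_left⟩, ?_⟩
        rw [mul_inv_rev, ((cX hw i).inv_inv).symm.eq]
        congr 1
        refine inv_eq_of_mul_eq_one_left ?_
        rw [← pow_add, show 2 * i + i = 3 * i by omega, pow_mul, hX.cube, one_pow] }
  have hH : IsPGroup 3 H := by
    rintro ⟨_, i, w, hw, rfl⟩
    obtain ⟨k, hk⟩ := hw.1.2.2
    refine ⟨k + 1, Subtype.ext ?_⟩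
    show (X ^ i * w) ^ 3 ^ (k + 1) = 1
    rw [(cX hw i).mul_pow, pow_three_pow (Nat.le_succ k) hk, mul_one, ← pow_mul, pow_succ' 3, mul_left_comm,
      pow_mul, hX.cube, one_pow]
  obtain ⟨m, hm⟩ := IsPGroup.iff_card.1 hH
  have hord : orderOf X = 3 := orderOf_eq_prime hX.cube hX.ne
  have hbij : Function.Bijective (fun p : Fin 3 × F => (⟨X ^ p.1.val * p.2.1, p.1.val, p.2.1, p.2.2, rfl⟩ : H)) := by
    refine ⟨?_, ?_⟩
    · rintro ⟨i, w, hw⟩ ⟨j, w', hw'⟩ e
      have e' : X ^ i.val * w = X ^ j.val * w' := congrArg Subtype.val e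
      have h1 := hX.unique hw.1 hw'.1 e'
      have h2 := hX.eq_of_pow hw.1 hw'.1 e'
      have h3 := pow_injOn_Iio_orderOf (x := X) (by rw [hord]; exact i.2) (by rw [hord]; exact j.2) h2
      exact Prod.ext (Fin.ext h3) (Subtype.ext h1)
    · rintro ⟨_, i, w, hw, rfl⟩
      refine ⟨(⟨i % 3, by omega⟩, ⟨w, hw⟩), Subtype.ext ?_⟩
      show X ^ (i % 3) * w = X ^ i * w
      rw [← hord, pow_mod_orderOf]
  have hcard := Nat.card_eq_of_bijective _ hbij
  rw [Nat.card_prod, Nat.card_eq_fintype_card, Fintype.card_fin, hm, Nat.card_coe_set_eq] at hcard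
  obtain ⟨k, -, hk⟩ := (Nat.dvd_prime_pow Nat.prime_three).1 (⟨3, by rw [mul_comm]; exact hcard.symm⟩ : F.ncard ∣ 3 ^ m)
  exact ⟨k, hk⟩

theorem card_inv3 [Finite G] : ∃ k, (S.inv3 X).ncard = 3 ^ k := by
  obtain ⟨k, hk⟩ := hX.card_fixed (Q := ∅) (fun q hq => hq.elim)
  refine ⟨k, ?_⟩
  rwa [show {w ∈ S.inv3 X | ∀ q ∈ (∅ : Set G), Commute w q} = S.inv3 X from
    Set.ext fun w => ⟨fun h => h.1, fun h => ⟨h, fun q hq => hq.elim⟩⟩] at hk

/-- An element of prime order permuting a fixed-point set fixes as many points modulo the prime. -/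
theorem fixed_modEq [Finite G] {Q : Set G} {q : G} (hqz : Commute q S.z) (hqX : Commute q X)
    (hqQ : ∀ c ∈ Q, Commute q c) {p : ℕ} (hp : p.Prime) (hq : q ^ p = 1) :
    {w ∈ S.inv3 X | ∀ c ∈ Q, Commute w c}.ncard ≡
      {w ∈ S.inv3 X | ∀ c ∈ insert q Q, Commute w c}.ncard [MOD p] := by
  classical
  have := Fact.mk hp
  set F := {w ∈ S.inv3 X | ∀ c ∈ Q, Commute w c} with hF
  have hmem : ∀ {d}, Commute d S.z → Commute d X → (∀ c ∈ Q, Commute d c) → ∀ {w}, w ∈ F → d * w * d⁻¹ ∈ F := by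
    intro d h1 h2 h3 w hw
    have := S.conj_mem_inv3 h1 hw.1
    rw [h2.eq, mul_inv_cancel_right] at this
    refine ⟨this, fun c hc => ?_⟩
    have h4 := (Commute.conj_iff d).2 (hw.2 c hc)
    rwa [(h3 c hc).eq, mul_inv_cancel_right] at h4
  let e : Equiv.Perm F :=
    { toFun := fun w => ⟨q * w.1 * q⁻¹, hmem hqz hqX hqQ w.2⟩
      invFun := fun w => ⟨q⁻¹ * w.1 * q⁻¹⁻¹, hmem hqz.inv_left hqX.inv_left (fun c hc => (hqQ c hc).inv_left) w.2⟩
      left_inv := fun w => Subtype.ext (by show q⁻¹ * (q * w.1 * q⁻¹) * q⁻¹⁻¹ = w.1; group)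
      right_inv := fun w => Subtype.ext (by show q * (q⁻¹ * w.1 * q⁻¹⁻¹) * q⁻¹ = w.1; group) }
  have he : ∀ (j : ℕ) (w : F), ((e ^ j) w).1 = q ^ j * w.1 * (q ^ j)⁻¹ := by
    intro j
    induction j with
    | zero => simp
    | succ j ih =>
      intro w
      rw [pow_succ', Perm.mul_apply]
      show q * ((e ^ j) w).1 * q⁻¹ = _
      rw [ih, pow_succ' q]
      group
  have he1 : e ^ p ^ 1 = 1 := Equiv.ext fun w => Subtype.ext (by rw [pow_one, he, hq]; simp)
  have : Fintype F := Fintype.ofFinite _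
  have h := (card_compl_support_modEq (σ := e) he1).symm
  rw [← Nat.card_eq_fintype_card, Nat.card_coe_set_eq] at h
  have himg : {w ∈ S.inv3 X | ∀ c ∈ insert q Q, Commute w c} = Subtype.val '' (↑(e.supportᶜ) : Set F) := by
    ext w
    constructor
    · rintro ⟨hw, hc⟩
      refine ⟨⟨w, hw, fun c hc' => hc c (Set.mem_insert_of_mem _ hc')⟩, ?_, rfl⟩
      rw [Finset.mem_coe, Finset.mem_compl, mem_support, not_not]
      exact Subtype.ext (by show q * w * q⁻¹ = w; rw [← (hc q (Set.mem_insert _ _)).eq, mul_inv_cancel_right])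
    · rintro ⟨⟨w, hw⟩, h', rfl⟩
      rw [Finset.mem_coe, Finset.mem_compl, mem_support, not_not] at h'
      have := congrArg Subtype.val h'
      refine ⟨hw.1, fun c hc => ?_⟩
      rcases Set.mem_insert_iff.1 hc with rfl | hc
      · exact (mul_inv_eq_iff_eq_mul.1 this).symm
      · exact hw.2 c hc
  rwa [himg, Set.ncard_image_of_injective _ Subtype.val_injective, Set.ncard_coe_finset]

/-- A centralizer of all inverted elements with a product of two transpositions kills them. -/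
theorem kill {c d : G} (hcz : Commute c S.z) (hdz : Commute d S.z) (hdX : Commute d X)
    (hall : ∀ w ∈ S.inv3 X, Commute w c)
    (hsq : S.p (c * (d * c * d⁻¹)) * S.p (c * (d * c * d⁻¹)) = 1)
    (hsupp : (S.p (c * (d * c * d⁻¹))).support.card = 4) : ∀ w ∈ S.inv3 X, w = 1 := by
  intro w hw
  refine S.eq_one_of_inv3 hw ?_
  have h1 : Commute w (d * c * d⁻¹) := by
    have h2 : d⁻¹ * w * d⁻¹⁻¹ ∈ S.inv3 X := by
      have := S.conj_mem_inv3 hdz.inv_left hw
      rwa [hdX.inv_left.eq, mul_inv_cancel_right] at this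
    have := (Commute.conj_iff d).2 (hall _ h2)
    rwa [show d * (d⁻¹ * w * d⁻¹⁻¹) * d⁻¹ = w by group] at this
  have he := (hall w hw).mul_right h1
  have hez : Commute (c * (d * c * d⁻¹)) S.z := hcz.mul_left (S.comm_conj hdz hcz)
  have := he.mul_right he
  rwa [S.sq_invol 1 hez hsq (by rw [mul_one, hsupp]), pow_one] at this

/-- Splitting under an involution inverting `X`. -/
theorem card_le_mul [Finite G] {τ : G} (hτz : Commute τ S.z) (hττ : τ * τ = 1) (hτX : τ * X * τ⁻¹ = X⁻¹) :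
    (S.inv3 X).ncard ≤ {w ∈ S.inv3 X | Commute w τ}.ncard * {w ∈ S.inv3 X | Commute w (τ * S.z)}.ncard := by
  classical
  have hτi : τ⁻¹ = τ := inv_eq_of_mul_eq_one_right hττ
  have cX : ∀ {w}, w ∈ S.inv3 X → ∀ i : ℕ, Commute (X ^ i) w := fun hw i => (hw.1.pow_right i).symm
  have conjmem : ∀ {w}, w ∈ S.inv3 X → τ * w * τ⁻¹ ∈ S.inv3 X := fun {w} hw => by
    have := S.conj_mem_inv3 hτz hw
    rwa [hτX, inv3_inv] at this
  have conjpow : ∀ i : ℕ, τ * X ^ i * τ⁻¹ = X ^ (2 * i) := fun i => by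
    rw [← conj_pow, hτX, inv_pow]
    refine inv_eq_of_mul_eq_one_left ?_
    rw [← pow_add, show 2 * i + i = 3 * i by omega, pow_mul, hX.cube, one_pow]
  have key : ∀ w ∈ S.inv3 X, ∃ a b i j, a ∈ {w ∈ S.inv3 X | Commute w τ} ∧
      b ∈ {w ∈ S.inv3 X | Commute w (τ * S.z)} ∧ w * (τ * w * τ⁻¹) = X ^ i * a ∧
      w * (τ * w * τ⁻¹)⁻¹ = X ^ j * b := by
    intro w hw
    set v := τ * w * τ⁻¹ with hv
    have hvm : v ∈ S.inv3 X := conjmem hw
    have hvw : τ * v * τ⁻¹ = w := by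
      rw [hv, hτi, show τ * (τ * w * τ) * τ = (τ * τ) * w * (τ * τ) by group, hττ, one_mul, mul_one]
    obtain ⟨i, a, ha, e⟩ := hX.prod w hw v hvm
    obtain ⟨j, b, hb, e'⟩ := hX.prod w hw v⁻¹ (S.inv_mem_inv3 hvm)
    refine ⟨a, b, i, j, ⟨ha, ?_⟩, ⟨hb, ?_⟩, e, e'⟩
    · have h1 : τ * (X ^ i * a) * τ⁻¹ = v * w := by
        rw [← e, show τ * (w * v) * τ⁻¹ = τ * w * τ⁻¹ * (τ * v * τ⁻¹) by group, hvw]
      have h2 : v * w = X ^ (2 * i) * a := by
        rw [hX.swap_eq hw hvm ha e, e, mul_assoc, ← (cX ha i).eq, ← mul_assoc, ← pow_add, ← two_mul]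
      rw [h2, show τ * (X ^ i * a) * τ⁻¹ = τ * X ^ i * τ⁻¹ * (τ * a * τ⁻¹) by group, conjpow] at h1
      exact (mul_inv_eq_iff_eq_mul.1 (mul_left_cancel h1)).symm
    · have h1 : τ * (X ^ j * b) * τ⁻¹ = (w * v⁻¹)⁻¹ := by
        rw [← e', show τ * (w * v⁻¹) * τ⁻¹ = τ * w * τ⁻¹ * (τ * v * τ⁻¹)⁻¹ by group, hvw, ← hv]
        group
      rw [e', show τ * (X ^ j * b) * τ⁻¹ = τ * X ^ j * τ⁻¹ * (τ * b * τ⁻¹) by group, conjpow, mul_inv_rev,
        ((cX hb j).inv_inv).symm.eq] at h1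
      have h2 : (X ^ j)⁻¹ = X ^ (2 * j) := by
        rw [← conjpow, ← conj_pow, hτX, inv_pow]
      rw [h2] at h1
      show b * (τ * S.z) = τ * S.z * b
      have h3 : τ * b⁻¹ * τ⁻¹ = b := by
        rw [show τ * b⁻¹ * τ⁻¹ = (τ * b * τ⁻¹)⁻¹ by group, mul_left_cancel h1, inv_inv]
      calc b * (τ * S.z) = τ * b⁻¹ * τ⁻¹ * (τ * S.z) := by rw [h3]
        _ = τ * (b⁻¹ * S.z) := by group
        _ = τ * S.z * b := by rw [← hb.2.1, mul_assoc (S.z * b), S.z_sq, mul_one, ← mul_assoc]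
  choose a b i j ha hb ea eb using key
  refine le_trans ?_ (Set.ncard_prod (s := {w ∈ S.inv3 X | Commute w τ})
    (t := {w ∈ S.inv3 X | Commute w (τ * S.z)})).le
  refine Set.ncard_le_ncard_of_injOn (fun w => if h : w ∈ S.inv3 X then (a w h, b w h) else (1, 1)) ?_ ?_
    (Set.toFinite _)
  · intro w hw
    rw [dif_pos hw]
    exact Set.mem_prod.2 ⟨ha w hw, hb w hw⟩
  · intro w hw w' hw' e
    simp only [dif_pos hw, dif_pos hw', Prod.mk.injEq] at e
    have sq : ∀ x (hx : x ∈ S.inv3 X), ∃ l : ℕ, a x hx * b x hx = X ^ l * (x * x) := by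
      intro x hx
      obtain ⟨l, hl⟩ := hX.exists_swap hx (conjmem hx)
      have h1 : ∀ l : ℕ, Commute (X ^ l) (τ * x * τ⁻¹) := cX (conjmem hx)
      refine ⟨2 * i x hx + 2 * j x hx + l, ?_⟩
      have ea' : a x hx = X ^ (2 * i x hx) * (x * (τ * x * τ⁻¹)) := by
        rw [ea x hx, ← mul_assoc, ← pow_add, show 2 * i x hx + i x hx = 3 * i x hx by omega, pow_mul, hX.cube,
          one_pow, one_mul]
      have eb' : b x hx = X ^ (2 * j x hx) * (x * (τ * x * τ⁻¹)⁻¹) := by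
        rw [eb x hx, ← mul_assoc, ← pow_add, show 2 * j x hx + j x hx = 3 * j x hx by omega, pow_mul, hX.cube,
          one_pow, one_mul]
      generalize hy : τ * x * τ⁻¹ = y at ea' eb' hl h1
      rw [ea', eb', show X ^ (2 * i x hx) * (x * y) * (X ^ (2 * j x hx) * (x * y⁻¹)) =
        X ^ (2 * i x hx) * ((x * y) * X ^ (2 * j x hx)) * x * y⁻¹ by group,
        ← ((cX hx _).mul_right (h1 _)).eq,
        show X ^ (2 * i x hx) * (X ^ (2 * j x hx) * (x * y)) * x * y⁻¹ =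
          X ^ (2 * i x hx) * X ^ (2 * j x hx) * (x * (y * x)) * y⁻¹ by group, hl,
        show x * (x * y * X ^ l) = x * x * (y * X ^ l) by group, ← (h1 l).eq,
        show X ^ (2 * i x hx) * X ^ (2 * j x hx) * (x * x * (X ^ l * y)) * y⁻¹ =
          X ^ (2 * i x hx) * X ^ (2 * j x hx) * (x * x * X ^ l) by group,
        ← ((cX hx l).mul_right (cX hx l)).eq, ← mul_assoc, ← pow_add, ← pow_add]
    obtain ⟨l, hl⟩ := sq w hw
    obtain ⟨l', hl'⟩ := sq w' hw'
    rw [e.1, e.2, hl'] at hl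
    obtain ⟨k, hk⟩ := hw.2.2
    obtain ⟨k', hk'⟩ := hw'.2.2
    exact (eq_of_sq hk' hk (hX.unique (S.mul_mem_inv3 hw' hw' (Commute.refl _))
      (S.mul_mem_inv3 hw hw (Commute.refl _)) hl)).symm

end Cyc

end Setup

end CfsgLib.AltInvolCent
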