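import Cfsg.Agent.AltInvolCent.Setup

/-!
# Permutations of nine or ten points

The three standard three-cycles `x = (0 1 2)`, `y = (3 4 5)`, `a = (6 7 8)`, the group they generate,
and three involutions.
-/

set_option autoImplicit false
set_option linter.unusedSectionVars false
set_option maxRecDepth 4000

namespace CfsgLib.AltInvolCent.NinePerms

open Equiv Equiv.Perm

variable {n : ℕ}

/-- The point `i` of `Fin n`. -/
def pt (n i : ℕ) (h : i < n := by omega) : Fin n := ⟨i, h⟩

section Defs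

variable (hn : 9 ≤ n)

/-- `(0 1 2)`. -/
def px : Perm (Fin n) := swap (pt n 0) (pt n 1) * swap (pt n 1) (pt n 2)
/-- `(3 4 5)`. -/
def py : Perm (Fin n) := swap (pt n 3) (pt n 4) * swap (pt n 4) (pt n 5)
/-- `(6 7 8)`. -/
def pa : Perm (Fin n) := swap (pt n 6) (pt n 7) * swap (pt n 7) (pt n 8)
/-- `(0 3)(1 4)(2 5)(6 7)`. -/
def pt0 : Perm (Fin n) :=
  swap (pt n 0) (pt n 3) * swap (pt n 1) (pt n 4) * swap (pt n 2) (pt n 5) * swap (pt n 6) (pt n 7)
/-- `(0 1)(3 4)`. -/
def pu : Perm (Fin n) := swap (pt n 0) (pt n 1) * swap (pt n 3) (pt n 4)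
/-- `(1 2)(3 6)(4 7)(5 8)`. -/
def ptau : Perm (Fin n) :=
  swap (pt n 1) (pt n 2) * swap (pt n 3) (pt n 6) * swap (pt n 4) (pt n 7) * swap (pt n 5) (pt n 8)
/-- The elements of the elementary group generated by the three cycles. -/
def el (v : Fin 3 × Fin 3 × Fin 3) : Perm (Fin n) :=
  px hn ^ v.1.val * py hn ^ v.2.1.val * pa hn ^ v.2.2.val

end Defs

theorem el_facts (hn : 9 ≤ n) (hn' : n ≤ 10) :
    ((∀ v, el hn v ^ 3 = 1) ∧ px hn = el hn (1, 0, 0) ∧ py hn = el hn (0, 1, 0) ∧ pa hn = el hn (0, 0, 1)) ∧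
    (∀ v w, el hn v * el hn w = el hn (v + w)) ∧ Function.Injective (el hn) := by
  rcases (by omega : n = 9 ∨ n = 10) with rfl | rfl <;> refine ⟨?_, ?_, ?_⟩ <;> decide +kernel +revert

theorem inv_facts (hn : 9 ≤ n) (hn' : n ≤ 10) :
    (∀ v : Fin 3 × Fin 3 × Fin 3, pt0 hn * el hn v * (pt0 hn)⁻¹ = el hn (v.2.1, v.1, -v.2.2)) ∧
    (∀ v : Fin 3 × Fin 3 × Fin 3, pu hn * el hn v * (pu hn)⁻¹ = el hn (-v.1, -v.2.1, v.2.2)) ∧
    ptau hn * px hn * (ptau hn)⁻¹ = (px hn)⁻¹ := by
  rcases (by omega : n = 9 ∨ n = 10) with rfl | rfl <;> refine ⟨?_, ?_, ?_⟩ <;> decide +kernel +revert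

theorem invol_facts (hn : 9 ≤ n) (hn' : n ≤ 10) :
    (pt0 hn * pt0 hn = 1 ∧ pu hn * pu hn = 1 ∧ ptau hn * ptau hn = 1) ∧
    ((pt0 hn).support.card = 8 ∧ (pu hn).support.card = 4 ∧ (ptau hn).support.card = 8) ∧
    (pt0 hn * pu hn = pu hn * pt0 hn ∧ (pu hn * pt0 hn).support.card = 8) ∧
    (sign (pt0 hn) = 1 ∧ sign (pu hn) = 1 ∧ sign (ptau hn) = 1) := by
  rcases (by omega : n = 9 ∨ n = 10) with rfl | rfl <;> decide +kernel +revert

/-- Two double transpositions inside the four transpositions of `pt0` and their product. -/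
theorem flip_facts (hn : 9 ≤ n) (hn' : n ≤ 10) :
    [pt n 0, pt n 3, pt n 1, pt n 4].Nodup ∧ [pt n 1, pt n 4, pt n 2, pt n 5].Nodup ∧
      [pt n 0, pt n 3, pt n 2, pt n 5].Nodup ∧
    pt0 hn (pt n 0) = pt n 3 ∧ pt0 hn (pt n 1) = pt n 4 ∧ pt0 hn (pt n 2) = pt n 5 := by
  rcases (by omega : n = 9 ∨ n = 10) with rfl | rfl <;> decide +kernel +revert

theorem el_values (hn : 9 ≤ n) (hn' : n ≤ 10) :
    (∀ w : Fin 3 × Fin 3 × Fin 3, (el hn w (pt n 0)).val = w.1.val ∧
      (el hn w (pt n 3)).val = w.2.1.val + 3 ∧ (el hn w (pt n 6)).val = w.2.2.val + 6 ∧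
      el hn w * px hn = px hn * el hn w ∧ el hn w * py hn = py hn * el hn w ∧
      el hn w * pa hn = pa hn * el hn w ∧ sign (el hn w) = 1) ∧
    (∀ k : Fin n, k.val < 9 →
      k = pt n 0 ∨ k = px hn (pt n 0) ∨ k = px hn (px hn (pt n 0)) ∨
      k = pt n 3 ∨ k = py hn (pt n 3) ∨ k = py hn (py hn (pt n 3)) ∨
      k = pt n 6 ∨ k = pa hn (pt n 6) ∨ k = pa hn (pa hn (pt n 6))) ∧
    (∀ j : Fin 3, el hn (j, j, 0) = el hn (1, 1, 0) ^ j.val) := by
  rcases (by omega : n = 9 ∨ n = 10) with rfl | rfl <;> decide +kernel +revert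

/-- `(1 2)(4 5)(7 8)`. -/
def pflip (hn : 9 ≤ n) : Perm (Fin n) :=
  swap (pt n 1) (pt n 2) * swap (pt n 4) (pt n 5) * swap (pt n 7) (pt n 8)

theorem pflip_facts (hn : 9 ≤ n) (hn' : n ≤ 10) :
    sign (pflip hn) = -1 ∧ pflip hn * px hn * (pflip hn)⁻¹ = (px hn)⁻¹ ∧
      pflip hn * py hn * (pflip hn)⁻¹ = (py hn)⁻¹ ∧ pflip hn * pa hn * (pflip hn)⁻¹ = (pa hn)⁻¹ := by
  rcases (by omega : n = 9 ∨ n = 10) with rfl | rfl <;> decide +kernel +revert

set_option synthInstance.maxSize 2000 in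
set_option synthInstance.maxHeartbeats 200000 in
theorem plane_facts (hn : 9 ≤ n) (hn' : n ≤ 10) :
    ∀ e : Fin 3, e ≠ 0 → ∀ m : Fin n,
      (el hn (1, 1, 0) m ≠ m ↔ m.val < 6) ∧ (el hn (1, 0, e) m ≠ m ↔ m.val < 3 ∨ (6 ≤ m.val ∧ m.val < 9)) ∧
      (m.val < 3 → el hn (1, 1, 0) m = px hn m ∧ (el hn (1, 1, 0))⁻¹ m = (px hn)⁻¹ m) ∧
      (3 ≤ m.val ∧ m.val < 6 → el hn (1, 1, 0) m = py hn m ∧ (el hn (1, 1, 0))⁻¹ m = (py hn)⁻¹ m) ∧
      (6 ≤ m.val ∧ m.val < 9 → (e = 1 → el hn (1, 0, e) m = pa hn m ∧ (el hn (1, 0, e))⁻¹ m = (pa hn)⁻¹ m) ∧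
        (e = 2 → el hn (1, 0, e) m = (pa hn)⁻¹ m ∧ (el hn (1, 0, e))⁻¹ m = pa hn m)) ∧
      (¬ m.val < 3 → px hn m = m ∧ (px hn)⁻¹ m = m) ∧
      (¬ (3 ≤ m.val ∧ m.val < 6) → py hn m = m ∧ (py hn)⁻¹ m = m) ∧
      (¬ (6 ≤ m.val ∧ m.val < 9) → pa hn m = m ∧ (pa hn)⁻¹ m = m) := by
  rcases (by omega : n = 9 ∨ n = 10) with rfl | rfl <;> decide +kernel +revert

theorem xy_facts (hn : 9 ≤ n) (hn' : n ≤ 10) :
    (∀ i : Fin n, (el hn (1, 1, 0) i ≠ i ↔ i.val < 6)) ∧
      (∀ i : Fin n, i.val < 6 → ((el hn (1, 1, 0) i).val / 3 = i.val / 3)) ∧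
      (∀ i j : Fin n, i.val < 6 → j.val < 6 → i.val / 3 = j.val / 3 →
        j = i ∨ j = el hn (1, 1, 0) i ∨ j = el hn (1, 1, 0) (el hn (1, 1, 0) i)) ∧
      (∀ i : Fin n, (px hn i = if i.val < 3 then el hn (1, 1, 0) i else i) ∧
        (py hn i = if 3 ≤ i.val ∧ i.val < 6 then el hn (1, 1, 0) i else i)) := by
  rcases (by omega : n = 9 ∨ n = 10) with rfl | rfl <;> decide +kernel +revert

theorem pa_values (hn : 9 ≤ n) (hn' : n ≤ 10) :
    (∀ i : Fin 3, pa hn (pt n (i.val + 6)) = pt n ((i + 1).val + 6)) ∧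
        (∀ i : Fin n, ¬ (6 ≤ i.val ∧ i.val < 9) → pa hn i = i) := by
  rcases (by omega : n = 9 ∨ n = 10) with rfl | rfl <;> decide +kernel +revert

theorem xy_t0_facts (hn : 9 ≤ n) (hn' : n ≤ 10) :
    (∀ i : Fin n, (el hn (1, 1, 0) i ≠ i ↔ i.val < 6)) ∧
      (∀ j : Fin n, j.val < 6 → ∃ (i : Fin 3) (e : Bool),
        (el hn (i, i, 0) * (if e then pt0 hn else 1) : Perm (Fin n)) (pt n 0) = j) ∧
      (∀ (i : Fin 3) (e : Bool),
        let h := el hn (i, i, 0) * (if e then pt0 hn else 1)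
        h * el hn (1, 1, 0) = el hn (1, 1, 0) * h ∧ h * pt0 hn = pt0 hn * h ∧ sign h = 1) ∧
      (∀ k : Fin n, k.val < 6 → ∃ (i : Fin 3) (e : Bool),
        k = (el hn (i, i, 0) * (if e then pt0 hn else 1) : Perm (Fin n)) (pt n 0)) ∧
      (∀ k : Fin n, pt0 hn k = k ↔ 8 ≤ k.val) ∧ pt0 hn (pt n 6) = pt n 7 ∧ pt0 hn (pt n 7) = pt n 6 := by
  rcases (by omega : n = 9 ∨ n = 10) with rfl | rfl <;> decide +kernel +revert

theorem fix_of_sq {α : Type*} {c : Perm α} {m : ℕ} (hm : Odd m) (hc : c ^ m = 1) {u : α}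
    (h : c (c u) = u) : c u = u := by
  obtain ⟨k, rfl⟩ := hm
  have h2 : ∀ j : ℕ, (c ^ (2 * j)) u = u := by
    intro j
    induction j with
    | zero => simp
    | succ j ih => rw [show 2 * (j + 1) = 2 * j + 2 by ring, pow_add, Perm.mul_apply, sq, Perm.mul_apply, h, ih]
  have := congrArg (fun f : Perm α => f u) hc
  simp only [pow_succ', Perm.mul_apply, h2, Perm.one_apply] at this
  exact this

/-- An involution commuting with an element of order three that maps a moved point into its own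
orbit fixes that orbit. -/
theorem support_le_of_fix {s h : Perm (Fin n)} (hs : s * s = 1) (hc : s * h = h * s) (h3 : h ^ 3 = 1)
    {i : Fin n} (hi : h i ≠ i) (hsi : s i = i ∨ s i = h i ∨ s i = h (h i)) : s.support.card + 3 ≤ n := by
  have inv := apply_apply_of_invol hs
  have com : ∀ m, s (h m) = h (s m) := fun m => by rw [← Perm.mul_apply, hc, Perm.mul_apply]
  have p3 : ∀ m, h (h (h m)) = m := fun m => by
    have := congrArg (fun f : Perm (Fin n) => f m) h3
    simpa [pow_succ] using this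
  have e2 : h (h i) ≠ i := fun e => hi (by have := p3 i; rw [e] at this; exact this)
  have hfi : s i = i := by
    rcases hsi with h1 | h1 | h1
    · exact h1
    · have := inv i; rw [h1, com, h1] at this; exact absurd this e2
    · have := inv i; rw [h1, com, com, h1, p3] at this; exact absurd this hi
  have hsub : s.support ⊆ Finset.univ \ {i, h i, h (h i)} := by
    intro m hm
    rw [mem_support] at hm
    rw [Finset.mem_sdiff]
    refine ⟨Finset.mem_univ _, fun h' => hm ?_⟩
    simp only [Finset.mem_insert, Finset.mem_singleton] at h'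
    rcases h' with rfl | rfl | rfl
    · exact hfi
    · rw [com, hfi]
    · rw [com, com, hfi]
  have := Finset.card_le_card hsub
  rw [Finset.card_sdiff_of_subset (Finset.subset_univ _), Finset.card_univ, Fintype.card_fin,
    Finset.card_insert_of_notMem (by simp [Ne.symm hi, Ne.symm e2]),
    Finset.card_pair (fun e => hi (h.injective e.symm))] at this
  have h3n := Finset.card_le_univ ({i, h i, h (h i)} : Finset (Fin n))
  rw [Fintype.card_fin, Finset.card_insert_of_notMem (by simp [Ne.symm hi, Ne.symm e2]),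
    Finset.card_pair (fun e => hi (h.injective e.symm))] at h3n
  omega

/-- Weight one or three. -/
def OddWeight (v : Fin 3 × Fin 3 × Fin 3) : Prop :=
  (v.1 ≠ 0 ∧ v.2.1 = 0 ∧ v.2.2 = 0) ∨ (v.1 = 0 ∧ v.2.1 ≠ 0 ∧ v.2.2 = 0) ∨ (v.1 = 0 ∧ v.2.1 = 0 ∧ v.2.2 ≠ 0) ∨
    (v.1 ≠ 0 ∧ v.2.1 ≠ 0 ∧ v.2.2 ≠ 0)

instance (v : Fin 3 × Fin 3 × Fin 3) : Decidable (OddWeight v) := by unfold OddWeight; infer_instance

theorem orbit_facts (hn : 9 ≤ n) (hn' : n ≤ 10) :
    ∀ v, OddWeight v → el hn v ≠ 1 ∧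
      (∀ i j : Fin n, el hn v i ≠ i → el hn v j ≠ j → i.val / 3 = j.val / 3 →
        j = i ∨ j = el hn v i ∨ j = el hn v (el hn v i)) ∧
      (∀ i : Fin n, el hn v i ≠ i → i.val < 9 ∧ (el hn v i).val / 3 = i.val / 3) ∧
      ((∀ i j : Fin n, el hn v i ≠ i → el hn v j ≠ j → i.val / 3 = j.val / 3) ∨
        ∀ i : Fin n, i.val < 9 → el hn v i ≠ i) := by
  rcases (by omega : n = 9 ∨ n = 10) with rfl | rfl <;> decide +kernel +revert

/-- An involution commuting with an element of weight one or three moves at most seven points. -/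
theorem support_le_seven (hn : 9 ≤ n) (hn' : n ≤ 10) {v : Fin 3 × Fin 3 × Fin 3} (hv : OddWeight v)
    {s : Perm (Fin n)} (hs : s * s = 1) (hc : s * el hn v = el hn v * s) : s.support.card ≤ 7 := by
  obtain ⟨hne, horb, hblock, hcase⟩ := orbit_facts hn hn' v hv
  have h3 := (el_facts hn hn').1.1 v
  set h := el hn v with hh
  have inv := apply_apply_of_invol hs
  have com : ∀ m, s (h m) = h (s m) := fun m => by rw [← Perm.mul_apply, hc, Perm.mul_apply]
  have mov : ∀ m, h m ≠ m → h (s m) ≠ s m := fun m hm e => hm (s.injective (by rw [com, e]))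
  suffices ∃ i, h i ≠ i ∧ (s i).val / 3 = i.val / 3 by
    obtain ⟨i, hi, hsi⟩ := this
    have := support_le_of_fix hs hc h3 hi (horb i (s i) hi (mov i hi) hsi.symm)
    omega
  rcases hcase with h1 | h1
  · obtain ⟨i, hi⟩ : ∃ i, h i ≠ i := by
      by_contra hc'
      push Not at hc'
      exact hne (Equiv.ext hc')
    exact ⟨i, hi, (h1 i (s i) hi (mov i hi)).symm⟩
  · let rep : Fin 3 → Fin n := fun b => pt n (3 * b.val)
    have hrep : ∀ b, h (rep b) ≠ rep b := fun b => h1 _ (by simp [rep, pt]; omega)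
    let π : Fin 3 → Fin 3 := fun b =>
      ⟨(s (rep b)).val / 3, by have := (hblock _ (mov _ (hrep b))).1; omega⟩
    have hsame : ∀ i j, h i ≠ i → h j ≠ j → i.val / 3 = j.val / 3 → (s i).val / 3 = (s j).val / 3 := by
      intro i j hi hj hij
      rcases horb i j hi hj hij with e | e | e
      · rw [e]
      · rw [e, com, (hblock _ (mov i hi)).2]
      · rw [e, com, com, (hblock _ ?_).2, (hblock _ (mov i hi)).2]
        exact fun e' => mov i hi (h.injective e')
    have hππ : ∀ b, π (π b) = b := by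
      intro b
      refine Fin.ext ?_
      show (s (rep (π b))).val / 3 = b.val
      rw [hsame (rep (π b)) (s (rep b)) (hrep _) (mov _ (hrep b)) (by simp [rep, π, pt]), inv]
      simp [rep, pt]
    obtain ⟨b, hb⟩ : ∃ b, π b = b := by
      have key : ∀ q : Fin 3 → Fin 3, (∀ b, q (q b) = b) → ∃ b, q b = b := by decide
      exact key π hππ
    exact ⟨rep b, hrep b, by simpa [rep, pt, π, Fin.ext_iff] using hb⟩

theorem moved_facts (hn : 9 ≤ n) (hn' : n ≤ 10) :
    ∀ m : Fin n, (px hn m ≠ m ↔ m.val < 3) ∧ (py hn m ≠ m ↔ 3 ≤ m.val ∧ m.val < 6) ∧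
      (pa hn m ≠ m ↔ 6 ≤ m.val ∧ m.val < 9) := by
  rcases (by omega : n = 9 ∨ n = 10) with rfl | rfl <;> decide +kernel +revert

/-- The centralizer of the three cycles. -/
theorem cent_three (hn : 9 ≤ n) (hn' : n ≤ 10) {c : Perm (Fin n)} (hx : c * px hn = px hn * c)
    (hy : c * py hn = py hn * c) (ha : c * pa hn = pa hn * c) : ∃ v, c = el hn v := by
  have key : ∀ {h : Perm (Fin n)}, c * h = h * c → ∀ m, c (h m) = h (c m) := fun e m => by
    rw [← Perm.mul_apply, e, Perm.mul_apply]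
  have mov : ∀ {h : Perm (Fin n)}, c * h = h * c → ∀ m, h m ≠ m → h (c m) ≠ c m := fun e m hm e' =>
    hm (c.injective (by rw [key e, e']))
  have p0 := (moved_facts hn hn' _).1.1 (mov hx (pt n 0) ((moved_facts hn hn' _).1.2 (by simp [pt])))
  have p3 := (moved_facts hn hn' _).2.1.1 (mov hy (pt n 3) ((moved_facts hn hn' _).2.1.2 (by simp [pt])))
  have p6 := (moved_facts hn hn' _).2.2.1 (mov ha (pt n 6) ((moved_facts hn hn' _).2.2.2 (by simp [pt])))
  set v : Fin 3 × Fin 3 × Fin 3 := (⟨(c (pt n 0)).val, p0⟩, ⟨(c (pt n 3)).val - 3, by omega⟩,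
    ⟨(c (pt n 6)).val - 6, by omega⟩) with hv
  obtain ⟨e0, e3, e6, ex, ey, ea, -⟩ := (el_values hn hn').1 v
  refine ⟨v, Equiv.ext fun m => ?_⟩
  have b0 : c (pt n 0) = el hn v (pt n 0) := Fin.ext e0.symm
  have b3 : c (pt n 3) = el hn v (pt n 3) := Fin.ext (by rw [e3]; simp [hv]; omega)
  have b6 : c (pt n 6) = el hn v (pt n 6) := Fin.ext (by rw [e6]; simp [hv]; omega)
  have key' : ∀ {h : Perm (Fin n)}, el hn v * h = h * el hn v → ∀ k, el hn v (h k) = h (el hn v k) :=
    fun e k => by rw [← Perm.mul_apply, e, Perm.mul_apply]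
  have lift : ∀ {h : Perm (Fin n)}, c * h = h * c → el hn v * h = h * el hn v → ∀ {k},
      c k = el hn v k → c (h k) = el hn v (h k) := fun {h} e e' {k} hk => by rw [key e, key' e', hk]
  have cover := (el_values hn hn').2.1
  have low : ∀ k : Fin n, k.val < 9 → c k = el hn v k := by
    intro k hk
    rcases cover k hk with rfl | rfl | rfl | rfl | rfl | rfl | rfl | rfl | rfl
    · exact b0
    · exact lift hx ex b0
    · exact lift hx ex (lift hx ex b0)
    · exact b3
    · exact lift hy ey b3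
    · exact lift hy ey (lift hy ey b3)
    · exact b6
    · exact lift ha ea b6
    · exact lift ha ea (lift ha ea b6)
  by_cases hm : m.val < 9
  · exact low m hm
  · obtain ⟨k, hk⟩ := (el hn v).surjective (c m)
    by_cases hk9 : k.val < 9
    · exfalso
      rw [← low k hk9] at hk
      rw [c.injective hk] at hk9
      exact hm hk9
    · have : k = m := Fin.ext (by omega)
      rw [← hk, this]

/-- An even permutation cannot invert all three cycles and square to one. -/
theorem not_invert_three (hn : 9 ≤ n) (hn' : n ≤ 10) {s : Perm (Fin n)} (hs : sign s = 1)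
    (hx : s * px hn * s⁻¹ = (px hn)⁻¹) (hy : s * py hn * s⁻¹ = (py hn)⁻¹)
    (ha : s * pa hn * s⁻¹ = (pa hn)⁻¹) : False := by
  set s0 := pflip hn with hs0
  have f := pflip_facts hn hn'
  have hc : ∀ {h : Perm (Fin n)}, s * h * s⁻¹ = h⁻¹ → s0 * h * s0⁻¹ = h⁻¹ → (s⁻¹ * s0) * h = h * (s⁻¹ * s0) := by
    intro h e1 e2
    calc (s⁻¹ * s0) * h = s⁻¹ * (s0 * h * s0⁻¹) * s0 := by group
      _ = s⁻¹ * (s * h * s⁻¹) * s0 := by rw [e1, e2]
      _ = h * (s⁻¹ * s0) := by group
  obtain ⟨v, hv⟩ := cent_three hn hn' (hc hx f.2.1) (hc hy f.2.2.1) (hc ha f.2.2.2)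
  have h1 := fun w => ((el_values hn hn').1 w).2.2.2.2.2.2
  have := congrArg sign hv
  rw [map_mul, map_inv, hs, f.1, h1, inv_one, one_mul] at this
  exact absurd this (by decide)

/-- An even permutation cannot invert `x y` and `x a ^ ± 1`. -/
theorem not_invert_plane (hn : 9 ≤ n) (hn' : n ≤ 10) {s : Perm (Fin n)} (hs : sign s = 1) {ε : Fin 3}
    (hε : ε ≠ 0) (h1 : s * el hn (1, 1, 0) * s⁻¹ = (el hn (1, 1, 0))⁻¹)
    (h2 : s * el hn (1, 0, ε) * s⁻¹ = (el hn (1, 0, ε))⁻¹) : False := by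
  have F := plane_facts hn hn' ε hε
  have move : ∀ {h : Perm (Fin n)}, s * h * s⁻¹ = h⁻¹ → ∀ m, h (s⁻¹ m) ≠ s⁻¹ m ↔ h m ≠ m := by
    intro h e m
    have e' : s (h (s⁻¹ m)) = h⁻¹ m := by rw [← e]; rfl
    refine not_congr ⟨fun hh => ?_, fun hh => ?_⟩
    · rw [hh] at e'
      simp only [Perm.coe_inv, Equiv.apply_symm_apply] at e'
      exact ((Equiv.eq_symm_apply h).1 e')
    · have : h⁻¹ m = m := by rw [Perm.inv_eq_iff_eq, hh]
      rw [this] at e'
      refine s.injective ?_
      simp only [Perm.coe_inv, Equiv.apply_symm_apply] at e' ⊢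
      exact e'
  set a' : Fin n → Fin n := fun m => s⁻¹ m with ha'
  have k6 : ∀ m, (a' m).val < 6 ↔ m.val < 6 := fun m =>
    (F (a' m)).1.symm.trans ((move h1 m).trans (F m).1)
  have k9 : ∀ m, ((a' m).val < 3 ∨ (6 ≤ (a' m).val ∧ (a' m).val < 9)) ↔ (m.val < 3 ∨ (6 ≤ m.val ∧ m.val < 9)) :=
    fun m => (F (a' m)).2.1.symm.trans ((move h2 m).trans (F m).2.1)
  have e1 : ∀ m, s (el hn (1, 1, 0) (a' m)) = (el hn (1, 1, 0))⁻¹ m := fun m => by rw [← h1]; rfl
  have e2 : ∀ m, s (el hn (1, 0, ε) (a' m)) = (el hn (1, 0, ε))⁻¹ m := fun m => by rw [← h2]; rfl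
  have fixed : ∀ m, s (a' m) = m := fun m => by simp [ha']
  have hX : s * px hn * s⁻¹ = (px hn)⁻¹ := by
    refine Equiv.ext fun m => ?_
    show s (px hn (a' m)) = _
    have := k6 m
    have := k9 m
    by_cases hm : m.val < 3
    · rw [← ((F _).2.2.1 (by omega)).1, e1, ((F m).2.2.1 hm).2]
    · rw [((F _).2.2.2.2.2.1 (by omega)).1, fixed, ((F m).2.2.2.2.2.1 hm).2]
  have hY : s * py hn * s⁻¹ = (py hn)⁻¹ := by
    refine Equiv.ext fun m => ?_
    show s (py hn (a' m)) = _
    have := k6 m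
    have := k9 m
    by_cases hm : 3 ≤ m.val ∧ m.val < 6
    · rw [← ((F _).2.2.2.1 (by omega)).1, e1, ((F m).2.2.2.1 hm).2]
    · rw [((F _).2.2.2.2.2.2.1 (by omega)).1, fixed, ((F m).2.2.2.2.2.2.1 hm).2]
  have hA : s * pa hn * s⁻¹ = (pa hn)⁻¹ := by
    rcases (show ∀ e : Fin 3, e ≠ 0 → e = 1 ∨ e = 2 by decide) ε hε with hε' | hε'
    · refine Equiv.ext fun m => ?_
      show s (pa hn (a' m)) = _
      have := k6 m
      have := k9 m
      by_cases hm : 6 ≤ m.val ∧ m.val < 9
      · rw [← (((F _).2.2.2.2.1 (by omega)).1 hε').1, e2, (((F m).2.2.2.2.1 hm).1 hε').2]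
      · rw [((F _).2.2.2.2.2.2.2 (by omega)).1, fixed, ((F m).2.2.2.2.2.2.2 hm).2]
    · have hi : s * (pa hn)⁻¹ * s⁻¹ = pa hn := by
        refine Equiv.ext fun m => ?_
        show s ((pa hn)⁻¹ (a' m)) = _
        have := k6 m
        have := k9 m
        by_cases hm : 6 ≤ m.val ∧ m.val < 9
        · rw [← (((F _).2.2.2.2.1 (by omega)).2 hε').1, e2, (((F m).2.2.2.2.1 hm).2 hε').2]
        · rw [((F _).2.2.2.2.2.2.2 (by omega)).2, fixed, ((F m).2.2.2.2.2.2.2 hm).1]
      calc s * pa hn * s⁻¹ = (s * (pa hn)⁻¹ * s⁻¹)⁻¹ := by group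
        _ = (pa hn)⁻¹ := by rw [hi]
  exact not_invert_three hn hn' hs hX hY hA

/-- Elements of odd order commuting with `x y` and preserving `{6, 7, 8}`. -/
theorem odd_cent_xy (hn : 9 ≤ n) (hn' : n ≤ 10) {c : Perm (Fin n)} {m : ℕ} (hm : Odd m) (hcm : c ^ m = 1)
    (hc : c * el hn (1, 1, 0) = el hn (1, 1, 0) * c)
    (h678 : ∀ i : Fin n, 6 ≤ i.val → i.val < 9 → 6 ≤ (c i).val ∧ (c i).val < 9) : ∃ v, c = el hn v := by
  have F := xy_facts hn hn'
  obtain ⟨Fm, Fb, Fo, Fxy⟩ := F
  set h := el hn (1, 1, 0) with hh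
  have com : ∀ i, c (h i) = h (c i) := fun i => by rw [← Perm.mul_apply, hc, Perm.mul_apply]
  have k6 : ∀ i, (c i).val < 6 ↔ i.val < 6 := fun i => by
    rw [← Fm, ← Fm, not_iff_not]
    exact ⟨fun e => c.injective (by rw [com, e]), fun e => by rw [← com, e]⟩
  have same : ∀ i j : Fin n, i.val < 6 → j.val < 6 → i.val / 3 = j.val / 3 → (c i).val / 3 = (c j).val / 3 := by
    intro i j hi hj hij
    rcases Fo i j hi hj hij with e | e | e
    · rw [e]
    · rw [e, com, Fb _ ((k6 i).2 hi)]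
    · have h2 := (k6 (h i)).2 (by have := Fb i hi; omega)
      rw [e, com, Fb _ h2, com, Fb _ ((k6 i).2 hi)]
  have other : ∀ i : Fin n, i.val < 6 → (c (c i)).val / 3 = i.val / 3 → (c i).val / 3 = i.val / 3 := by
    intro i hi h2
    obtain ⟨k, rfl⟩ := hm
    have key : ∀ j : ℕ, ((c ^ (2 * j)) i).val < 6 ∧ ((c ^ (2 * j)) i).val / 3 = i.val / 3 := by
      intro j
      induction j with
      | zero => simp [hi]
      | succ j ih =>
        rw [show 2 * (j + 1) = 2 + 2 * j by ring, pow_add, sq, Perm.mul_apply, Perm.mul_apply]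
        refine ⟨(k6 _).2 ((k6 _).2 ih.1), ?_⟩
        rw [same _ _ ((k6 _).2 ih.1) ((k6 _).2 hi) (same _ _ ih.1 hi ih.2)]
        exact h2
    have h1 := congrArg (fun f : Perm (Fin n) => f i) hcm
    simp only [pow_succ', Perm.mul_apply, Perm.one_apply] at h1
    have := same _ _ (key k).1 hi (key k).2
    rw [h1] at this
    exact this.symm
  have blk : ∀ i : Fin n, i.val < 6 → (c i).val / 3 = i.val / 3 := by
    intro i hi
    by_contra hne
    refine hne (other i hi ?_)
    have h1 := (k6 i).2 hi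
    have h2 := (k6 _).2 h1
    by_contra hne2
    have : (c (c i)).val / 3 = (c i).val / 3 := by omega
    -- `c i` and `c (c i)` lie in one block, so `i` and `c i` do
    have h3 : ∀ j : Fin n, j.val < 6 → j.val / 3 ≠ i.val / 3 → (c j).val / 3 = (c (c i)).val / 3 :=
      fun j hj hj' => same j (c i) hj h1 (by omega)
    obtain ⟨q, hq⟩ := c.surjective i
    have hq6 : q.val < 6 := (k6 q).1 (by rw [hq]; exact hi)
    by_cases hqi : q.val / 3 = i.val / 3
    · have := same q i hq6 hi hqi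
      rw [hq] at this
      exact hne this.symm
    · have := h3 q hq6 hqi
      rw [hq] at this
      omega
  have c678 : c * pa hn = pa hn * c := by
    have key : ∀ f : Fin 3 → Fin 3, Function.Injective f → (∀ i, f (f i) = i → f i = i) →
        ∀ i, f (i + 1) = f i + 1 := by decide
    let f : Fin 3 → Fin 3 := fun i => ⟨(c (pt n (i.val + 6))).val - 6, by
      have := h678 (pt n (i.val + 6)) (by simp [pt]) (by simp [pt]; omega); omega⟩
    have hval : ∀ i : Fin 3, (c (pt n (i.val + 6))).val = (f i).val + 6 := fun i => by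
      have := h678 (pt n (i.val + 6)) (by simp [pt]) (by simp [pt]; omega)
      simp only [f]
      omega
    obtain ⟨q, hq⟩ : ∃ q : Fin 3 → Fin n, ∀ i, q i = pt n (i.val + 6) := ⟨fun i => pt n (i.val + 6), fun _ => rfl⟩
    have hqv : ∀ i, (q i).val = i.val + 6 := fun i => by rw [hq]; rfl
    have qinj : ∀ i j, q i = q j → i = j := fun i j e => Fin.ext (by
      have := congrArg Fin.val e
      rw [hqv, hqv] at this
      omega)
    have hpt : ∀ i : Fin 3, c (q i) = q (f i) := fun i => Fin.ext (by rw [hqv, hq, hval])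
    have finj : Function.Injective f := fun i j e => qinj _ _ (c.injective (by rw [hpt, hpt, e]))
    have fno : ∀ i, f (f i) = i → f i = i := fun i e => by
      have h2 : c (c (q i)) = q i := by rw [hpt, hpt, e]
      have := fix_of_sq hm hcm h2
      rw [hpt] at this
      exact qinj _ _ this
    have pa_val : ∀ i, pa hn (q i) = q (i + 1) := fun i => by rw [hq, hq]; exact (pa_values hn hn').1 i
    have pa_out := (pa_values hn hn').2
    refine Equiv.ext fun i => ?_
    show c (pa hn i) = pa hn (c i)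
    by_cases hi : 6 ≤ i.val ∧ i.val < 9
    · obtain ⟨j, rfl⟩ : ∃ j : Fin 3, i = q j :=
        ⟨⟨i.val - 6, by omega⟩, Fin.ext (by rw [hqv]; simp; omega)⟩
      rw [pa_val, hpt, hpt, pa_val, key f finj fno]
    · rw [pa_out i hi, pa_out (c i)]
      intro hci
      obtain ⟨j, hj⟩ : ∃ j : Fin 3, c i = q j :=
        ⟨⟨(c i).val - 6, by omega⟩, Fin.ext (by rw [hqv]; simp; omega)⟩
      obtain ⟨j', rfl⟩ := Finite.injective_iff_surjective.1 finj j
      rw [← hpt] at hj
      refine hi ?_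
      rw [c.injective hj, hqv]
      omega
  have cx : c * px hn = px hn * c := by
    refine Equiv.ext fun i => ?_
    show c (px hn i) = px hn (c i)
    have := k6 i
    rw [(Fxy i).1, (Fxy (c i)).1]
    by_cases hi : i.val < 3
    · have := blk i (by omega)
      rw [if_pos hi, if_pos (by omega), com]
    · by_cases hi6 : i.val < 6
      · have := blk i hi6
        rw [if_neg hi, if_neg (by omega)]
      · rw [if_neg hi, if_neg (by omega)]
  have cy : c * py hn = py hn * c := by
    refine Equiv.ext fun i => ?_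
    show c (py hn i) = py hn (c i)
    have := k6 i
    rw [(Fxy i).2, (Fxy (c i)).2]
    by_cases hi : 3 ≤ i.val ∧ i.val < 6
    · have := blk i (by omega)
      rw [if_pos hi, if_pos (by omega), com]
    · by_cases hi6 : i.val < 6
      · have := blk i hi6
        rw [if_neg hi, if_neg (by omega)]
      · rw [if_neg hi, if_neg (by omega)]
  exact cent_three hn hn' cx cy c678

theorem s67_facts (hn : 9 ≤ 10) :
    swap (pt 10 6) (pt 10 7) 8 = 8 ∧ swap (pt 10 6) (pt 10 7) 9 = 9 ∧
      (swap (pt 10 6) (pt 10 7) * swap 8 9 : Perm (Fin 10)) 8 = 9 ∧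
      (swap (pt 10 6) (pt 10 7) * swap 8 9 : Perm (Fin 10)) 9 = 8 ∧
      swap (pt 10 6) (pt 10 7) * swap 8 9 * el hn (1, 1, 0) =
        el hn (1, 1, 0) * (swap (pt 10 6) (pt 10 7) * swap 8 9) ∧
      swap (pt 10 6) (pt 10 7) * swap 8 9 * pt0 hn = pt0 hn * (swap (pt 10 6) (pt 10 7) * swap 8 9) ∧
      swap (pt 10 6) (pt 10 7) * swap 8 9 * (swap (pt 10 6) (pt 10 7) * swap 8 9) = 1 ∧
      (swap (pt 10 6) (pt 10 7) * swap 8 9).support.card = 4 ∧
      (swap (pt 10 6) (pt 10 7) * swap 8 9 * pt0 hn).support.card = 8 := by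
  decide +kernel +revert

/-- The centralizer of `x y` and `pt0`. -/
theorem cent_xy_t0 (hn : 9 ≤ n) (hn' : n ≤ 10) {c : Perm (Fin n)} (hsgn : sign c = 1)
    (hc : c * el hn (1, 1, 0) = el hn (1, 1, 0) * c) (ht : c * pt0 hn = pt0 hn * c) :
    ∃ (i : Fin 3) (e : Bool), c = el hn (i, i, 0) * (if e then pt0 hn else 1) ∨
      ∃ d : Perm (Fin n), c = el hn (i, i, 0) * (if e then pt0 hn else 1) * d ∧
        d * el hn (1, 1, 0) = el hn (1, 1, 0) * d ∧ d * pt0 hn = pt0 hn * d ∧ d * d = 1 ∧ d.support.card = 4 ∧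
        (d * pt0 hn).support.card = 8 := by
  have F := xy_t0_facts hn hn'
  obtain ⟨Fm, Fr, Fc, Fcov, Ft, t6, t7⟩ := F
  have com : ∀ {a b : Perm (Fin n)}, a * b = b * a → ∀ i, a (b i) = b (a i) := fun e i => by
    rw [← Perm.mul_apply, e, Perm.mul_apply]
  have k6 : ∀ i, (c i).val < 6 ↔ i.val < 6 := fun i => by
    rw [← Fm, ← Fm, not_iff_not]
    exact ⟨fun e => c.injective (by rw [com hc, e]), fun e => by rw [← com hc, e]⟩
  obtain ⟨i, e, he⟩ := Fr (c (pt n 0)) ((k6 _).2 (by simp [pt]))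
  set g := el hn (i, i, 0) * (if e then pt0 hn else 1) with hg
  obtain ⟨gh, gt, gs⟩ := Fc i e
  refine ⟨i, e, ?_⟩
  set d := g⁻¹ * c with hd
  have hcd : c = g * d := by rw [hd, mul_inv_cancel_left]
  have dh : d * el hn (1, 1, 0) = el hn (1, 1, 0) * d := (Commute.inv_left gh).mul_left hc
  have dt : d * pt0 hn = pt0 hn * d := (Commute.inv_left gt).mul_left ht
  have d0 : d (pt n 0) = pt n 0 := by
    rw [hd, Perm.mul_apply, ← he]
    simp [hg]
  have dlow : ∀ k : Fin n, k.val < 6 → d k = k := by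
    intro k hk
    obtain ⟨i', e', rfl⟩ := Fcov k hk
    obtain ⟨gh', gt', -⟩ := Fc i' e'
    have hcomm : d * (el hn (i', i', 0) * (if e' then pt0 hn else 1)) =
        (el hn (i', i', 0) * (if e' then pt0 hn else 1)) * d := by
      have h1 : el hn (i', i', 0) = el hn (1, 1, 0) ^ i'.val := (el_values hn hn').2.2 i'
      refine (Commute.mul_right ?_ ?_).eq
      · rw [h1]; exact Commute.pow_right dh _
      · split_ifs
        · exact dt
        · exact Commute.one_right _
    rw [com hcomm, d0]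
  have dsign : sign d = 1 := by rw [hd, map_mul, map_inv, gs, hsgn, inv_one, one_mul]
  have dhigh : ∀ k : Fin n, 6 ≤ k.val → 6 ≤ (d k).val := fun k hk => by
    by_contra hlt
    rw [not_le] at hlt
    have := dlow (d k) hlt
    rw [d.injective this] at hlt
    omega
  have d8 : ∀ k : Fin n, 8 ≤ k.val → 8 ≤ (d k).val := fun k hk => by
    rw [← Ft] at hk ⊢
    rw [← com dt, hk]
  have d67 : ∀ k : Fin n, 6 ≤ k.val → k.val < 8 → 6 ≤ (d k).val ∧ (d k).val < 8 := fun k h1 h2 => by
    refine ⟨dhigh k h1, ?_⟩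
    by_contra hge
    rw [not_lt, ← Ft, ← com dt] at hge
    have := (Ft k).1 (d.injective hge)
    omega
  set s67 : Perm (Fin n) := swap (pt n 6) (pt n 7) with hs67
  obtain ⟨h6a, h6b⟩ := d67 (pt n 6) (by simp [pt]) (by simp [pt])
  rcases (show (d (pt n 6)).val = 6 ∨ (d (pt n 6)).val = 7 by omega) with h6 | h6
  · have e6 : d (pt n 6) = pt n 6 := Fin.ext h6
    have e7 : d (pt n 7) = pt n 7 := by rw [← t6, com dt, e6]
    have dfix : ∀ k : Fin n, k.val < 8 → d k = k := fun k hk => by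
      by_cases h : k.val < 6
      · exact dlow k h
      · rcases (show k.val = 6 ∨ k.val = 7 by omega) with h' | h'
        · rw [show k = pt n 6 from Fin.ext h', e6]
        · rw [show k = pt n 7 from Fin.ext h', e7]
    have : d = 1 := by
      rcases (by omega : n = 9 ∨ n = 10) with rfl | rfl
      · refine Equiv.ext fun k => ?_
        by_cases hk : k.val < 8
        · exact dfix k hk
        · exact Fin.ext (by have := d8 k (by omega); have := (d k).isLt; have := k.isLt; simp; omega)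
      · have key : ∀ u : Fin 10, 8 ≤ u.val → u = 8 ∨ u = 9 := by decide
        by_cases h8 : d 8 = 8
        · refine Equiv.ext fun k => ?_
          by_cases hk : k.val < 8
          · exact dfix k hk
          · rcases key k (by omega) with rfl | rfl
            · exact h8
            · rcases key (d 9) (d8 9 (by decide)) with h | h
              · exact absurd (d.injective (h.trans h8.symm)) (by decide)
              · exact h
        · exfalso
          have e8 : d 8 = 9 := (key _ (d8 8 (by decide))).resolve_left h8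
          have e9 : d 9 = 8 := (key _ (d8 9 (by decide))).resolve_right fun h =>
            absurd (d.injective (h.trans e8.symm)) (by decide)
          have : d = swap 8 9 := by
            refine Equiv.ext fun k => ?_
            by_cases hk : k.val < 8
            · rw [dfix k hk, swap_apply_of_ne_of_ne] <;> · rintro rfl; simp at hk
            · rcases key k (by omega) with rfl | rfl
              · rw [e8, swap_apply_left]
              · rw [e9, swap_apply_right]
          rw [this] at dsign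
          exact absurd dsign (by decide)
    left
    rw [hcd, this, mul_one]
  · have e6 : d (pt n 6) = pt n 7 := Fin.ext h6
    have e7 : d (pt n 7) = pt n 6 := by rw [← t6, com dt, e6, t7]
    have dfix : ∀ k : Fin n, k.val < 8 → d k = s67 k := fun k hk => by
      by_cases h : k.val < 6
      · rw [dlow k h, hs67, swap_apply_of_ne_of_ne] <;> simp [pt, Fin.ext_iff] <;> omega
      · rcases (show k.val = 6 ∨ k.val = 7 by omega) with h' | h'
        · rw [show k = pt n 6 from Fin.ext h', e6, hs67, swap_apply_left]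
        · rw [show k = pt n 7 from Fin.ext h', e7, hs67, swap_apply_right]
    rcases (by omega : n = 9 ∨ n = 10) with rfl | rfl
    · exfalso
      have : d = s67 := by
        refine Equiv.ext fun k => ?_
        by_cases hk : k.val < 8
        · exact dfix k hk
        · have h8 := d8 k (by omega)
          rw [hs67, swap_apply_of_ne_of_ne (fun e => hk (by rw [e]; simp [pt])) (fun e => hk (by rw [e]; simp [pt]))]
          exact Fin.ext (by have := (d k).isLt; have := k.isLt; omega)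
      rw [this, hs67, sign_swap (by simp [pt])] at dsign
      exact absurd dsign (by decide)
    · have key : ∀ u : Fin 10, 8 ≤ u.val → u = 8 ∨ u = 9 := by decide
      have h89 : d 8 = 9 := by
        refine (key _ (d8 8 (by decide))).resolve_left fun h8 => ?_
        have h9 : d 9 = 9 := (key _ (d8 9 (by decide))).resolve_left fun h =>
          absurd (d.injective (h.trans h8.symm)) (by decide)
        have : d = s67 := by
          refine Equiv.ext fun k => ?_
          by_cases hk : k.val < 8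
          · exact dfix k hk
          · rcases key k (by omega) with rfl | rfl
            · rw [h8, hs67]; exact (s67_facts hn).1.symm
            · rw [h9, hs67]; exact (s67_facts hn).2.1.symm
        rw [this, hs67, sign_swap (by simp [pt])] at dsign
        exact absurd dsign (by decide)
      have h98 : d 9 = 8 := (key _ (d8 9 (by decide))).resolve_right fun h =>
        absurd (d.injective (h.trans h89.symm)) (by decide)
      have hd' : d = s67 * swap 8 9 := by
        refine Equiv.ext fun k => ?_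
        by_cases hk : k.val < 8
        · rw [dfix k hk, Perm.mul_apply, swap_apply_of_ne_of_ne (a := (8 : Fin 10)) (b := 9)] <;>
            · rintro rfl; simp at hk
        · rcases key k (by omega) with rfl | rfl
          · rw [h89, hs67]; exact (s67_facts hn).2.2.1.symm
          · rw [h98, hs67]; exact (s67_facts hn).2.2.2.1.symm
      right
      refine ⟨d, hcd, ?_⟩
      rw [hd', hs67]
      exact (s67_facts hn).2.2.2.2

end CfsgLib.AltInvolCent.NinePerms
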