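import Cfsg.Agent.AltInvolCent.NoInverted
import Cfsg.Agent.Coprime.Generation
import Cfsg.Agent.PLocal.Cores

/-!
# Degrees nine and ten are impossible

The standard elementary group of order twenty-seven is a Sylow three-subgroup of `C(x y)`. A rotation
of `z`, `t`, `t z` is moved into it, and the two-core of `C(z, t)` shows that the resulting plane has
two lines of weight two, which cannot be inverted by an involution of `C(z)`.
-/

set_option autoImplicit false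
set_option linter.unusedSectionVars false

namespace CfsgLib.AltInvolCent

open Equiv Equiv.Perm
open NinePerms

theorem el_moved_lt {n : ℕ} (hn : 9 ≤ n) (hn' : n ≤ 10) :
    ∀ (v : Fin 3 × Fin 3 × Fin 3) (m : Fin n), el hn v m ≠ m → m.val < 9 := by
  rcases (by omega : n = 9 ∨ n = 10) with rfl | rfl <;> decide +kernel +revert

/-- `(0 3)(1 4)` and `(1 4)(2 5)`. -/
theorem flip_pair {n : ℕ} (hn : 9 ≤ n) (hn' : n ≤ 10) :
    ∃ a b : Perm (Fin n), sign a = 1 ∧ sign b = 1 ∧ a * a = 1 ∧ b * b = 1 ∧ a * b = b * a ∧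
      a.support.card = 4 ∧ b.support.card = 4 ∧ (a * b).support.card = 4 ∧
      a * pt0 hn = pt0 hn * a ∧ (a * pt0 hn).support.card = 4 ∧
      b * pt0 hn = pt0 hn * b ∧ (b * pt0 hn).support.card = 4 ∧
      (∀ i, a i = i ∨ a i = pt0 hn i) ∧ ∀ i, b i = i ∨ b i = pt0 hn i := by
  refine ⟨swap (pt n 0) (pt n 3) * swap (pt n 1) (pt n 4), swap (pt n 1) (pt n 4) * swap (pt n 2) (pt n 5), ?_⟩
  rcases (by omega : n = 9 ∨ n = 10) with rfl | rfl <;> decide +kernel +revert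

theorem plane_key : ∀ (w : Fin 3 × Fin 3 × Fin 3) (k k' : Fin 3), k ≠ k' → (w.1 ≠ w.2.1 ∨ w.2.2 ≠ 0) →
    w + (k, k, 0) ≠ 0 → w + (k', k', 0) ≠ 0 → ¬ OddWeight (w + (k, k, 0)) → ¬ OddWeight (w + (k', k', 0)) →
    ∃ ε : Fin 3, ε ≠ 0 ∧ ∃ i j : Fin 3, i.val • w + j.val • ((1, 1, 0) : Fin 3 × Fin 3 × Fin 3) = (1, 0, ε) := by
  decide +kernel

namespace Setup

variable {G : Type*} [Group G] {n : ℕ} (S : Setup G n)

/-- Involutions of a subgroup in which `z` is the only involution centralizing `z`. -/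
theorem conj_invol [Finite G] {H : Subgroup G} (hz : S.z ∈ H)
    (hun : ∀ j ∈ H, Commute j S.z → j * j = 1 → j ≠ 1 → j = S.z) {i : G} (hi : i ∈ H) (hii : i * i = 1)
    (hi1 : i ≠ 1) : ∃ c ∈ H, c * S.z * c⁻¹ = i ∧ S.z * c * S.z = c⁻¹ := by
  set d := i * S.z with hd
  have hdH : d ∈ H := H.mul_mem hi hz
  have hdz : S.z * d * S.z = d⁻¹ := by
    rw [hd, mul_inv_rev, S.z_inv, inv_eq_of_mul_eq_one_right hii, ← mul_assoc, mul_assoc (S.z * i), S.z_sq, mul_one]
  have hpow : ∀ k : ℕ, S.z * d ^ k * S.z = (d ^ k)⁻¹ := by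
    intro k
    induction k with
    | zero => simp [S.z_sq]
    | succ k ih => rw [pow_succ, S.z_conj_mul, ih, hdz, ← mul_inv_rev, ← pow_succ, ← pow_succ']
  obtain ⟨l, hl | hl⟩ := Nat.even_or_odd' (orderOf d)
  · have hpos := orderOf_pos d
    have h2 : d ^ l * d ^ l = 1 := by rw [← pow_add, ← two_mul, ← hl, pow_orderOf_eq_one]
    have hne : d ^ l ≠ 1 := pow_ne_one_of_lt_orderOf (by omega) (by omega)
    have hinv : (d ^ l)⁻¹ = d ^ l := inv_eq_of_mul_eq_one_right h2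
    have hcz : Commute (d ^ l) S.z := by
      show d ^ l * S.z = S.z * d ^ l
      conv_lhs => rw [← hinv, ← hpow, mul_assoc, S.z_sq, mul_one]
    have hdc : Commute d S.z := (hun _ (H.pow_mem hdH l) hcz h2 hne) ▸ (Commute.refl d).pow_right l
    have hdd : d * d = 1 := by
      rw [S.z_conj_of_commute hdc] at hdz
      rw [mul_eq_one_iff_eq_inv]; exact hdz
    have hdz' : d = S.z := hun d hdH hdc hdd fun h => by
      rw [h, orderOf_one] at hl; omega
    rw [hd, mul_eq_right] at hdz'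
    exact absurd hdz' hi1
  · refine ⟨d ^ (l + 1), H.pow_mem hdH _, ?_, hpow _⟩
    have h : S.z * (d ^ (l + 1))⁻¹ = d ^ (l + 1) * S.z := by
      rw [← hpow, ← mul_assoc, ← mul_assoc, S.z_sq, one_mul]
    rw [mul_assoc, h, ← mul_assoc, ← pow_add, show l + 1 + (l + 1) = orderOf d + 1 by omega, pow_succ,
      pow_orderOf_eq_one, one_mul, hd, mul_assoc, S.z_sq, mul_one]

/-- No two distinct involutions of such a subgroup commute. -/
theorem invol_eq_of_commute [Finite G] {H : Subgroup G} (hz : S.z ∈ H)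
    (hun : ∀ j ∈ H, Commute j S.z → j * j = 1 → j ≠ 1 → j = S.z) {i j : G} (hi : i ∈ H) (hj : j ∈ H)
    (hii : i * i = 1) (hjj : j * j = 1) (hi1 : i ≠ 1) (hj1 : j ≠ 1) (h : Commute i j) : i = j := by
  obtain ⟨c, hc, hcz, -⟩ := S.conj_invol hz hun hi hii hi1
  have hj' : c⁻¹ * j * c⁻¹⁻¹ = S.z := by
    refine hun _ (H.mul_mem (H.mul_mem (H.inv_mem hc) hj) (H.inv_mem (H.inv_mem hc))) ?_ ?_
      fun e => hj1 (conj_eq_one_iff.1 e)
    · have := (Commute.conj_iff c⁻¹).2 h.symm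
      rwa [← hcz, show c⁻¹ * (c * S.z * c⁻¹) * c⁻¹⁻¹ = S.z by group] at this
    · rw [show c⁻¹ * j * c⁻¹⁻¹ * (c⁻¹ * j * c⁻¹⁻¹) = c⁻¹ * (j * j) * c by group, hjj, mul_one, inv_mul_cancel]
  rw [← hcz, ← hj']
  group

variable (hn : 9 ≤ n) (hn' : n ≤ 10)

/-- The subgroup commuting with the given lifts. -/
def centL (s : Set (Fin 3 × Fin 3 × Fin 3)) : Subgroup G := Subgroup.centralizer (S.L hn hn' '' s)

theorem mem_centL {s : Set (Fin 3 × Fin 3 × Fin 3)} {g : G} :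
    g ∈ S.centL hn hn' s ↔ ∀ v ∈ s, Commute g (S.L hn hn' v) := by
  rw [centL, Subgroup.mem_centralizer_iff]
  exact ⟨fun h v hv => (h _ ⟨v, hv, rfl⟩).symm, fun h m ⟨v, hv, e⟩ => e ▸ (h v hv).symm.eq⟩

theorem z_mem_centL {s : Set (Fin 3 × Fin 3 × Fin 3)} : S.z ∈ S.centL hn hn' s :=
  (S.mem_centL hn hn').2 fun v _ => (S.L_comm hn hn' v).symm

variable [Finite G] [IsSimpleGroup G]

/-- The standard elementary group is a maximal three-subgroup of its normalizer in `C(x y)`. -/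
theorem mem_range_of_normalize {u : G} (hux : Commute u (S.L hn hn' (1, 1, 0))) {k : ℕ} (huk : u ^ 3 ^ k = 1)
    (hnorm : ∀ v, ∃ w, u * S.L hn hn' v * u⁻¹ = S.L hn hn' w) : ∃ w, u = S.L hn hn' w := by
  set H := S.centL hn hn' Set.univ with hH
  have memH : ∀ {g}, g ∈ H ↔ ∀ v, Commute g (S.L hn hn' v) := fun {g} => by
    rw [hH, mem_centL]; simp
  have hun : ∀ j ∈ H, Commute j S.z → j * j = 1 → j ≠ 1 → j = S.z := fun j hj hjz hjj hj1 =>
    S.eq_z_of_oddWeight hn hn' (v := (1, 0, 0)) (by decide) hjz hjj hj1 (memH.1 hj _)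
  choose f hf using hnorm
  have finj : Function.Injective f := fun v w e => S.L_inj hn hn' (by
    have := (hf v).trans (e ▸ (hf w).symm)
    exact mul_left_cancel (mul_right_cancel this))
  have fsurj := Finite.injective_iff_surjective.1 finj
  have hconj : ∀ g ∈ H, u * g * u⁻¹ ∈ H := by
    intro g hg
    refine memH.2 fun v => ?_
    obtain ⟨v', rfl⟩ := fsurj v
    rw [← hf v']
    exact (Commute.conj_iff u).2 (memH.1 hg v')
  obtain ⟨c, hc, hcz, hcinv⟩ := S.conj_invol (S.z_mem_centL hn hn') hun (hconj _ (S.z_mem_centL hn hn'))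
    (S.conj_sq u) (S.conj_ne_one u)
  set u' := c⁻¹ * u with hu'
  have hu'z : Commute u' S.z := by
    refine mul_inv_eq_iff_eq_mul.1 ?_
    rw [hu', show c⁻¹ * u * S.z * (c⁻¹ * u)⁻¹ = c⁻¹ * (u * S.z * u⁻¹) * c by group, ← hcz]
    group
  have hu'L : ∀ v, u' * S.L hn hn' v * u'⁻¹ = S.L hn hn' (f v) := fun v => by
    rw [hu', show c⁻¹ * u * S.L hn hn' v * (c⁻¹ * u)⁻¹ = c⁻¹ * (u * S.L hn hn' v * u⁻¹) * c⁻¹⁻¹ by group, hf,
      ((memH.1 hc _).inv_left).eq, mul_inv_cancel_right]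
  have hu'x : Commute u' (S.L hn hn' (1, 1, 0)) := (memH.1 hc _).inv_left.mul_left hux
  have hpow : ∀ j : ℕ, u' ^ j * (u ^ j)⁻¹ ∈ H := by
    intro j
    induction j with
    | zero => simp
    | succ j ih =>
      rw [pow_succ' u', pow_succ' u, hu', show c⁻¹ * u * (c⁻¹ * u) ^ j * (u * u ^ j)⁻¹ =
        c⁻¹ * (u * ((c⁻¹ * u) ^ j * (u ^ j)⁻¹) * u⁻¹) by group]
      exact H.mul_mem (H.inv_mem hc) (hconj _ (hu' ▸ ih))
  have h3k := hpow (3 ^ k)
  rw [huk, inv_one, mul_one] at h3k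
  obtain ⟨w0, hw0⟩ := S.exists_el hn hn' (hu'z.pow_left _) (memH.1 h3k)
  set σ := S.p u' with hσ
  have hσodd : σ ^ (3 ^ (k + 1)) = 1 := by
    rw [pow_succ, pow_mul, hσ, ← S.p_pow hu'z, hw0, (el_facts hn hn').1.1]
  have hσL : ∀ v, σ * el hn v * σ⁻¹ = el hn (f v) := fun v => by
    rw [← S.L_p hn hn' v, hσ, ← S.p_conj hu'z (S.L_comm hn hn' v), hu'L, S.L_p]
  have hσx : σ * el hn (1, 1, 0) = el hn (1, 1, 0) * σ := by
    rw [← S.L_p hn hn', hσ, ← S.p_mul hu'z (S.L_comm hn hn' _), ← S.p_mul (S.L_comm hn hn' _) hu'z, hu'x.eq]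
  obtain ⟨w, hw⟩ := odd_cent_xy hn hn' (Odd.pow (by decide)) hσodd hσx (by
    intro i hi hi'
    refine ⟨?_, ?_⟩
    · by_contra hlt
      have h1 := ((xy_facts hn hn').1 _).2 (by omega : (σ i).val < 6)
      refine absurd (((xy_facts hn hn').1 i).1 fun e => h1 ?_) (by omega)
      rw [← Perm.mul_apply, ← hσx, Perm.mul_apply, e]
    · refine el_moved_lt hn hn' (f (0, 0, 1)) _ ?_
      rw [← hσL]
      simp only [Perm.mul_apply, Perm.inv_def, Equiv.symm_apply_apply]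
      rw [σ.injective.ne_iff, ← (el_facts hn hn').1.2.2.2]
      exact ((moved_facts hn hn' i).2.2).2 ⟨hi, hi'⟩)
  have uh : u = c * u' := by rw [hu', mul_inv_cancel_left]
  have huH : u ∈ H := by
    rw [uh]
    refine H.mul_mem hc (memH.2 fun v => S.L_commute_of hn hn' hu'z ?_)
    rw [← hσ, hw, (el_facts hn hn').2.1, (el_facts hn hn').2.1, add_comm]
  have cu : Commute u (S.L hn hn' w)⁻¹ := (memH.1 huH w).inv_right
  have hk3 : (u * (S.L hn hn' w)⁻¹) ^ 3 ^ (k + 1) = 1 := by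
    rw [cu.mul_pow, pow_three_pow (Nat.le_succ k) huk, inv_pow, pow_succ', pow_mul, S.L_cube, one_pow, inv_one,
      one_mul]
  rcases S.eq_or hu'z (S.L_comm hn hn' w) (by rw [← hσ, hw, S.L_p]) with h | h
  · refine ⟨w, ?_⟩
    have hc' : c = u * (S.L hn hn' w)⁻¹ := by rw [uh, h, mul_inv_cancel_right]
    have hc1 : c = 1 := S.inv3_x_trivial hn hn' c ⟨memH.1 hc _, hcinv, k + 1, by rw [hc', hk3]⟩
    rw [uh, hc1, one_mul, h]
  · refine ⟨w, ?_⟩
    have hcz' : c * S.z = u * (S.L hn hn' w)⁻¹ := by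
      rw [uh, h, (S.L_comm hn hn' w).eq, ← mul_assoc, mul_inv_cancel_right]
    have h2 : c * S.z * (c * S.z) = 1 := by
      rw [show c * S.z * (c * S.z) = c * (S.z * c * S.z) by group, hcinv, mul_inv_cancel]
    obtain ⟨r, hr⟩ := (Odd.pow (by decide : Odd 3) : Odd (3 ^ (k + 1)))
    rw [← hcz', hr, pow_succ, pow_mul, sq, h2, one_pow, one_mul] at hk3
    rw [hk3] at hcz'
    exact mul_inv_eq_one.1 hcz'.symm

/-- Three-elements of `C(x y)` are conjugate into the standard elementary group. -/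
theorem exists_conj_L {r : G} (hrx : Commute r (S.L hn hn' (1, 1, 0))) {k : ℕ} (hrk : r ^ 3 ^ k = 1) :
    ∃ g, Commute g (S.L hn hn' (1, 1, 0)) ∧ ∃ w, g * r * g⁻¹ = S.L hn hn' w := by
  classical
  have : Fact (Nat.Prime 3) := ⟨Nat.prime_three⟩
  set K := Subgroup.centralizer ({S.L hn hn' (1, 1, 0)} : Set G) with hK
  have memK : ∀ {g}, g ∈ K ↔ Commute g (S.L hn hn' (1, 1, 0)) := fun {g} => Subgroup.mem_centralizer_singleton_iff
  let A : Subgroup K :=
    { carrier := {g | ∃ v, g.1 = S.L hn hn' v}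
      one_mem' := ⟨0, (S.L_zero hn hn').symm⟩
      mul_mem' := by
        rintro ⟨g, _⟩ ⟨h, _⟩ ⟨v, rfl⟩ ⟨w, rfl⟩
        exact ⟨v + w, S.L_mul hn hn' v w⟩
      inv_mem' := by
        rintro ⟨g, _⟩ ⟨v, rfl⟩
        exact ⟨-v, (S.L_neg hn hn' v).symm⟩ }
  have hA : IsPGroup 3 A := by
    rintro ⟨g, v, hv⟩
    exact ⟨1, Subtype.ext (Subtype.ext (show g.1 ^ 3 ^ 1 = 1 by rw [pow_one, hv]; exact S.L_cube hn hn' v))⟩
  obtain ⟨P, hAP⟩ := hA.exists_le_sylow
  have hPA : (P : Subgroup K) ≤ A := by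
    by_contra hne
    have hnil : Group.IsNilpotent (P : Subgroup K) := P.isPGroup'.isNilpotent
    have hlt : A.subgroupOf (P : Subgroup K) < ⊤ := by
      rw [lt_top_iff_ne_top]
      intro e
      exact hne fun g hg => by
        have : (⟨g, hg⟩ : (P : Subgroup K)) ∈ A.subgroupOf (P : Subgroup K) := e ▸ Subgroup.mem_top _
        exact this
    obtain ⟨u, hu, hnu⟩ := SetLike.exists_of_lt (Group.normalizerCondition_of_isNilpotent _ hlt)
    obtain ⟨j, hj⟩ := P.isPGroup' u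
    obtain ⟨w, hw⟩ := S.mem_range_of_normalize hn hn' (u := (u : K).1) (memK.1 (u : K).2) (k := j)
      (congrArg (fun g : (P : Subgroup K) => (g : K).1) hj) (fun v => by
        have hv : (⟨S.L hn hn' v, memK.2 (S.L_commute hn hn' v _)⟩ : K) ∈ A := ⟨v, rfl⟩
        obtain ⟨w, hw⟩ := (Subgroup.mem_normalizer_iff.1 hu ⟨_, hAP hv⟩).1 hv
        exact ⟨w, hw⟩)
    exact hnu ⟨w, hw⟩
  obtain ⟨Q, hQ⟩ := (IsPGroup.of_card (n := 0) (p := 3) (G := (⊥ : Subgroup K)) (by simp)).exists_le_sylow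
  set rK : K := ⟨r, memK.2 hrx⟩ with hrK
  have hz : IsPGroup 3 (Subgroup.zpowers rK) := by
    rintro ⟨g, m, rfl⟩
    refine ⟨k, Subtype.ext ?_⟩
    show (rK ^ m) ^ 3 ^ k = 1
    rw [← zpow_natCast, ← zpow_mul, mul_comm m, zpow_mul, zpow_natCast,
      show rK ^ 3 ^ k = 1 from Subtype.ext hrk, one_zpow]
  obtain ⟨R, hR⟩ := hz.exists_le_sylow
  obtain ⟨g, hg⟩ := MulAction.exists_smul_eq K R P
  have hm : g * rK * g⁻¹ ∈ (P : Subgroup K) := by
    rw [← hg]
    exact Subgroup.smul_mem_pointwise_smul rK (MulAut.conj g) _ (hR (Subgroup.mem_zpowers rK))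
  obtain ⟨w, hw⟩ := hPA hm
  exact ⟨g.1, memK.1 g.2, w, hw⟩

/-- The contradiction. -/
theorem nine_ten_false (S : Setup G n) (hn : 9 ≤ n) (hn' : n ≤ 10) : False := by
  classical
  obtain ⟨F⟩ := S.exists_frame hn hn'
  set x2 := S.L hn hn' (1, 1, 0) with hx2
  set ρ := F.rot with hρ
  obtain ⟨k0, hk0⟩ := F.rot_pow
  obtain ⟨g, hgx, w, hgw⟩ := S.exists_conj_L hn hn' F.rot_x hk0
  have hρ3 : ρ ^ 3 = 1 := by
    have := congrArg (fun e => e ^ 3) hgw
    simp only [conj_pow, S.L_cube] at this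
    exact conj_eq_one_iff.1 this
  have hρz : ¬ Commute ρ S.z := fun h => by
    have h1 := F.rot_z
    rw [← hρ, h.eq, mul_inv_cancel_right] at h1
    have h2 := F.t_p
    rw [← h1, S.p_z] at h2
    have := (invol_facts hn hn').2.1.1
    rw [← h2, support_one, Finset.card_empty] at this
    omega
  have htne : F.t ≠ S.z := fun h => by
    have h2 := F.t_p
    rw [h, S.p_z] at h2
    have := (invol_facts hn hn').2.1.1
    rw [← h2, support_one, Finset.card_empty] at this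
    omega
  have ht1 : F.t ≠ 1 := fun h => by
    have h2 := F.t_p
    rw [h, S.p_one] at h2
    have := (invol_facts hn hn').2.1.1
    rw [← h2, support_one, Finset.card_empty] at this
    omega
  have htz1 : F.t * S.z ≠ 1 := fun h => htne (by rw [mul_eq_one_iff_eq_inv.1 h, S.z_inv])
  -- the four group
  set Eset : Set G := {e | e = 1 ∨ e = S.z ∨ e = F.t ∨ e = F.t * S.z} with hEset
  have hEinv : ∀ e ∈ Eset, e * e = 1 := by
    rintro e (rfl | rfl | rfl | rfl)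
    · rw [one_mul]
    · exact S.z_sq
    · exact F.t_t
    · rw [S.mul_z_sq F.t_z, F.t_t]
  have hEcomm : ∀ e ∈ Eset, ∀ d, Commute d S.z → Commute d F.t → Commute e d := by
    rintro e (rfl | rfl | rfl | rfl) d hd hdt
    · exact Commute.one_left _
    · exact hd.symm
    · exact hdt.symm
    · exact hdt.symm.mul_left hd.symm
  have hEmul : ∀ e ∈ Eset, ∀ e' ∈ Eset, e * e' ∈ Eset := by
    have ttz : F.t * (F.t * S.z) = S.z := by rw [← mul_assoc, F.t_t, one_mul]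
    have tzt : F.t * S.z * F.t = S.z := by rw [mul_assoc, ← F.t_z.eq, ← mul_assoc, F.t_t, one_mul]
    have ztz : S.z * (F.t * S.z) = F.t := by rw [← mul_assoc, ← F.t_z.eq, mul_assoc, S.z_sq, mul_one]
    have tzz : F.t * S.z * S.z = F.t := by rw [mul_assoc, S.z_sq, mul_one]
    rintro e (rfl | rfl | rfl | rfl) e' (rfl | rfl | rfl | rfl) <;>
      simp only [hEset, Set.mem_ofPred_eq, one_mul, mul_one, S.z_sq, F.t_t, ← F.t_z.eq, ttz, tzt, ztz, tzz,
        S.mul_z_sq F.t_z, true_or, or_true]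
  -- the rotation moves every nontrivial element of the four group
  have hfree : ∀ e ∈ Eset, Commute ρ e → e = 1 := by
    rintro e (rfl | rfl | rfl | rfl) h
    · rfl
    · exact absurd h hρz
    · have h1 := F.rot_t
      rw [← hρ, h.eq, mul_inv_cancel_right, left_eq_mul] at h1
      exact absurd h1 S.z_ne
    · have h1 := F.rot_tz
      rw [← hρ, h.eq, mul_inv_cancel_right, mul_eq_right] at h1
      exact absurd h1 ht1
  -- an involution inverting the plane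
  obtain ⟨u2, hu2, hu2x, hu2ρ⟩ : ∃ u2, u2 * u2 = 1 ∧ u2 * x2 * u2⁻¹ = x2⁻¹ ∧ u2 * ρ * u2⁻¹ = ρ⁻¹ := by
    set q := ρ * F.u * ρ * F.u⁻¹ with hq
    have utz : F.u * (F.t * S.z) * F.u⁻¹ = F.t := by
      rw [show F.u * (F.t * S.z) * F.u⁻¹ = F.u * F.t * F.u⁻¹ * (F.u * S.z * F.u⁻¹) by group, F.u_t, F.u_z.eq,
        mul_inv_cancel_right, mul_assoc, S.z_sq, mul_one]
    have ut' : F.u⁻¹ * F.t * F.u = F.t * S.z := by
      calc F.u⁻¹ * F.t * F.u = F.u⁻¹ * (F.u * (F.t * S.z) * F.u⁻¹) * F.u := by rw [utz]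
        _ = F.t * S.z := by group
    have uz' : F.u⁻¹ * S.z * F.u = S.z := by rw [mul_assoc, ← F.u_z.eq, inv_mul_cancel_left]
    have qz : Commute q S.z := by
      refine mul_inv_eq_iff_eq_mul.1 ?_
      rw [hq, show ρ * F.u * ρ * F.u⁻¹ * S.z * (ρ * F.u * ρ * F.u⁻¹)⁻¹ =
        ρ * (F.u * (ρ * (F.u⁻¹ * S.z * F.u) * ρ⁻¹) * F.u⁻¹) * ρ⁻¹ by group, uz', F.rot_z, F.u_t, F.rot_tz]
    have qt : Commute q F.t := by
      refine mul_inv_eq_iff_eq_mul.1 ?_
      rw [hq, show ρ * F.u * ρ * F.u⁻¹ * F.t * (ρ * F.u * ρ * F.u⁻¹)⁻¹ =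
        ρ * (F.u * (ρ * (F.u⁻¹ * F.t * F.u) * ρ⁻¹) * F.u⁻¹) * ρ⁻¹ by group, ut', F.rot_tz, F.u_z.eq,
        mul_inv_cancel_right, F.rot_z]
    have ux : F.u * x2 * F.u⁻¹ = x2⁻¹ := by rw [hx2, F.u_L, ← S.L_neg]; rfl
    have qx : Commute q x2 := by
      refine mul_inv_eq_iff_eq_mul.1 ?_
      have ux' : F.u⁻¹ * x2 * F.u = x2⁻¹ := by
        calc F.u⁻¹ * x2 * F.u = F.u⁻¹ * (x2⁻¹)⁻¹ * F.u := by rw [inv_inv]
          _ = F.u⁻¹ * (F.u * x2 * F.u⁻¹)⁻¹ * F.u := by rw [ux]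
          _ = x2⁻¹ := by group
      rw [hq, show ρ * F.u * ρ * F.u⁻¹ * x2 * (ρ * F.u * ρ * F.u⁻¹)⁻¹ =
        ρ * (F.u * (ρ * (F.u⁻¹ * x2 * F.u) * ρ⁻¹) * F.u⁻¹) * ρ⁻¹ by group, ux',
        F.rot_x.inv_right.eq, mul_inv_cancel_right,
        show F.u * x2⁻¹ * F.u⁻¹ = (F.u * x2 * F.u⁻¹)⁻¹ by group, ux, inv_inv, F.rot_x.eq, mul_inv_cancel_right]
    obtain ⟨i, e, hqe, he⟩ := F.cent_zt_x2 qz qt qx
    set M := S.L hn hn' (i, i, 0) with hM
    have hMz : Commute M S.z := S.L_comm hn hn' _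
    have hMt : Commute M F.t := by
      refine (mul_inv_eq_iff_eq_mul.1 (?_ : F.t * M * F.t⁻¹ = M)).symm
      rw [hM, F.t_L]; simp
    set e' := ρ * e * ρ⁻¹ with he'
    have he'E : e' ∈ Eset := by
      rcases he with rfl | rfl | rfl | rfl <;> simp [he', hEset, hρ, F.rot_z, F.rot_t, F.rot_tz]
    have hee : ρ * e' * ρ⁻¹ * e * e' = 1 := by
      rcases he with rfl | rfl | rfl | rfl
      · simp [he']
      · rw [he', F.rot_z, F.rot_t, mul_assoc F.t S.z S.z, S.z_sq, mul_one, F.t_t]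
      · rw [he', F.rot_t, F.rot_tz, ← F.t_z.eq, S.mul_z_sq F.t_z, F.t_t]
      · rw [he', F.rot_tz, F.rot_z, ← mul_assoc, F.t_t, one_mul, S.z_sq]
    have he'i : e'⁻¹ = e' := inv_eq_of_mul_eq_one_right (hEinv _ he'E)
    have he'x : Commute e' x2 :=
      hEcomm _ he'E x2 (S.L_comm hn hn' _) F.t_x2.symm
    set u2 := e' * F.u with hu2'
    have h1 : u2 * x2 * u2⁻¹ = x2⁻¹ := by
      rw [hu2', show e' * F.u * x2 * (e' * F.u)⁻¹ = e' * (F.u * x2 * F.u⁻¹) * e'⁻¹ by group, ux,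
        he'x.inv_right.eq, mul_inv_cancel_right]
    have h2 : u2 * ρ * u2⁻¹ = ρ⁻¹ * M := by
      calc u2 * ρ * u2⁻¹ = e' * ρ⁻¹ * (ρ * F.u * ρ * F.u⁻¹) * e'⁻¹ := by rw [hu2']; group
        _ = e' * ρ⁻¹ * (M * e) * e' := by rw [← hq, hqe, he'i]
        _ = ρ⁻¹ * (ρ * e' * ρ⁻¹) * M * e * e' := by group
        _ = ρ⁻¹ * (M * (ρ * e' * ρ⁻¹)) * e * e' := by
          have hm : ρ * e' * ρ⁻¹ ∈ Eset := by
            rcases he'E with h | h | h | h <;> simp [h, hEset, hρ, F.rot_z, F.rot_t, F.rot_tz]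
          rw [mul_assoc ρ⁻¹ _ M, (hEcomm _ hm M hMz hMt).eq]
        _ = ρ⁻¹ * M * (ρ * e' * ρ⁻¹ * e * e') := by group
        _ = ρ⁻¹ * M := by rw [hee, mul_one]
    have hMx : u2 * M * u2⁻¹ = M⁻¹ := by
      rw [hu2', show e' * F.u * M * (e' * F.u)⁻¹ = e' * (F.u * M * F.u⁻¹) * e'⁻¹ by group, hM, F.u_L,
        show ((-(i, i, (0 : Fin 3)).1, -(i, i, (0 : Fin 3)).2.1, (i, i, (0 : Fin 3)).2.2) :
          Fin 3 × Fin 3 × Fin 3) = -(i, i, 0) by simp, S.L_neg, ← hM,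
        (hEcomm _ he'E M hMz hMt).inv_right.eq, mul_inv_cancel_right]
    have hsq : u2 * u2 = 1 ∨ u2 * u2 = S.z := by
      have e1 : u2 * u2 = e' * (F.u * e' * F.u⁻¹) * S.z := by rw [hu2', ← F.u_u]; group
      rcases he'E with h | h | h | h <;> rw [e1, h]
      · right; simp
      · right; rw [F.u_z.eq, mul_inv_cancel_right, S.z_sq, one_mul]
      · left; rw [F.u_t, ← mul_assoc, F.t_t, one_mul, S.z_sq]
      · left
        rw [utz, mul_assoc F.t S.z F.t, ← F.t_z.eq, ← mul_assoc F.t, F.t_t, one_mul, S.z_sq]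
    have h4 : u2 * u2 * ρ * (u2 * u2)⁻¹ = M⁻¹ * ρ * M⁻¹ := by
      calc u2 * u2 * ρ * (u2 * u2)⁻¹ = u2 * (u2 * ρ * u2⁻¹) * u2⁻¹ := by group
        _ = u2 * (ρ⁻¹ * M) * u2⁻¹ := by rw [h2]
        _ = (u2 * ρ * u2⁻¹)⁻¹ * (u2 * M * u2⁻¹) := by group
        _ = M⁻¹ * ρ * M⁻¹ := by rw [h2, hMx]; group
    have hMρ : Commute M ρ := by
      rw [hM]
      have key : ∀ j : Fin 3, ((j, j, 0) : Fin 3 × Fin 3 × Fin 3) = 0 ∨ ((j, j, 0) : Fin 3 × Fin 3 × Fin 3) = (1, 1, 0) ∨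
          ((j, j, 0) : Fin 3 × Fin 3 × Fin 3) = -(1, 1, 0) := by decide
      rcases key i with h | h | h <;> rw [h]
      · rw [S.L_zero]; exact Commute.one_left _
      · exact F.rot_x.symm
      · rw [S.L_neg]; exact F.rot_x.symm.inv_left
    have h5 : u2 * u2 * ρ * (u2 * u2)⁻¹ = ρ * (M⁻¹ * M⁻¹) := by
      rw [h4, hMρ.inv_left.eq, mul_assoc]
    have hM3 : M ^ 3 = 1 := S.L_cube hn hn' _
    have hM1 : M⁻¹ * M⁻¹ = 1 → M = 1 := fun h => by
      rw [← mul_inv_rev, inv_eq_one, ← sq] at h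
      rwa [pow_succ, h, one_mul] at hM3
    rcases hsq with h | h
    · rw [h, one_mul, inv_one, mul_one, left_eq_mul] at h5
      rw [hM1 h5, mul_one] at h2
      exact ⟨u2, h, h1, h2⟩
    · exfalso
      rw [h] at h5
      have e0 : ρ⁻¹ * S.z * ρ = F.t * S.z := by
        calc ρ⁻¹ * S.z * ρ = ρ⁻¹ * (ρ * (F.t * S.z) * ρ⁻¹) * ρ := by rw [hρ, F.rot_tz]
          _ = F.t * S.z := by group
      have h6 : F.t = M⁻¹ * M⁻¹ := by
        calc F.t = F.t * S.z * S.z⁻¹ := by group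
          _ = ρ⁻¹ * (S.z * ρ * S.z⁻¹) := by rw [← e0]; group
          _ = M⁻¹ * M⁻¹ := by rw [h5]; group
      have h7 : F.t ^ 3 = 1 := by
        rw [h6, (Commute.refl M⁻¹).mul_pow, inv_pow, hM3, inv_one, one_mul]
      rw [pow_succ, sq, F.t_t, one_mul] at h7
      exact ht1 h7
  -- the two-core of the centralizer of `z` and `t`
  set D := Subgroup.centralizer ({S.z, F.t} : Set G) with hD
  have memD : ∀ {d}, d ∈ D ↔ Commute d S.z ∧ Commute d F.t := fun {d} => by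
    rw [hD, Subgroup.mem_centralizer_iff]
    simp only [Set.mem_insert_iff, Set.mem_singleton_iff, forall_eq_or_imp, forall_eq]
    exact ⟨fun h => ⟨h.1.symm, h.2.symm⟩, fun h => ⟨h.1.symm.eq, h.2.symm.eq⟩⟩
  set T := (Cfsg.pCore 2 D).map D.subtype with hT
  have hTD : T ≤ D := Subgroup.map_subtype_le _
  have hT2 : IsPGroup 2 T := (CfsgLib.PLocal.isPGroup_pCore 2 D).map _
  have hEcD : ∀ e ∈ Eset, ∀ d ∈ D, Commute e d := fun e he d hd => hEcomm e he d (memD.1 hd).1 (memD.1 hd).2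
  have hTle : ∀ {N : Subgroup G}, N ≤ D → IsPGroup 2 N → (∀ d ∈ D, ∀ a ∈ N, d * a * d⁻¹ ∈ N) → N ≤ T := by
    intro N hND hN hnorm
    have : (N.subgroupOf D).Normal := ⟨fun a ha d => hnorm d.1 d.2 a.1 ha⟩
    have h := CfsgLib.PLocal.le_pCore (N := N.subgroupOf D) (hN.comap_subtype (K := D))
    intro a ha
    exact ⟨⟨a, hND ha⟩, h ha, rfl⟩
  have hTn : ∀ d ∈ D, ∀ a ∈ T, d * a * d⁻¹ ∈ T := by
    rintro d hd _ ⟨a, ha, rfl⟩
    exact ⟨⟨d, hd⟩ * a * ⟨d, hd⟩⁻¹, Subgroup.Normal.conj_mem inferInstance a ha _, rfl⟩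
  have hTnorm : ∀ h : G, (∀ d ∈ D, h * d * h⁻¹ ∈ D) → h ∈ Subgroup.normalizer (T : Set G) := by
    intro h hh
    have hinj := (MulAut.conj h).injective
    have hmapD : D.map (MulAut.conj h).toMonoidHom = D := by
      refine Subgroup.eq_of_le_of_card_ge ?_ ?_
      · rintro _ ⟨d, hd, rfl⟩; exact hh d hd
      · rw [← Nat.card_congr (D.equivMapOfInjective (MulAut.conj h).toMonoidHom hinj).toEquiv]
    have hmap : T.map (MulAut.conj h).toMonoidHom = T := by
      refine Subgroup.eq_of_le_of_card_ge (hTle ?_ (hT2.map _) ?_) ?_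
      · exact (Subgroup.map_mono hTD).trans hmapD.le
      · intro d hd a ha
        obtain ⟨d', hd', rfl⟩ := hmapD.ge hd
        obtain ⟨b, hb, rfl⟩ := ha
        exact ⟨d' * b * d'⁻¹, hTn d' hd' b hb, by simp [map_mul, map_inv]⟩
      · rw [← Nat.card_congr (T.equivMapOfInjective (MulAut.conj h).toMonoidHom hinj).toEquiv]
    rw [Subgroup.mem_normalizer_iff]
    refine fun a => ⟨fun ha => ?_, fun ha => ?_⟩
    · exact hmap.le ⟨a, ha, rfl⟩
    · obtain ⟨b, hb, e⟩ := hmap.ge ha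
      have : b = a := hinj e
      exact this ▸ hb
  have hρD : ∀ d ∈ D, ρ * d * ρ⁻¹ ∈ D := by
    intro d hd
    refine memD.2 ⟨?_, ?_⟩
    · have := (Commute.conj_iff ρ).2 ((memD.1 hd).2.mul_right (memD.1 hd).1)
      rwa [F.rot_tz] at this
    · have := (Commute.conj_iff ρ).2 (memD.1 hd).1
      rwa [F.rot_z] at this
  have hxD : ∀ d ∈ D, x2 * d * x2⁻¹ ∈ D := fun d hd => memD.2
    ⟨((S.L_comm hn hn' _).mul_left (memD.1 hd).1).mul_left (S.L_comm hn hn' _).inv_left,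
      ((F.t_x2.symm).mul_left (memD.1 hd).2).mul_left F.t_x2.symm.inv_left⟩
  -- fixed points of `x y` in the two-core
  have hTx : ∀ c ∈ T, Commute c x2 → c ∈ Eset := by
    intro c hc hcx
    obtain ⟨i, e, hce, he⟩ := F.cent_zt_x2 (memD.1 (hTD hc)).1 (memD.1 (hTD hc)).2 hcx
    obtain ⟨j, hj⟩ := hT2 ⟨c, hc⟩
    have hj' : c ^ 2 ^ (j + 1) = 1 := by
      rw [pow_succ, pow_mul, show c ^ 2 ^ j = 1 from congrArg Subtype.val hj, one_pow]
    have hLe : Commute (S.L hn hn' (i, i, 0)) e := by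
      refine (hEcomm e he _ (S.L_comm hn hn' _) ?_).symm
      refine (mul_inv_eq_iff_eq_mul.1 (?_ : F.t * S.L hn hn' (i, i, 0) * F.t⁻¹ = S.L hn hn' (i, i, 0))).symm
      rw [F.t_L]; simp
    have hL2 : S.L hn hn' (i, i, 0) ^ 2 ^ (j + 1) = 1 := by
      rw [hce, hLe.mul_pow, pow_succ' 2 j, pow_mul e, sq, hEinv e he, one_pow, mul_one, ← pow_succ' 2 j] at hj'
      exact hj'
    have hone : orderOf (S.L hn hn' (i, i, 0)) ∣ Nat.gcd 3 (2 ^ (j + 1)) :=
      Nat.dvd_gcd (orderOf_dvd_of_pow_eq_one (S.L_cube hn hn' _)) (orderOf_dvd_of_pow_eq_one hL2)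
    rw [Nat.Coprime.gcd_eq_one (Nat.Coprime.pow_right _ (by decide)), Nat.dvd_one, orderOf_eq_one_iff] at hone
    rw [hce, hone, one_mul]
    exact he
  -- the acting plane
  have hρx : Commute ρ x2 := F.rot_x
  have hx3 : x2 ^ 3 = 1 := S.L_cube hn hn' _
  have inv3' : ∀ {b : G} (i : ℕ), b ^ 3 = 1 → (b ^ i)⁻¹ = b ^ (2 * i) := fun {b} i hb =>
    inv_eq_of_mul_eq_one_left (by rw [← pow_add, show 2 * i + i = 3 * i by omega, pow_mul, hb, one_pow])
  let A : Subgroup G :=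
    { carrier := {h | ∃ i j : ℕ, h = ρ ^ i * x2 ^ j}
      one_mem' := ⟨0, 0, by simp⟩
      mul_mem' := by
        rintro _ _ ⟨i, j, rfl⟩ ⟨i', j', rfl⟩
        refine ⟨i + i', j + j', ?_⟩
        rw [pow_add, pow_add, mul_assoc, ← mul_assoc (x2 ^ j), ← (hρx.pow_pow i' j).eq]
        group
      inv_mem' := by
        rintro _ ⟨i, j, rfl⟩
        exact ⟨2 * i, 2 * j, by rw [← inv3' i hρ3, ← inv3' j hx3, mul_inv_rev, ((hρx.pow_pow i j).inv_inv).eq]⟩ }
  have hAcube : ∀ h ∈ A, h ^ 3 = 1 := by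
    rintro _ ⟨i, j, rfl⟩
    rw [(hρx.pow_pow i j).mul_pow, ← pow_mul, ← pow_mul, mul_comm i, mul_comm j, pow_mul, pow_mul, hρ3, hx3,
      one_pow, one_pow, one_mul]
  have : IsMulCommutative A := ⟨⟨by
    rintro ⟨_, i, j, rfl⟩ ⟨_, i', j', rfl⟩
    exact Subtype.ext ((((Commute.refl ρ).pow_pow i i').mul_right (hρx.pow_pow i j')).mul_left
      (((hρx.pow_pow i' j).symm).mul_right ((Commute.refl x2).pow_pow j j'))).eq⟩⟩
  have hncyc : ¬ IsCyclic A := by
    intro hcy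
    obtain ⟨⟨γ, hγ⟩, hgen⟩ := hcy.exists_generator
    have hle : Nat.card A ≤ 3 := by
      rw [← orderOf_eq_card_of_forall_mem_zpowers hgen]
      exact Nat.le_of_dvd (by norm_num) (orderOf_dvd_of_pow_eq_one (Subtype.ext (hAcube γ hγ)))
    have hx2z : Commute x2 S.z := S.L_comm hn hn' _
    have hρmem : ρ ∈ A := ⟨1, 0, by simp⟩
    have hxmem : ∀ j, x2 ^ j ∈ A := fun j => ⟨0, j, by simp⟩
    let f : Fin 3 ⊕ Unit → A := Sum.elim (fun j => ⟨x2 ^ j.val, hxmem _⟩) (fun _ => ⟨ρ, hρmem⟩)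
    have hf : Function.Injective f := by
      rintro (i | u) (j | u') e <;> have e' := congrArg Subtype.val e
      · refine congrArg Sum.inl (Fin.ext ?_)
        have hord : orderOf x2 = 3 := orderOf_eq_prime hx3 (S.L_ne hn hn' (by decide))
        exact pow_injOn_Iio_orderOf (x := x2) (by rw [hord]; exact i.2) (by rw [hord]; exact j.2) e'
      · exact absurd ((show x2 ^ i.val = ρ from e') ▸ hx2z.pow_left _) hρz
      · exact absurd ((show x2 ^ j.val = ρ from e'.symm) ▸ hx2z.pow_left _) hρz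
      · rfl
    have := Nat.card_le_card_of_injective f hf
    rw [Nat.card_sum, Nat.card_fin, Nat.card_unique] at this
    omega
  have hAT : A ≤ Subgroup.normalizer (T : Set G) := by
    rintro _ ⟨i, j, rfl⟩
    exact mul_mem (pow_mem (hTnorm ρ hρD) i) (pow_mem (hTnorm x2 hxD) j)
  have hcop : (Nat.card A).Coprime (Nat.card T) := by
    have : Fact (Nat.Prime 3) := ⟨Nat.prime_three⟩
    have : Fact (Nat.Prime 2) := ⟨Nat.prime_two⟩
    obtain ⟨a, ha⟩ := IsPGroup.iff_card.1 (show IsPGroup 3 A from fun h => ⟨1, Subtype.ext (hAcube h.1 h.2)⟩)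
    obtain ⟨b, hb⟩ := IsPGroup.iff_card.1 hT2
    rw [ha, hb]
    exact Nat.Coprime.pow _ _ (by decide)
  set hk : Fin 3 → G := fun k => ρ * S.L hn hn' (k, k, 0) with hhk
  have hkA : ∀ k, Commute (hk k) x2 := fun k => hρx.mul_left (S.L_commute hn hn' _ _)
  have hkE : ∀ k e, e ∈ Eset → Commute (hk k) e → e = 1 := by
    intro k e he h
    refine hfree e he ?_
    have hL : Commute (S.L hn hn' (k, k, 0)) e := by
      refine (hEcomm e he _ (S.L_comm hn hn' _) ?_).symm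
      refine (mul_inv_eq_iff_eq_mul.1 (?_ : F.t * S.L hn hn' (k, k, 0) * F.t⁻¹ = S.L hn hn' (k, k, 0))).symm
      rw [F.t_L]; simp
    have := h.mul_left hL.inv_left
    rwa [hhk, mul_inv_cancel_right] at this
  -- two lines with fixed points
  obtain ⟨k, k', hkk, hk1, hk2⟩ : ∃ k k' : Fin 3, k ≠ k' ∧ (∃ c ∈ T, c ≠ 1 ∧ Commute c (hk k)) ∧
      ∃ c ∈ T, c ≠ 1 ∧ Commute c (hk k') := by
    by_contra hno
    push Not at hno
    obtain ⟨k0, hk0'⟩ : ∃ k0, ∀ k, k ≠ k0 → ∀ c ∈ T, Commute c (hk k) → c = 1 := by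
      by_cases h : ∃ k, ∃ c ∈ T, c ≠ 1 ∧ Commute c (hk k)
      · obtain ⟨k0, hk0'⟩ := h
        exact ⟨k0, fun k hne c hc hcc => by_contra fun h1 => hno k0 k (Ne.symm hne) hk0' c hc h1 hcc⟩
      · push Not at h
        exact ⟨0, fun k _ c hc hcc => by_contra fun h1 => h k c hc h1 hcc⟩
    let W : Subgroup G :=
      { carrier := {a | a ∈ T ∧ ∃ e ∈ Eset, Commute (e * a) (hk k0)}
        one_mem' := ⟨one_mem T, 1, Or.inl rfl, by rw [one_mul]; exact Commute.one_left _⟩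
        mul_mem' := by
          rintro a b ⟨ha, e, he, hea⟩ ⟨hb, e', he', heb⟩
          refine ⟨mul_mem ha hb, e * e', hEmul e he e' he', ?_⟩
          rw [show e * e' * (a * b) = e * (e' * a) * b by group, (hEcD e' he' a (hTD ha)).eq,
            show e * (a * e') * b = e * a * (e' * b) by group]
          exact hea.mul_left heb
        inv_mem' := by
          rintro a ⟨ha, e, he, hea⟩
          refine ⟨inv_mem ha, e, he, ?_⟩
          have := hea.inv_left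
          rwa [mul_inv_rev, inv_eq_of_mul_eq_one_right (hEinv e he),
            ← (hEcD e he _ (hTD (inv_mem ha))).eq] at this }
    have hTW : T ≤ W := by
      refine CfsgLib.Coprime.le_of_forall_inf_centralizer_le hncyc hAT hcop ?_
      rintro _ ⟨i, j, rfl⟩ hne c ⟨hc, hcc⟩
      have hcc' : Commute c (ρ ^ i * x2 ^ j) := Subgroup.mem_centralizer_singleton_iff.1 hcc
      by_cases hi : i % 3 = 0
      · have hρi : ρ ^ i = 1 := by
          rw [← Nat.div_add_mod i 3, hi, add_zero, pow_mul, hρ3, one_pow]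
        rw [hρi, one_mul] at hcc' hne
        have hj : j % 3 = 1 ∨ j % 3 = 2 := by
          rcases (by omega : j % 3 = 0 ∨ j % 3 = 1 ∨ j % 3 = 2) with h | h | h
          · exact absurd (by rw [← Nat.div_add_mod j 3, h, add_zero, pow_mul, hx3, one_pow]) hne
          · exact Or.inl h
          · exact Or.inr h
        have hjj : (x2 ^ j) ^ (j % 3) = x2 := by
          rw [← pow_mul, ← pow_mod_orderOf, orderOf_eq_prime hx3 (S.L_ne hn hn' (by decide)), Nat.mul_mod,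
            Nat.mod_mod]
          rcases hj with h | h <;> simp [h]
        have hcx : Commute c x2 := hjj ▸ hcc'.pow_right _
        have hcE := hTx c hc hcx
        refine ⟨hc, c, hcE, ?_⟩
        rw [hEinv c hcE]
        exact Commute.one_left _
      · -- a power is one of the three representatives
        have hi' : i % 3 = 1 ∨ i % 3 = 2 := by omega
        set m := i % 3 with hm
        have hk : ∃ k : Fin 3, (ρ ^ i * x2 ^ j) ^ m = hk k := by
          refine ⟨⟨j * m % 3, Nat.mod_lt _ (by norm_num)⟩, ?_⟩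
          have hρim : ρ ^ (i * m) = ρ := by
            rw [← Nat.div_add_mod i 3, ← hm]
            rcases hi' with h | h <;> rw [h, add_mul, pow_add, mul_assoc, pow_mul, hρ3, one_pow, one_mul]
            · rw [one_mul, pow_one]
            · rw [show 2 * 2 = 3 + 1 from rfl, pow_add, hρ3, one_mul, pow_one]
          have hxk : ∀ q : Fin 3, S.L hn hn' (q, q, 0) = x2 ^ q.val := by
            intro q
            fin_cases q
            · simp only [pow_zero]; exact S.L_zero hn hn'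
            · simp only [pow_one]; rfl
            · simp only [sq, hx2, S.L_mul]; rfl
          rw [(hρx.pow_pow i j).mul_pow, ← pow_mul, ← pow_mul, hρim, hhk]
          simp only [hxk]
          rw [← pow_mod_orderOf x2 (j * m), orderOf_eq_prime hx3 (S.L_ne hn hn' (by decide))]
        obtain ⟨k, hk⟩ := hk
        have hck := hk ▸ hcc'.pow_right m
        by_cases hkk0 : k = k0
        · refine ⟨hc, 1, Or.inl rfl, ?_⟩
          rw [one_mul]
          exact hkk0 ▸ hck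
        · rw [hk0' k hkk0 c hc hck]
          exact one_mem W
    obtain ⟨pa', pb', sa, sb, a2, b2, ab, ca, cb, cab, at0, cat, bt0, cbt, fa, fb⟩ := flip_pair hn hn'
    let K4 : Subgroup G :=
      { carrier := {d | d ∈ D ∧ ∀ i, S.p d i = i ∨ S.p d i = pt0 hn i}
        one_mem' := ⟨one_mem D, fun i => Or.inl (by rw [S.p_one]; rfl)⟩
        mul_mem' := by
          rintro d e ⟨hd, hd'⟩ ⟨he, he'⟩
          refine ⟨mul_mem hd he, fun i => ?_⟩
          rw [S.p_mul (memD.1 hd).1 (memD.1 he).1, Perm.mul_apply]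
          rcases he' i with h | h <;> rw [h]
          · exact hd' i
          · have hc : S.p d (pt0 hn i) = pt0 hn (S.p d i) := by
              rw [← Perm.mul_apply, ← Perm.mul_apply, ← F.t_p, ← S.p_mul (memD.1 hd).1 F.t_z,
                ← S.p_mul F.t_z (memD.1 hd).1, (memD.1 hd).2.eq]
            rw [hc]
            rcases hd' i with h' | h' <;> rw [h']
            · exact Or.inr rfl
            · exact Or.inl (apply_apply_of_invol (invol_facts hn hn').1.1 i)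
        inv_mem' := by
          rintro d ⟨hd, hd'⟩
          refine ⟨inv_mem hd, fun i => ?_⟩
          rw [S.p_inv (memD.1 hd).1]
          rcases hd' i with h | h
          · exact Or.inl (by rw [Perm.inv_eq_iff_eq, h])
          · right
            have hc : S.p d (pt0 hn i) = pt0 hn (S.p d i) := by
              rw [← Perm.mul_apply, ← Perm.mul_apply, ← F.t_p, ← S.p_mul (memD.1 hd).1 F.t_z,
                ← S.p_mul F.t_z (memD.1 hd).1, (memD.1 hd).2.eq]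
            rw [Perm.inv_eq_iff_eq, hc, h, apply_apply_of_invol (invol_facts hn hn').1.1] }
    have hK4D : K4 ≤ D := fun d hd => hd.1
    have hK4 : K4 ≤ T := by
      refine hTle hK4D ?_ ?_
      · rintro ⟨d, hd, hd'⟩
        refine ⟨2, Subtype.ext ?_⟩
        show d ^ 2 ^ 2 = 1
        have h2 : S.p d * S.p d = 1 := by
          refine Equiv.ext fun i => ?_
          rw [Perm.mul_apply, Perm.one_apply]
          rcases hd' i with h | h
          · rw [h, h]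
          · rcases hd' (pt0 hn i) with h' | h'
            · rw [h, h']
              exact (S.p d).injective (h'.trans h.symm)
            · rw [h, h', apply_apply_of_invol (invol_facts hn hn').1.1]
        have hz : d * d = 1 ∨ d * d = S.z :=
          S.p_ker ((memD.1 hd).1.mul_left (memD.1 hd).1) (by rw [S.p_mul (memD.1 hd).1 (memD.1 hd).1, h2])
        rw [show (2 : ℕ) ^ 2 = 2 * 2 from rfl, pow_mul, sq, sq]
        rcases hz with h | h <;> rw [h]
        · rw [one_mul]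
        · exact S.z_sq
      · rintro d hd a ⟨ha, ha'⟩
        refine ⟨mul_mem (mul_mem hd ha) (inv_mem hd), fun i => ?_⟩
        have hc : ∀ q, S.p d (pt0 hn q) = pt0 hn (S.p d q) := fun q => by
          rw [← Perm.mul_apply, ← Perm.mul_apply, ← F.t_p, ← S.p_mul (memD.1 hd).1 F.t_z,
            ← S.p_mul F.t_z (memD.1 hd).1, (memD.1 hd).2.eq]
        rw [S.p_conj (memD.1 hd).1 (memD.1 ha).1, Perm.mul_apply, Perm.mul_apply]
        rcases ha' ((S.p d)⁻¹ i) with h | h <;> rw [h]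
        · left; simp
        · right; rw [hc]; simp
    have mkq : ∀ π : Perm (Fin n), sign π = 1 → π * π = 1 → π.support.card = 4 → π * pt0 hn = pt0 hn * π →
        (π * pt0 hn).support.card = 4 → (∀ i, π i = i ∨ π i = pt0 hn i) →
        ∃ q, q ∈ T ∧ Commute q S.z ∧ S.p q = π := by
      intro π h1 h2 h3 h4 h5 h6
      obtain ⟨q, hq, hpq⟩ := S.lift π h1
      have hqt : Commute q F.t := by
        refine (S.commute_iff hq F.t_z (by rw [hpq, h2]) (by rw [F.t_p, (invol_facts hn hn').1.1])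
          (by rw [hpq, F.t_p, h4]) (i := 1) (j := 2) (k := 1) (by rw [hpq, h3])
          (by rw [F.t_p, (invol_facts hn hn').2.1.1]) (by rw [hpq, F.t_p, h5])).1.2 (by decide)
      exact ⟨q, hK4 ⟨memD.2 ⟨hq, hqt⟩, fun i => by rw [hpq]; exact h6 i⟩, hq, hpq⟩
    obtain ⟨q1, q1T, q1z, q1p⟩ := mkq pa' sa a2 ca at0 cat fa
    obtain ⟨q2, q2T, q2z, q2p⟩ := mkq pb' sb b2 cb bt0 cbt fb
    have hanti := (S.commute_iff q1z q2z (by rw [q1p, a2]) (by rw [q2p, b2]) (by rw [q1p, q2p, ab]) (i := 1) (j := 1)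
      (k := 1) (by rw [q1p, ca]) (by rw [q2p, cb]) (by rw [q1p, q2p, cab])).2 (by decide)
    obtain ⟨-, e1, he1, hs1⟩ := hTW q1T
    obtain ⟨-, e2, he2, hs2⟩ := hTW q2T
    have d1 := hTD q1T
    have d2 := hTD q2T
    have e1D : e1 ∈ D := memD.2 ⟨by rcases he1 with rfl | rfl | rfl | rfl <;>
      first | exact Commute.one_left _ | exact Commute.refl _ | exact F.t_z | exact F.t_z.mul_left (Commute.refl _),
      by rcases he1 with rfl | rfl | rfl | rfl <;>
      first | exact Commute.one_left _ | exact F.t_z.symm | exact Commute.refl _ |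
        exact (Commute.refl _).mul_left F.t_z.symm⟩
    have hz : Commute (hk k0) S.z := by
      have h1 := (((hs1.mul_left hs2).mul_left hs1.inv_left).mul_left hs2.inv_left).symm
      have heq : e1 * q1 * (e2 * q2) * (e1 * q1)⁻¹ * (e2 * q2)⁻¹ = q1 * q2 * q1⁻¹ * q2⁻¹ := by
        have c1 := hEcD e1 he1 _ d1
        have c2 := hEcD e1 he1 _ d2
        have c3 := hEcD e2 he2 _ d1
        have c4 := hEcD e2 he2 _ d2
        have c5 := hEcD e2 he2 _ e1D
        calc e1 * q1 * (e2 * q2) * (e1 * q1)⁻¹ * (e2 * q2)⁻¹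
            = e1 * (q1 * e2) * (q2 * q1⁻¹) * e1⁻¹ * q2⁻¹ * e2⁻¹ := by group
          _ = e1 * (e2 * q1) * (q2 * q1⁻¹) * e1⁻¹ * q2⁻¹ * e2⁻¹ := by rw [c3.eq]
          _ = e1 * e2 * ((q1 * q2 * q1⁻¹) * e1⁻¹) * q2⁻¹ * e2⁻¹ := by group
          _ = e1 * e2 * (e1⁻¹ * (q1 * q2 * q1⁻¹)) * q2⁻¹ * e2⁻¹ := by
            rw [(((c1.mul_right c2).mul_right c1.inv_right).inv_left).eq]
          _ = e1 * (e2 * e1⁻¹) * (q1 * q2 * q1⁻¹ * q2⁻¹ * e2⁻¹) := by group
          _ = e1 * (e1⁻¹ * e2) * (e2⁻¹ * (q1 * q2 * q1⁻¹ * q2⁻¹)) := by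
            rw [c5.inv_right.eq, (((c3.mul_right c4).mul_right c3.inv_right).mul_right c4.inv_right).inv_left.eq]
          _ = q1 * q2 * q1⁻¹ * q2⁻¹ := by group
      rw [heq, hanti, show q2 * q1 * S.z * q1⁻¹ * q2⁻¹ = q2 * (q1 * S.z * q1⁻¹) * q2⁻¹ by group, q1z.eq,
        mul_inv_cancel_right, q2z.eq, mul_inv_cancel_right] at h1
      exact h1
    exact S.z_ne (hkE k0 S.z (Or.inr (Or.inl rfl)) hz)
  -- the lines have weight two
  have hw_ne : w.1 ≠ w.2.1 ∨ w.2.2 ≠ 0 := by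
    by_contra hcon
    push Not at hcon
    have key : ∀ v : Fin 3 × Fin 3 × Fin 3, v.1 = v.2.1 → v.2.2 = 0 → ∃ j : Fin 3, v = j.val • (1, 1, 0) := by decide
    obtain ⟨j, hj⟩ := key w hcon.1 hcon.2
    have hLw : S.L hn hn' w = x2 ^ j.val := by
      rw [hj]
      fin_cases j
      · simp only [pow_zero, zero_smul]; exact S.L_zero hn hn'
      · simp only [pow_one, one_smul]; rfl
      · simp only [sq, two_smul, hx2, S.L_mul]
    rw [hLw] at hgw
    have : ρ = g⁻¹ * x2 ^ j.val * g := by rw [← hgw]; simp only [hρ]; group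
    rw [mul_assoc, ← (hgx.pow_right _).eq, inv_mul_cancel_left] at this
    exact hρz (this ▸ (S.L_comm hn hn' _).pow_left _)
  have hconjk : ∀ k, g * hk k * g⁻¹ = S.L hn hn' (w + (k, k, 0)) := by
    intro k
    have hgk : Commute g (S.L hn hn' (k, k, 0)) := by
      have key : ∀ j : Fin 3, ((j, j, 0) : Fin 3 × Fin 3 × Fin 3) = 0 ∨ ((j, j, 0) : Fin 3 × Fin 3 × Fin 3) = (1, 1, 0) ∨
          ((j, j, 0) : Fin 3 × Fin 3 × Fin 3) = -(1, 1, 0) := by decide
      rcases key k with h | h | h <;> rw [h]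
      · rw [S.L_zero]; exact Commute.one_right _
      · exact hgx
      · rw [S.L_neg]; exact hgx.inv_right
    rw [hhk, show g * (ρ * S.L hn hn' (k, k, 0)) * g⁻¹ = g * ρ * g⁻¹ * (g * S.L hn hn' (k, k, 0) * g⁻¹) by group,
      hgw, hgk.eq, mul_inv_cancel_right, S.L_mul]
  have heven : ∀ k, (∃ c ∈ T, c ≠ 1 ∧ Commute c (hk k)) → w + (k, k, 0) ≠ 0 ∧ ¬ OddWeight (w + (k, k, 0)) := by
    rintro k ⟨c, hc, hc1, hcc⟩
    refine ⟨fun h0 => ?_, fun hodd => ?_⟩
    · have h := hconjk k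
      rw [h0, S.L_zero, conj_eq_one_iff] at h
      exact S.z_ne (hkE k S.z (Or.inr (Or.inl rfl)) (h ▸ Commute.one_left _))
    · set v := w + (k, k, 0) with hv
      set H := S.centL hn hn' {v} with hH
      have memH : ∀ {a}, a ∈ H ↔ Commute a (S.L hn hn' v) := fun {a} => by rw [hH, mem_centL]; simp
      have hun : ∀ j ∈ H, Commute j S.z → j * j = 1 → j ≠ 1 → j = S.z := fun j hj hjz hjj hj1 =>
        S.eq_z_of_oddWeight hn hn' hodd hjz hjj hj1 (memH.1 hj)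
      let Tk : Subgroup G := T ⊓ Subgroup.centralizer ({hk k} : Set G)
      have memTk : ∀ {a}, a ∈ Tk ↔ a ∈ T ∧ Commute a (hk k) := fun {a} => by
        rw [Subgroup.mem_inf, Subgroup.mem_centralizer_singleton_iff]; rfl
      have hTk : IsPGroup 2 Tk := hT2.to_le inf_le_left
      have : Nontrivial Tk := ⟨⟨⟨c, memTk.2 ⟨hc, hcc⟩⟩, 1, fun e => hc1 (congrArg Subtype.val e)⟩⟩
      have : Fact (Nat.Prime 2) := ⟨Nat.prime_two⟩
      have := hTk.center_nontrivial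
      obtain ⟨⟨⟨b, hb⟩, hbc⟩, hb1⟩ := exists_ne (1 : Subgroup.center Tk)
      obtain ⟨m, hm⟩ := hTk ⟨b, hb⟩
      have hm' : b ^ 2 ^ m = 1 := congrArg Subtype.val hm
      obtain ⟨j, hjm⟩ := (Nat.dvd_prime_pow Nat.prime_two).1 (orderOf_dvd_of_pow_eq_one hm')
      have hj0 : j ≠ 0 := fun h0 => by
        rw [h0, pow_zero, orderOf_eq_one_iff] at hjm
        exact hb1 (Subtype.ext (Subtype.ext hjm.2))
      set c0 := b ^ 2 ^ (j - 1) with hc0
      have hc00 : c0 * c0 = 1 := by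
        rw [hc0, ← pow_add, ← two_mul, ← pow_succ', show j - 1 + 1 = j by omega, ← hjm.2, pow_orderOf_eq_one]
      have hc01 : c0 ≠ 1 := pow_ne_one_of_lt_orderOf (by positivity) (by
        rw [hjm.2]; exact Nat.pow_lt_pow_right (by norm_num) (by omega))
      have hc0m : c0 ∈ Tk := pow_mem hb _
      have hc0c : ∀ a ∈ Tk, Commute c0 a := fun a ha => by
        have := congrArg Subtype.val (Subgroup.mem_center_iff.1 hbc ⟨a, ha⟩)
        exact Commute.pow_left (this : a * b = b * a).symm _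
      have conjH : ∀ a ∈ Tk, g * a * g⁻¹ ∈ H := fun a ha => memH.2 (by
        rw [← hconjk k]; exact (Commute.conj_iff g).2 (memTk.1 ha).2)
      set c1 := x2 * c0 * x2⁻¹ with hc1'
      have hc1m : c1 ∈ Tk := by
        refine memTk.2 ⟨(Subgroup.mem_normalizer_iff.1 (hTnorm x2 hxD) c0).1 (memTk.1 hc0m).1, ?_⟩
        have := (Commute.conj_iff x2).2 (memTk.1 hc0m).2
        rwa [(hkA k).symm.eq, mul_inv_cancel_right] at this
      have hc11 : c1 * c1 = 1 := by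
        rw [hc1', show x2 * c0 * x2⁻¹ * (x2 * c0 * x2⁻¹) = x2 * (c0 * c0) * x2⁻¹ by group, hc00, mul_one,
          mul_inv_cancel]
      have heq := S.invol_eq_of_commute (S.z_mem_centL hn hn') hun (conjH _ hc0m) (conjH _ hc1m)
        (by rw [show g * c0 * g⁻¹ * (g * c0 * g⁻¹) = g * (c0 * c0) * g⁻¹ by group, hc00, mul_one, mul_inv_cancel])
        (by rw [show g * c1 * g⁻¹ * (g * c1 * g⁻¹) = g * (c1 * c1) * g⁻¹ by group, hc11, mul_one, mul_inv_cancel])
        (fun e => hc01 (conj_eq_one_iff.1 e))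
        (fun e => hc01 (conj_eq_one_iff.1 (conj_eq_one_iff.1 e : c1 = 1)))
        ((Commute.conj_iff g).2 (hc0c c1 hc1m))
      have hcx : Commute c0 x2 :=
        (mul_inv_eq_iff_eq_mul.1 (mul_left_cancel (mul_right_cancel heq)).symm : x2 * c0 = c0 * x2).symm
      exact hc01 (hkE k c0 (hTx c0 (memTk.1 hc0m).1 hcx) (memTk.1 hc0m).2.symm)
  obtain ⟨n0, e0⟩ := heven k hk1
  obtain ⟨n1, e1⟩ := heven k' hk2
  obtain ⟨ε, hε, i, j, hij⟩ := plane_key w k k' hkk hw_ne n0 n1 e0 e1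
  -- an involution of `C(z)` inverting the plane
  set σ := g * u2 * g⁻¹ with hσ
  have hσσ : σ * σ = 1 := by
    rw [hσ, show g * u2 * g⁻¹ * (g * u2 * g⁻¹) = g * (u2 * u2) * g⁻¹ by group, hu2, mul_one, mul_inv_cancel]
  have hσx : σ * x2 * σ⁻¹ = x2⁻¹ := by
    calc σ * x2 * σ⁻¹ = g * (u2 * (g⁻¹ * x2 * g) * u2⁻¹) * g⁻¹ := by rw [hσ]; group
      _ = g * x2⁻¹ * g⁻¹ := by rw [mul_assoc g⁻¹, ← hgx.eq, inv_mul_cancel_left, hu2x]
      _ = x2⁻¹ := by rw [hgx.inv_right.eq, mul_inv_cancel_right]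
  have hσw : σ * S.L hn hn' w * σ⁻¹ = (S.L hn hn' w)⁻¹ := by
    calc σ * S.L hn hn' w * σ⁻¹ = g * (u2 * ρ * u2⁻¹) * g⁻¹ := by rw [hσ, ← hgw]; simp only [hρ]; group
      _ = g * ρ⁻¹ * g⁻¹ := by rw [hu2ρ]
      _ = (g * ρ * g⁻¹)⁻¹ := by group
      _ = (S.L hn hn' w)⁻¹ := by rw [hgw]
  have pw : ∀ (j : ℕ) (l : Fin 3 × Fin 3 × Fin 3), S.L hn hn' (j • l) = S.L hn hn' l ^ j := by
    intro j l
    induction j with
    | zero => rw [zero_smul, S.L_zero, pow_zero]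
    | succ j ih => rw [succ_nsmul, ← S.L_mul, ih, pow_succ]
  have hσε : σ * S.L hn hn' (1, 0, ε) * σ⁻¹ = (S.L hn hn' (1, 0, ε))⁻¹ := by
    rw [← hij, ← S.L_mul, pw, pw, ← hx2]
    calc σ * (S.L hn hn' w ^ i.val * x2 ^ j.val) * σ⁻¹
        = (σ * S.L hn hn' w ^ i.val * σ⁻¹) * (σ * x2 ^ j.val * σ⁻¹) := by group
      _ = ((S.L hn hn' w)⁻¹) ^ i.val * (x2⁻¹) ^ j.val := by rw [← conj_pow, ← conj_pow, hσw, hσx]
      _ = (S.L hn hn' w ^ i.val * x2 ^ j.val)⁻¹ := by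
        rw [mul_inv_rev, inv_pow, inv_pow, (((S.L_commute hn hn' w (1, 1, 0)).pow_pow _ _).inv_inv).eq]
  set H := S.centL hn hn' {(1, 1, 0), (1, 0, ε)} with hH
  have memH : ∀ {a}, a ∈ H ↔ Commute a x2 ∧ Commute a (S.L hn hn' (1, 0, ε)) := fun {a} => by
    rw [hH, mem_centL]; simp [hx2]
  have hun : ∀ q ∈ H, Commute q S.z → q * q = 1 → q ≠ 1 → q = S.z := by
    intro q hq hqz hqq hq1
    have key : ∀ e : Fin 3, e ≠ 0 → OddWeight ((1, 1, 0) + (1, 0, e)) := by decide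
    refine S.eq_z_of_oddWeight hn hn' (key ε hε) hqz hqq hq1 ?_
    rw [← S.L_mul]
    exact (memH.1 hq).1.mul_right (memH.1 hq).2
  have hσH : ∀ q ∈ H, σ * q * σ⁻¹ ∈ H := by
    intro q hq
    refine memH.2 ⟨?_, ?_⟩
    · have := (Commute.conj_iff σ).2 (memH.1 hq).1
      rwa [hσx, Commute.inv_right_iff] at this
    · have := (Commute.conj_iff σ).2 (memH.1 hq).2
      rwa [hσε, Commute.inv_right_iff] at this
  set J : Set G := {q | q ∈ H ∧ q * q = 1 ∧ q ≠ 1} with hJ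
  have conjJ : ∀ {c}, (∀ q ∈ H, c * q * c⁻¹ ∈ H) → ∀ {q}, q ∈ J → c * q * c⁻¹ ∈ J := by
    intro c hc q hq
    exact ⟨hc q hq.1, by rw [show c * q * c⁻¹ * (c * q * c⁻¹) = c * (q * q) * c⁻¹ by group, hq.2.1, mul_one,
      mul_inv_cancel], fun e => hq.2.2 (conj_eq_one_iff.1 e)⟩
  have zH : ∀ q ∈ H, S.z * q * S.z⁻¹ ∈ H := fun q hq =>
    H.mul_mem (H.mul_mem (S.z_mem_centL hn hn') hq) (H.inv_mem (S.z_mem_centL hn hn'))
  have : Fintype J := Fintype.ofFinite _
  have : Fact (Nat.Prime 2) := ⟨Nat.prime_two⟩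
  have perm : ∀ (c : G), c * c = 1 → (∀ q ∈ H, c * q * c⁻¹ ∈ H) →
      ∃ e : Equiv.Perm J, e ^ 2 ^ 1 = 1 ∧ ∀ q, (e q).1 = c * q.1 * c⁻¹ := by
    intro c hcc hc
    have hci : ∀ q : G, c * (c * q * c⁻¹) * c⁻¹ = q := fun q => by
      rw [show c * (c * q * c⁻¹) * c⁻¹ = (c * c) * q * (c * c)⁻¹ by group, hcc, one_mul, inv_one, mul_one]
    refine ⟨⟨fun q => ⟨_, conjJ hc q.2⟩, fun q => ⟨_, conjJ hc q.2⟩, fun q => Subtype.ext (hci q.1),
      fun q => Subtype.ext (hci q.1)⟩, Equiv.ext fun q => Subtype.ext ?_, fun q => rfl⟩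
    rw [pow_one, sq, Perm.mul_apply]
    exact hci q.1
  obtain ⟨ez, hez, ezval⟩ := perm S.z S.z_sq zH
  obtain ⟨es, hes, esval⟩ := perm σ hσσ hσH
  have hodd : Fintype.card J % 2 = 1 := by
    have h1 : ez.supportᶜ = {⟨S.z, S.z_mem_centL hn hn', S.z_sq, S.z_ne⟩} := by
      ext q
      rw [Finset.mem_compl, mem_support, not_not, Finset.mem_singleton]
      constructor
      · intro hq
        have h := (ezval q).symm.trans (congrArg Subtype.val hq)
        exact Subtype.ext (hun q.1 q.2.1 (mul_inv_eq_iff_eq_mul.1 h).symm q.2.2.1 q.2.2.2)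
      · rintro rfl
        exact Subtype.ext ((ezval _).trans (mul_inv_cancel_right _ _))
    have h2 := card_compl_support_modEq (σ := ez) hez
    rw [h1, Finset.card_singleton] at h2
    exact h2.symm
  obtain ⟨⟨q, hqH, hqq, hq1⟩, hqfix⟩ : ∃ q : J, es q = q := by
    refine exists_fixed_point_of_prime (p := 2) (n := 1) ?_ hes
    omega
  obtain ⟨c, hc, hcz, -⟩ := S.conj_invol (S.z_mem_centL hn hn') hun hqH hqq hq1
  have hσq : σ * q * σ⁻¹ = q := (esval _).symm.trans (congrArg Subtype.val hqfix)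
  set s := c⁻¹ * σ * c⁻¹⁻¹ with hs
  have hsz : Commute s S.z := by
    have := (Commute.conj_iff c⁻¹).2 (mul_inv_eq_iff_eq_mul.1 hσq : Commute σ q)
    rwa [← hcz, show c⁻¹ * (c * S.z * c⁻¹) * c⁻¹⁻¹ = S.z by group] at this
  have hinv : ∀ v, Commute c (S.L hn hn' v) → σ * S.L hn hn' v * σ⁻¹ = (S.L hn hn' v)⁻¹ →
      S.p s * el hn v * (S.p s)⁻¹ = (el hn v)⁻¹ := by
    intro v hcv h
    have h' : s * S.L hn hn' v * s⁻¹ = (S.L hn hn' v)⁻¹ := by
      calc s * S.L hn hn' v * s⁻¹ = c⁻¹ * (σ * (c * S.L hn hn' v * c⁻¹) * σ⁻¹) * c := by rw [hs]; group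
        _ = c⁻¹ * (S.L hn hn' v)⁻¹ * c := by rw [hcv.eq, mul_inv_cancel_right, h]
        _ = (S.L hn hn' v)⁻¹ := by rw [mul_assoc, ← hcv.inv_right.eq, inv_mul_cancel_left]
    rw [← S.L_p hn hn' v, ← S.p_inv (S.L_comm hn hn' v), ← h', S.p_conj hsz (S.L_comm hn hn' v)]
  exact not_invert_plane hn hn' (S.p_sign hsz) hε (hinv _ (memH.1 hc).1 hσx) (hinv _ (memH.1 hc).2 hσε)

end Setup

end CfsgLib.AltInvolCent
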