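import Cfsg.Agent.AltInvolCent.Rotation

/-!
# No element of three-power order of `C(x)` is inverted by `z`

For degree ten an element of order seven fixes all inverted elements. For degree nine the inverted
elements commuting with `y` and `a` are moved by the rotation into the lines inverted by `t`, and each
possible line leads to a centralizer containing too many inverted elements.
-/

set_option autoImplicit false
set_option linter.unusedSectionVars false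

namespace CfsgLib.AltInvolCent

open Equiv Equiv.Perm
open NinePerms

/-- `(3 6)(7 8)`. -/
def pk1 {n : ℕ} (hn : 9 ≤ n) : Perm (Fin n) := swap (pt n 3) (pt n 6) * swap (pt n 7) (pt n 8)
/-- `(0 3)(1 5)`. -/
def pk2 {n : ℕ} (hn : 9 ≤ n) : Perm (Fin n) := swap (pt n 0) (pt n 3) * swap (pt n 1) (pt n 5)
/-- `(0 6)(1 7)(2 8)(3 4)`. -/
def pxa {n : ℕ} (hn : 9 ≤ n) : Perm (Fin n) :=
  swap (pt n 0) (pt n 6) * swap (pt n 1) (pt n 7) * swap (pt n 2) (pt n 8) * swap (pt n 3) (pt n 4)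

theorem kill_facts {n : ℕ} (hn : 9 ≤ n) (hn' : n ≤ 10) :
    (sign (pk1 hn) = 1 ∧ pk1 hn * el hn (1, 0, 0) = el hn (1, 0, 0) * pk1 hn ∧
      (el hn (0, 1, 0) * (pk1 hn * el hn (0, 1, 0) * (pk1 hn)⁻¹)) *
        (el hn (0, 1, 0) * (pk1 hn * el hn (0, 1, 0) * (pk1 hn)⁻¹)) = 1 ∧
      (el hn (0, 1, 0) * (pk1 hn * el hn (0, 1, 0) * (pk1 hn)⁻¹)).support.card = 4) ∧
    (sign (pk2 hn) = 1 ∧ pk2 hn * el hn (0, 0, 1) = el hn (0, 0, 1) * pk2 hn ∧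
      (el hn (1, 1, 0) * (pk2 hn * el hn (1, 1, 0) * (pk2 hn)⁻¹)) *
        (el hn (1, 1, 0) * (pk2 hn * el hn (1, 1, 0) * (pk2 hn)⁻¹)) = 1 ∧
      (el hn (1, 1, 0) * (pk2 hn * el hn (1, 1, 0) * (pk2 hn)⁻¹)).support.card = 4) ∧
    (sign (pxa hn) = 1 ∧ pxa hn * el hn (1, 0, 0) * (pxa hn)⁻¹ = el hn (0, 0, 1)) := by
  rcases (by omega : n = 9 ∨ n = 10) with rfl | rfl <;> decide +kernel +revert

theorem xy_pow_facts (hn : 9 ≤ 9) :
    ∀ i j : Fin 3, el hn (1, 0, 0) ^ i.val = el hn (0, 1, 0) ^ j.val → i = 0 := by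
  decide +kernel +revert

/-- `(3 4 5 6 7 8 9)` and `(3 4)(5 7)`. -/
theorem seven_facts : ∃ q π : Perm (Fin 10), q ^ 7 = 1 ∧ sign π = 1 ∧
    q * el (n := 10) (by decide) (1, 0, 0) = el (n := 10) (by decide) (1, 0, 0) * q ∧
    π * el (n := 10) (by decide) (1, 0, 0) = el (n := 10) (by decide) (1, 0, 0) * π ∧
    q * (π * q * π⁻¹) * (q * (π * q * π⁻¹)) = 1 ∧ (q * (π * q * π⁻¹)).support.card = 4 := by
  refine ⟨swap 3 4 * swap 4 5 * swap 5 6 * swap 6 7 * swap 7 8 * swap 8 9, swap 3 4 * swap 5 7, ?_⟩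
  decide +kernel

namespace Setup

variable {G : Type*} [Group G] {n : ℕ} (S : Setup G n) (hn : 9 ≤ n) (hn' : n ≤ 10)

theorem commute_L {g : G} (hx : Commute g (S.L hn hn' (1, 0, 0))) (hy : Commute g (S.L hn hn' (0, 1, 0)))
    (ha : Commute g (S.L hn hn' (0, 0, 1))) (v : Fin 3 × Fin 3 × Fin 3) : Commute g (S.L hn hn' v) := by
  have key : ∀ {w} (i : Fin 3), Commute g (S.L hn hn' w) → Commute g (S.L hn hn' (i.val • w)) := by
    intro w i h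
    generalize i.val = j
    induction j with
    | zero => rw [zero_smul, S.L_zero]; exact Commute.one_right g
    | succ j ih => rw [succ_nsmul, ← S.L_mul]; exact ih.mul_right h
  have e : ∀ v : Fin 3 × Fin 3 × Fin 3, v.1.val • ((1, 0, 0) : Fin 3 × Fin 3 × Fin 3) +
      v.2.1.val • (0, 1, 0) + v.2.2.val • (0, 0, 1) = v := by decide
  rw [← e v, ← S.L_mul, ← S.L_mul]
  exact ((key _ hx).mul_right (key _ hy)).mul_right (key _ ha)

variable [Finite G] [IsSimpleGroup G]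

theorem cyc_y (F : S.Frame hn hn') : S.Cyc (S.L hn hn' (0, 1, 0)) := by
  have h := (S.cyc_x hn hn').conj F.t_z
  rwa [F.t_L] at h

theorem card_inv3_x : (S.inv3 (S.L hn hn' (1, 0, 0))).ncard ≤ 81 := by
  obtain ⟨⟨-, -, i3⟩, ⟨-, -, c3⟩, -, ⟨-, -, s3⟩⟩ := invol_facts hn hn'
  obtain ⟨τ, hτ, hpτ⟩ := S.lift _ s3
  refine S.card_inv3_le hn' (S.cyc_x hn hn') hτ (by rw [hpτ, i3]) (by rw [hpτ, c3]) ?_
  rw [← S.L_neg hn hn']
  refine S.L_conj hn hn' hτ ?_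
  obtain ⟨-, ex, -, -⟩ := (el_facts hn hn').1
  rw [hpτ, ← ex, (inv_facts hn hn').2.2, ← S.L_p hn hn' (-(1, 0, 0)), S.L_neg, S.p_inv (S.L_comm hn hn' _),
    S.L_p, ex]

theorem cyc_a : S.Cyc (S.L hn hn' (0, 0, 1)) ∧ (S.inv3 (S.L hn hn' (0, 0, 1))).ncard ≤ 81 := by
  obtain ⟨-, -, hs, hc⟩ := kill_facts hn hn'
  obtain ⟨d, hd, hpd⟩ := S.lift _ hs
  have e : d * S.L hn hn' (1, 0, 0) * d⁻¹ = S.L hn hn' (0, 0, 1) := S.L_conj hn hn' hd (by rw [hpd, hc])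
  refine ⟨e ▸ (S.cyc_x hn hn').conj hd, le_trans ?_ (S.card_inv3_x hn hn')⟩
  refine Set.ncard_le_ncard_of_injOn (fun w => d⁻¹ * w * d⁻¹⁻¹) ?_ ?_ (Set.toFinite _)
  · intro w hw
    have := S.conj_mem_inv3 hd.inv_left hw
    rwa [← e, show d⁻¹ * (d * S.L hn hn' (1, 0, 0) * d⁻¹) * d⁻¹⁻¹ = S.L hn hn' (1, 0, 0) by group] at this
  · intro v _ w _ h
    exact mul_left_cancel (mul_right_cancel h)

/-- No inverted elements, degree ten. -/
theorem inv3_x_ten (S : Setup G 10) (hn : 9 ≤ 10) (hn' : 10 ≤ 10) :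
    ∀ w ∈ S.inv3 (S.L hn hn' (1, 0, 0)), w = 1 := by
  obtain ⟨q, π, hq, hπ, hqx, hπx, hsq, hc⟩ := seven_facts
  have hX := S.cyc_x hn hn'
  obtain ⟨c, hcz, hpc, hc7⟩ := S.lift_odd (m := 7) (by decide) hq
  obtain ⟨d, hdz, hpd⟩ := S.lift π hπ
  have hcx : Commute c (S.L hn hn' (1, 0, 0)) := S.L_commute_of hn hn' hcz (by rw [hpc]; exact hqx)
  have hpcd : S.p (c * (d * c * d⁻¹)) = q * (π * q * π⁻¹) := by
    rw [S.p_mul hcz (S.comm_conj hdz hcz), S.p_conj hdz hcz, hpc, hpd]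
  refine hX.kill hcz hdz (S.L_commute_of hn hn' hdz (by rw [hpd]; exact hπx)) ?_ (by rw [hpcd, hsq])
    (by rw [hpcd, hc])
  obtain ⟨k, hk⟩ := hX.card_inv3
  obtain ⟨j, hj⟩ := hX.card_fixed (Q := {c}) (fun q hq => (Set.mem_singleton_iff.1 hq) ▸ hcx)
  have hm := hX.fixed_modEq (Q := ∅) hcz hcx (fun q hq => hq.elim) (by norm_num) hc7
  rw [show {w ∈ S.inv3 (S.L hn hn' (1, 0, 0)) | ∀ q ∈ (∅ : Set G), Commute w q} = S.inv3 (S.L hn hn' (1, 0, 0)) from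
    Set.ext fun w => ⟨fun h => h.1, fun h => ⟨h, fun q hq => hq.elim⟩⟩,
    show (insert c (∅ : Set G)) = {c} from insert_empty_eq c, hk, hj] at hm
  have hle : {w ∈ S.inv3 (S.L hn hn' (1, 0, 0)) | ∀ q ∈ ({c} : Set G), Commute w q} ⊆
      S.inv3 (S.L hn hn' (1, 0, 0)) := fun w h => h.1
  have h1 := Set.ncard_le_ncard hle (Set.toFinite _)
  have h81 := S.card_inv3_x hn hn'
  rw [hk, hj] at h1
  rw [hk] at h81
  have hk4 : k ≤ 4 := (Nat.pow_le_pow_iff_right (a := 3) (by norm_num)).1 (by norm_num; exact h81)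
  have hjk : j ≤ k := (Nat.pow_le_pow_iff_right (a := 3) (by norm_num)).1 h1
  have key : ∀ k ≤ 4, ∀ j ≤ k, 3 ^ k % 7 = 3 ^ j % 7 → j = k := by decide
  have heq := Set.eq_of_subset_of_ncard_le hle (by rw [hk, hj, key k hk4 j hjk hm]) (Set.toFinite _)
  intro w hw
  rw [← heq] at hw
  exact hw.2 c rfl

/-- Elements of three-power order inverted by themselves under conjugation are trivial. -/
theorem eq_one_of_inverted {t e : G} {k : ℕ} (he : e ^ 3 ^ k = 1) (h1 : Commute t e) (h2 : t * e * t⁻¹ = e⁻¹) :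
    e = 1 := by
  rw [h1.eq, mul_inv_cancel_right, eq_inv_iff_mul_eq_one] at h2
  obtain ⟨r, hr⟩ := (Odd.pow (by decide : Odd 3) : Odd (3 ^ k))
  rwa [hr, pow_succ, pow_mul, sq, h2, one_pow, one_mul] at he

set_option synthInstance.maxSize 2000 in
/-- No inverted elements, degree nine. -/
theorem inv3_x_nine (S : Setup G 9) (hn : 9 ≤ 9) (hn' : 9 ≤ 10) :
    ∀ w ∈ S.inv3 (S.L hn hn' (1, 0, 0)), w = 1 := by
  obtain ⟨F⟩ := S.exists_frame hn hn'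
  set x := S.L hn hn' (1, 0, 0) with hx
  set y := S.L hn hn' (0, 1, 0) with hy
  set a := S.L hn hn' (0, 0, 1) with ha
  have hX := S.cyc_x hn hn'
  have hY := S.cyc_y hn hn' F
  rw [← hx] at hX
  rw [← hy] at hY
  by_contra hne
  push Not at hne
  obtain ⟨w0, hw0, hw01⟩ := hne
  have L3 : ∀ v, S.L hn hn' v ^ 3 ^ 1 = 1 := fun v => by rw [pow_one, S.L_cube]
  obtain ⟨⟨kx, kxc, kx2, kxs⟩, ⟨ka, kac, ka2, kas⟩, -⟩ := kill_facts hn hn'
  -- killing criteria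
  have killx : (∀ w ∈ S.inv3 x, Commute w y) → False := by
    intro hall
    obtain ⟨d, hd, hpd⟩ := S.lift _ kx
    refine hw01 (hX.kill (c := y) (d := d) (S.L_comm hn hn' _) hd
      (S.L_commute_of hn hn' hd (by rw [hpd, kxc])) hall ?_ ?_ w0 hw0)
    · rw [S.p_mul (S.L_comm hn hn' _) (S.comm_conj hd (S.L_comm hn hn' _)), S.p_conj hd (S.L_comm hn hn' _),
        S.L_p, hpd, kx2]
    · rw [S.p_mul (S.L_comm hn hn' _) (S.comm_conj hd (S.L_comm hn hn' _)), S.p_conj hd (S.L_comm hn hn' _),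
        S.L_p, hpd, kxs]
  -- commuting inside the intersection
  have commxy : ∀ {v w}, v ∈ S.inv3 x → w ∈ S.inv3 x → Commute v y → Commute w y → Commute v w := by
    intro v w hv hw hvy hwy
    obtain ⟨i, hi⟩ := hX.exists_swap hv hw
    obtain ⟨j, hj⟩ := hY.exists_swap (v := v) (w := w) ⟨hvy, hv.2⟩ ⟨hwy, hw.2⟩
    have h := mul_left_cancel (hi.symm.trans hj)
    rw [← pow_mod_orderOf, show orderOf x = 3 from orderOf_eq_prime hX.cube hX.ne,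
      ← pow_mod_orderOf y, show orderOf y = 3 from orderOf_eq_prime hY.cube hY.ne] at h
    have h' := congrArg S.p h
    rw [S.p_pow (S.L_comm hn hn' _), S.p_pow (S.L_comm hn hn' _), S.L_p, S.L_p] at h'
    have h0 := xy_pow_facts hn ⟨i % 3, by omega⟩ ⟨j % 3, by omega⟩ h'
    have hi0 : x ^ i = 1 := by
      rw [← pow_mod_orderOf, show orderOf x = 3 from orderOf_eq_prime hX.cube hX.ne,
        show i % 3 = 0 from congrArg Fin.val h0, pow_zero]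
    rw [hi0, mul_one] at hi
    exact hi.symm
  -- a fixed point of `y` and `a`
  set Z := {w ∈ S.inv3 x | Commute w y ∧ Commute w a} with hZ
  obtain ⟨w1, hw1, hw11⟩ : ∃ w ∈ Z, w ≠ 1 := by
    obtain ⟨k, hk⟩ := hX.card_inv3
    have hcy : ∀ q ∈ ({y} : Set G), Commute q x := fun q hq =>
      (Set.mem_singleton_iff.1 hq) ▸ S.L_commute hn hn' _ _
    have hcay : ∀ q ∈ ({a, y} : Set G), Commute q x := by
      rintro q (rfl | rfl) <;> exact S.L_commute hn hn' _ _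
    obtain ⟨k1, hk1⟩ := hX.card_fixed hcy
    obtain ⟨k2, hk2⟩ := hX.card_fixed hcay
    have m1 := hX.fixed_modEq (Q := ∅) (S.L_comm hn hn' _) (hcy y rfl) (fun q hq => hq.elim) Nat.prime_three
      (S.L_cube hn hn' _)
    have m2 := hX.fixed_modEq (Q := {y}) (q := a) (S.L_comm hn hn' _) (hcay a (Or.inl rfl))
      (fun q hq => (Set.mem_singleton_iff.1 hq) ▸ S.L_commute hn hn' _ _) Nat.prime_three (S.L_cube hn hn' _)
    rw [show {w ∈ S.inv3 x | ∀ q ∈ (∅ : Set G), Commute w q} = S.inv3 x from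
      Set.ext fun w => ⟨fun h => h.1, fun h => ⟨h, fun q hq => hq.elim⟩⟩,
      show (insert y (∅ : Set G)) = {y} from insert_empty_eq y, hk, hk1] at m1
    rw [hk1, hk2] at m2
    have hk0 : k ≠ 0 := by
      rintro rfl
      rw [pow_zero, Set.ncard_eq_one] at hk
      obtain ⟨c, hc⟩ := hk
      have h1 := S.one_mem_inv3 x
      rw [hc, Set.mem_singleton_iff] at h1 hw0
      exact hw01 (hw0.trans h1.symm)
    have hk20 : k2 ≠ 0 := by
      rintro rfl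
      have h3 : 3 ^ k % 3 = 3 ^ 0 % 3 := m1.trans m2
      rw [Nat.mod_eq_zero_of_dvd (dvd_pow_self 3 hk0)] at h3
      simp at h3
    have h2 : 1 < {w ∈ S.inv3 x | ∀ q ∈ ({a, y} : Set G), Commute w q}.ncard := by
      rw [hk2]; exact Nat.one_lt_pow hk20 (by norm_num)
    obtain ⟨w, hw, hw1⟩ := Set.exists_ne_of_one_lt_ncard h2 1
    exact ⟨w, ⟨hw.1, hw.2 y (Or.inr rfl), hw.2 a (Or.inl rfl)⟩, hw1⟩
  have stable : ∀ {d}, Commute d S.z → (∀ v, ∃ v', d⁻¹ * S.L hn hn' v * d⁻¹⁻¹ = S.L hn hn' v') →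
      ∀ {w}, w ∈ Z → d * w * d⁻¹ ∈ Z := by
    intro d hd hp w hw
    have allc : ∀ v, Commute (d * w * d⁻¹) (S.L hn hn' v) := by
      intro v
      obtain ⟨v', hv'⟩ := hp v
      have := (Commute.conj_iff d).2 (S.commute_L hn hn' hw.1.1 hw.2.1 hw.2.2 v')
      rwa [show d * S.L hn hn' v' * d⁻¹ = S.L hn hn' v by rw [← hv']; group] at this
    obtain ⟨-, h2, h3⟩ := S.conj_mem_inv3 hd hw.1
    exact ⟨⟨allc _, h2, h3⟩, allc _, allc _⟩
  have tperm : ∀ v, ∃ v', F.t⁻¹ * S.L hn hn' v * F.t⁻¹⁻¹ = S.L hn hn' v' := fun v =>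
    ⟨_, by rw [inv_eq_of_mul_eq_one_right F.t_t]; exact F.t_L v⟩
  have uperm : ∀ v, ∃ v', F.u⁻¹ * S.L hn hn' v * F.u⁻¹⁻¹ = S.L hn hn' v' := by
    intro v
    have hinv : F.u⁻¹ = F.u * S.z := inv_eq_of_mul_eq_one_right (by rw [← mul_assoc, F.u_u, S.z_sq])
    refine ⟨(-v.1, -v.2.1, v.2.2), ?_⟩
    rw [hinv, show F.u * S.z * S.L hn hn' v * (F.u * S.z)⁻¹ =
      F.u * (S.z * S.L hn hn' v * S.z⁻¹) * F.u⁻¹ by group, ← (S.L_comm hn hn' v).eq, mul_inv_cancel_right, F.u_L]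
  -- one fixed point commuting with `t`
  obtain ⟨v, hv, hvt, hv1⟩ : ∃ v ∈ Z, Commute v F.t ∧ v ≠ 1 := by
    set w' := F.t * w1 * F.t⁻¹ with hw'
    have hw'Z : w' ∈ Z := stable F.t_z tperm hw1
    by_cases h : w1 * w' = 1
    · refine ⟨F.u * w1 * F.u⁻¹, stable F.u_z uperm hw1, ?_, fun e => hw11 (conj_eq_one_iff.1 e)⟩
      have hz : S.z * w1⁻¹ * S.z = w1 := by rw [S.inv_mem_inv3 hw1.1 |>.2.1, inv_inv]
      have h' : F.t * w1 * F.t⁻¹ = w1⁻¹ := (eq_inv_of_mul_eq_one_right h)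
      have e : F.t * S.z * w1 * (F.t * S.z)⁻¹ = w1 := by
        rw [show F.t * S.z * w1 * (F.t * S.z)⁻¹ = F.t * (S.z * w1 * S.z⁻¹) * F.t⁻¹ by group, S.z_inv, hw1.1.2.1,
          show F.t * w1⁻¹ * F.t⁻¹ = (F.t * w1 * F.t⁻¹)⁻¹ by group, h', inv_inv]
      have := (Commute.conj_iff F.u).2 (mul_inv_eq_iff_eq_mul.1 e : Commute (F.t * S.z) w1).symm
      rwa [show F.u * (F.t * S.z) * F.u⁻¹ = F.u * F.t * F.u⁻¹ * (F.u * S.z * F.u⁻¹) by group, F.u_t, F.u_z.eq,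
        mul_inv_cancel_right, mul_assoc F.t S.z S.z, S.z_sq, mul_one] at this
    · have hc := commxy hw1.1 hw'Z.1 hw1.2.1 hw'Z.2.1
      refine ⟨w1 * w', ⟨S.mul_mem_inv3 hw1.1 hw'Z.1 hc, hw1.2.1.mul_left hw'Z.2.1, hw1.2.2.mul_left hw'Z.2.2⟩, ?_, h⟩
      refine (mul_inv_eq_iff_eq_mul.1 (?_ : F.t * (w1 * w') * F.t⁻¹ = w1 * w')).symm
      rw [show F.t * (w1 * w') * F.t⁻¹ = F.t * w1 * F.t⁻¹ * (F.t * w' * F.t⁻¹) by group, ← hw', hw',
        show F.t * (F.t * w1 * F.t⁻¹) * F.t⁻¹ = (F.t * F.t) * w1 * (F.t * F.t)⁻¹ by group, F.t_t, one_mul, inv_one,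
        mul_one, ← hw', hc.eq]
  -- the line of `v`
  set ρ := F.rot with hρ
  have riz : ρ⁻¹ * S.z * ρ = F.t * S.z := by
    calc ρ⁻¹ * S.z * ρ = ρ⁻¹ * (ρ * (F.t * S.z) * ρ⁻¹) * ρ := by rw [hρ, F.rot_tz]
      _ = F.t * S.z := by group
  have rit : ρ⁻¹ * F.t * ρ = S.z := by
    calc ρ⁻¹ * F.t * ρ = ρ⁻¹ * (ρ * S.z * ρ⁻¹) * ρ := by rw [hρ, F.rot_z]
      _ = S.z := by group
  obtain ⟨ℓ, hℓW, hℓ⟩ : ∃ ℓ, InW ℓ ∧ v = ρ * S.L hn hn' ℓ * ρ⁻¹ := by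
    set c := ρ⁻¹ * v * ρ⁻¹⁻¹ with hc
    have hcz : Commute c S.z := by
      have := (Commute.conj_iff ρ⁻¹).2 hvt
      rwa [inv_inv, rit, ← inv_inv ρ, inv_inv ρ⁻¹] at this
    have hcx : Commute c (S.L hn hn' (1, 1, 0)) := by
      have := (Commute.conj_iff ρ⁻¹).2 (S.commute_L hn hn' hv.1.1 hv.2.1 hv.2.2 (1, 1, 0))
      rwa [(F.rot_x.inv_left).eq, mul_inv_cancel_right] at this
    obtain ⟨k, hk⟩ := hv.1.2.2
    have hck : c ^ 3 ^ k = 1 := by rw [hc, conj_pow, hk, mul_one, mul_inv_cancel]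
    have hct : F.t * c * F.t⁻¹ = c⁻¹ := by
      have h3 : F.t * S.z * c * (F.t * S.z) = c⁻¹ := by
        rw [← riz, hc]
        calc ρ⁻¹ * S.z * ρ * (ρ⁻¹ * v * ρ⁻¹⁻¹) * (ρ⁻¹ * S.z * ρ) = ρ⁻¹ * (S.z * v * S.z) * ρ := by group
          _ = (ρ⁻¹ * v * ρ⁻¹⁻¹)⁻¹ := by rw [hv.1.2.1]; group
      rw [mul_assoc F.t, ← hcz.eq, show F.t * (c * S.z) * (F.t * S.z) = F.t * c * (S.z * F.t) * S.z by group,
        ← F.t_z.eq, show F.t * c * (F.t * S.z) * S.z = F.t * c * F.t * (S.z * S.z) by group, S.z_sq, mul_one] at h3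
      rwa [inv_eq_of_mul_eq_one_right F.t_t]
    have hodd : Odd (3 ^ k) := Odd.pow (by decide)
    have hp3 : S.p c ^ 3 ^ k = 1 := by rw [← S.p_pow hcz, hck, S.p_one]
    have hpx : S.p c * el hn (1, 1, 0) = el hn (1, 1, 0) * S.p c := by
      rw [← S.L_p hn hn', ← S.p_mul hcz (S.L_comm hn hn' _), ← S.p_mul (S.L_comm hn hn' _) hcz, hcx.eq]
    obtain ⟨w, hw⟩ := odd_cent_xy hn hn' hodd hp3 hpx (fun i hi _ => by
      refine ⟨?_, (S.p c i).isLt⟩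
      by_contra hlt
      have h1 := ((xy_facts hn hn').1 _).2 (by omega : (S.p c i).val < 6)
      refine absurd (((xy_facts hn hn').1 i).1 fun e => h1 ?_) (by omega)
      rw [← Perm.mul_apply, ← hpx, Perm.mul_apply, e])
    have hcw := S.L_eq hn hn' hcz hodd hck hw
    refine ⟨w, ?_, by rw [← hcw, hc]; group⟩
    rw [hcw, F.t_L, ← S.L_neg hn hn'] at hct
    have := S.L_inj hn hn' hct
    have key : ∀ w : Fin 3 × Fin 3 × Fin 3, (w.2.1, w.1, -w.2.2) = -w → InW w := by decide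
    exact key w this
  have hℓ0 : ℓ ≠ 0 := by
    rintro rfl
    rw [S.L_zero, mul_one, mul_inv_cancel] at hℓ
    exact hv1 hℓ
  set ℓ' : Fin 3 × Fin 3 × Fin 3 := (-ℓ.1, -ℓ.2.1, ℓ.2.2) with hℓ'
  have hℓ'W : InW ℓ' := by
    have key : ∀ w : Fin 3 × Fin 3 × Fin 3, InW w → InW (-w.1, -w.2.1, w.2.2) := by decide
    exact key ℓ hℓW
  have negW : ∀ {w : Fin 3 × Fin 3 × Fin 3}, InW w → InW (-w) := by
    intro w; revert w; decide
  -- conjugate by `u`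
  set g := ρ * F.u * ρ * F.u⁻¹ with hg
  have utz : F.u * (F.t * S.z) * F.u⁻¹ = F.t := by
    rw [show F.u * (F.t * S.z) * F.u⁻¹ = F.u * F.t * F.u⁻¹ * (F.u * S.z * F.u⁻¹) by group, F.u_t, F.u_z.eq,
      mul_inv_cancel_right, mul_assoc, S.z_sq, mul_one]
  have ut' : F.u⁻¹ * F.t * F.u = F.t * S.z := by
    calc F.u⁻¹ * F.t * F.u = F.u⁻¹ * (F.u * (F.t * S.z) * F.u⁻¹) * F.u := by rw [utz]
      _ = F.t * S.z := by group
  have uz' : F.u⁻¹ * S.z * F.u = S.z := by rw [mul_assoc, ← F.u_z.eq, inv_mul_cancel_left]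
  have gz : Commute g S.z := by
    refine mul_inv_eq_iff_eq_mul.1 ?_
    rw [hg, show ρ * F.u * ρ * F.u⁻¹ * S.z * (ρ * F.u * ρ * F.u⁻¹)⁻¹ =
      ρ * (F.u * (ρ * (F.u⁻¹ * S.z * F.u) * ρ⁻¹) * F.u⁻¹) * ρ⁻¹ by group, uz', F.rot_z, F.u_t, F.rot_tz]
  have gt : Commute g F.t := by
    refine mul_inv_eq_iff_eq_mul.1 ?_
    rw [hg, show ρ * F.u * ρ * F.u⁻¹ * F.t * (ρ * F.u * ρ * F.u⁻¹)⁻¹ =
      ρ * (F.u * (ρ * (F.u⁻¹ * F.t * F.u) * ρ⁻¹) * F.u⁻¹) * ρ⁻¹ by group, ut', F.rot_tz, F.u_z.eq,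
      mul_inv_cancel_right, F.rot_z]
  have ux : F.u * S.L hn hn' (1, 1, 0) * F.u⁻¹ = (S.L hn hn' (1, 1, 0))⁻¹ := by rw [F.u_L, ← S.L_neg]; rfl
  have gx : Commute g (S.L hn hn' (1, 1, 0)) := by
    refine mul_inv_eq_iff_eq_mul.1 ?_
    have ux' : F.u⁻¹ * S.L hn hn' (1, 1, 0) * F.u = (S.L hn hn' (1, 1, 0))⁻¹ := by
      have := congrArg (fun e => F.u⁻¹ * e⁻¹ * F.u) ux
      simp only [inv_inv] at this
      rw [← this]; group
    rw [hg, show ρ * F.u * ρ * F.u⁻¹ * S.L hn hn' (1, 1, 0) * (ρ * F.u * ρ * F.u⁻¹)⁻¹ =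
      ρ * (F.u * (ρ * (F.u⁻¹ * S.L hn hn' (1, 1, 0) * F.u) * ρ⁻¹) * F.u⁻¹) * ρ⁻¹ by group, ux',
      F.rot_x.inv_right.eq, mul_inv_cancel_right,
      show F.u * (S.L hn hn' (1, 1, 0))⁻¹ * F.u⁻¹ = (F.u * S.L hn hn' (1, 1, 0) * F.u⁻¹)⁻¹ by group, ux, inv_inv,
      F.rot_x.eq, mul_inv_cancel_right]
  -- the third power of the rotation
  have cz : Commute (ρ * ρ * ρ) S.z := by
    refine mul_inv_eq_iff_eq_mul.1 ?_
    rw [show ρ * ρ * ρ * S.z * (ρ * ρ * ρ)⁻¹ = ρ * (ρ * (ρ * S.z * ρ⁻¹) * ρ⁻¹) * ρ⁻¹ by group, F.rot_z, F.rot_t,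
      F.rot_tz]
  have ct : Commute (ρ * ρ * ρ) F.t := by
    refine mul_inv_eq_iff_eq_mul.1 ?_
    rw [show ρ * ρ * ρ * F.t * (ρ * ρ * ρ)⁻¹ = ρ * (ρ * (ρ * F.t * ρ⁻¹) * ρ⁻¹) * ρ⁻¹ by group, F.rot_t, F.rot_tz,
      F.rot_z]
  have cx : Commute (ρ * ρ * ρ) (S.L hn hn' (1, 1, 0)) := (F.rot_x.mul_left F.rot_x).mul_left F.rot_x
  have signed : ∀ {c e : G} {w}, InW w → (c * S.L hn hn' w * c⁻¹ = S.L hn hn' w ∨
      c * S.L hn hn' w * c⁻¹ = S.L hn hn' (-w)) → Commute e (c * S.L hn hn' w * c⁻¹) →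
      Commute e (S.L hn hn' w) := by
    intro c e w _ h hc
    rcases h with h | h <;> rw [h] at hc
    · exact hc
    · rw [S.L_neg] at hc; exact Commute.inv_right_iff.1 hc
  set v' := F.u * v * F.u⁻¹ with hv'
  have hv'Z : v' ∈ Z := stable F.u_z uperm hv
  have hv'eq : v' = ρ⁻¹ * (g * S.L hn hn' ℓ' * g⁻¹) * ρ := by
    rw [hv', hℓ, hg, hℓ', ← F.u_L ℓ]; group
  -- the three families of commutation
  have F1 : ∀ w, InW w → Commute (S.L hn hn' ℓ) (ρ⁻¹ * S.L hn hn' w * ρ) := by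
    intro w _
    have := (Commute.conj_iff ρ⁻¹).2 (S.commute_L hn hn' hv.1.1 hv.2.1 hv.2.2 w)
    rwa [hℓ, show ρ⁻¹ * (ρ * S.L hn hn' ℓ * ρ⁻¹) * ρ⁻¹⁻¹ = S.L hn hn' ℓ by group, inv_inv] at this
  have F2 : ∀ w, InW w → Commute (S.L hn hn' ℓ') (ρ * S.L hn hn' w * ρ⁻¹) := by
    intro w _
    have := (Commute.conj_iff ρ).2 (S.commute_L hn hn' hv'Z.1.1 hv'Z.2.1 hv'Z.2.2 w)
    rw [hv'eq, show ρ * (ρ⁻¹ * (g * S.L hn hn' ℓ' * g⁻¹) * ρ) * ρ⁻¹ = g * S.L hn hn' ℓ' * g⁻¹ by group] at this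
    exact (signed hℓ'W (F.act_inW gz gt gx ℓ' hℓ'W) this.symm).symm
  have F5 : Commute (S.L hn hn' ℓ) (ρ * S.L hn hn' ℓ * ρ⁻¹) := by
    have := S.commute_L hn hn' hv.1.1 hv.2.1 hv.2.2 ℓ
    rw [hℓ] at this
    exact this.symm
  have F4 : Commute (S.L hn hn' ℓ) (ρ * S.L hn hn' ℓ' * ρ⁻¹) := by
    have h := (Commute.conj_iff (ρ * ρ)).2 (commxy hv.1 hv'Z.1 hv.2.1 hv'Z.2.1)
    rw [hℓ, hv'eq, show ρ * ρ * (ρ * S.L hn hn' ℓ * ρ⁻¹) * (ρ * ρ)⁻¹ =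
      ρ * ρ * ρ * S.L hn hn' ℓ * (ρ * ρ * ρ)⁻¹ by group,
      show ρ * ρ * (ρ⁻¹ * (g * S.L hn hn' ℓ' * g⁻¹) * ρ) * (ρ * ρ)⁻¹ =
      ρ * (g * S.L hn hn' ℓ' * g⁻¹) * ρ⁻¹ by group] at h
    have h1 := (signed hℓW (F.act_inW cz ct cx ℓ hℓW) h.symm).symm
    rcases F.act_inW gz gt gx ℓ' hℓ'W with h2 | h2 <;> rw [h2] at h1
    · exact h1
    · rw [S.L_neg, show ρ * (S.L hn hn' ℓ')⁻¹ * ρ⁻¹ = (ρ * S.L hn hn' ℓ' * ρ⁻¹)⁻¹ by group] at h1
      exact Commute.inv_right_iff.1 h1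
  -- membership of the moved lines
  have invmem : ∀ {X e : G} {w}, InW w → Commute e X →
      (e = ρ * S.L hn hn' w * ρ⁻¹ ∨ e = ρ⁻¹ * S.L hn hn' w * ρ) → e ∈ S.inv3 X := by
    intro X e w hw hcom he
    have tw : F.t * S.L hn hn' w * F.t = (S.L hn hn' w)⁻¹ := by
      nth_rewrite 2 [← inv_eq_of_mul_eq_one_right F.t_t]
      rw [F.t_inW hw, S.L_neg]
    have tzw : F.t * S.z * S.L hn hn' w * (F.t * S.z) = (S.L hn hn' w)⁻¹ := by
      rw [mul_assoc F.t, ← (S.L_comm hn hn' w).eq, show F.t * (S.L hn hn' w * S.z) * (F.t * S.z) =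
        F.t * S.L hn hn' w * (S.z * F.t) * S.z by group, ← F.t_z.eq,
        show F.t * S.L hn hn' w * (F.t * S.z) * S.z = F.t * S.L hn hn' w * F.t * (S.z * S.z) by group, S.z_sq,
        mul_one, tw]
    refine ⟨hcom, ?_, 1, ?_⟩
    · rcases he with rfl | rfl
      · calc S.z * (ρ * S.L hn hn' w * ρ⁻¹) * S.z
            = ρ * ((ρ⁻¹ * S.z * ρ) * S.L hn hn' w * (ρ⁻¹ * S.z * ρ)) * ρ⁻¹ := by group
          _ = (ρ * S.L hn hn' w * ρ⁻¹)⁻¹ := by rw [riz, tzw]; group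
      · calc S.z * (ρ⁻¹ * S.L hn hn' w * ρ) * S.z
            = ρ⁻¹ * ((ρ * S.z * ρ⁻¹) * S.L hn hn' w * (ρ * S.z * ρ⁻¹)) * ρ := by group
          _ = (ρ⁻¹ * S.L hn hn' w * ρ)⁻¹ := by rw [F.rot_z, tw]; group
    · rcases he with rfl | rfl
      · rw [conj_pow, L3, mul_one, mul_inv_cancel]
      · rw [show ρ⁻¹ * S.L hn hn' w * ρ = ρ⁻¹ * S.L hn hn' w * ρ⁻¹⁻¹ by rw [inv_inv], conj_pow, L3, mul_one,
          mul_inv_cancel]
  have cx2 : ∀ w, Commute (ρ * S.L hn hn' w * ρ⁻¹) (S.L hn hn' (1, 1, 0)) ∧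
      Commute (ρ⁻¹ * S.L hn hn' w * ρ) (S.L hn hn' (1, 1, 0)) := by
    intro w
    have h := S.L_commute hn hn' w (1, 1, 0)
    exact ⟨(F.rot_x.mul_left h).mul_left F.rot_x.inv_left, (F.rot_x.inv_left.mul_left h).mul_left F.rot_x⟩
  let Wset : Finset (Fin 3 × Fin 3 × Fin 3) := Finset.univ.filter InW
  have hW9 : Wset.card = 9 := by decide
  by_cases hi : ℓ.1 = 0
  · -- the line of `a`
    obtain ⟨hA, hA81⟩ := S.cyc_a hn hn'
    rw [← ha] at hA hA81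
    have hk : ∃ k : Fin 3, k ≠ 0 ∧ ℓ = (0, 0, k) ∧ ℓ' = (0, 0, k) := by
      have key : ∀ w : Fin 3 × Fin 3 × Fin 3, InW w → w ≠ 0 → w.1 = 0 →
          ∃ k : Fin 3, k ≠ 0 ∧ w = (0, 0, k) ∧ (-w.1, -w.2.1, w.2.2) = ((0, 0, k) : Fin 3 × Fin 3 × Fin 3) := by
        decide
      exact key ℓ hℓW hℓ0 hi
    obtain ⟨k, hk0, hk1, hk2⟩ := hk
    have toA : ∀ {e : G}, Commute e (S.L hn hn' (0, 0, k)) → Commute e a := by
      intro e he
      rw [ha]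
      have key : ∀ k : Fin 3, k ≠ 0 → (k = 1 ∨ ((0, 0, k) : Fin 3 × Fin 3 × Fin 3) = -(0, 0, 1)) := by decide
      rcases key k hk0 with rfl | h
      · exact he
      · rw [h, S.L_neg] at he; exact Commute.inv_right_iff.1 he
    have m2 : ∀ w ∈ Wset, ρ * S.L hn hn' w * ρ⁻¹ ∈ S.inv3 a := fun w hw =>
      invmem (Finset.mem_filter.1 hw).2 (toA (hk2 ▸ F2 w (Finset.mem_filter.1 hw).2).symm) (Or.inl rfl)
    have m3 : ∀ w ∈ Wset, ρ⁻¹ * S.L hn hn' w * ρ ∈ S.inv3 a := fun w hw =>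
      invmem (Finset.mem_filter.1 hw).2 (toA (hk1 ▸ F1 w (Finset.mem_filter.1 hw).2).symm) (Or.inr rfl)
    have hprod := fun p : Wset × Wset => hA.prod _ (m2 p.1.1 p.1.2) _ (m3 p.2.1 p.2.2)
    choose i e he hie using hprod
    have hinj : Function.Injective e := by
      intro p q h
      obtain ⟨⟨w1, hw1'⟩, ⟨w3, hw3'⟩⟩ := p
      obtain ⟨⟨q1, hq1⟩, ⟨q3, hq3⟩⟩ := q
      have hp := hie ⟨⟨w1, hw1'⟩, ⟨w3, hw3'⟩⟩
      have hq := hie ⟨⟨q1, hq1⟩, ⟨q3, hq3⟩⟩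
      rw [← h] at hq
      set P := ρ * S.L hn hn' (-q1 + w1) * ρ⁻¹ with hP
      set Q := ρ⁻¹ * S.L hn hn' (q3 + -w3) * ρ with hQ
      have mW : ∀ {w w' : Fin 3 × Fin 3 × Fin 3}, InW w → InW w' → InW (-w' + w) ∧ InW (w + -w') := by
        intro w w'; revert w w'; decide
      have hPW := (mW (Finset.mem_filter.1 hw1').2 (Finset.mem_filter.1 hq1).2).1
      have hQW := (mW (Finset.mem_filter.1 hq3).2 (Finset.mem_filter.1 hw3').2).2
      have hPa : P ∈ S.inv3 a := m2 _ (Finset.mem_filter.2 ⟨Finset.mem_univ _, hPW⟩)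
      have hQa : Q ∈ S.inv3 a := m3 _ (Finset.mem_filter.2 ⟨Finset.mem_univ _, hQW⟩)
      have hPQ : ∃ j : ℕ, P = a ^ j * Q := by
        refine ⟨i ⟨⟨w1, hw1'⟩, ⟨w3, hw3'⟩⟩ + 2 * i ⟨⟨q1, hq1⟩, ⟨q3, hq3⟩⟩, ?_⟩
        set E := e ⟨⟨w1, hw1'⟩, ⟨w3, hw3'⟩⟩
        simp only at hp hq
        have eP : P = (ρ * S.L hn hn' q1 * ρ⁻¹)⁻¹ * (ρ * S.L hn hn' w1 * ρ⁻¹) := by
          rw [hP, ← S.L_mul, S.L_neg]; group
        have eQ : Q = ρ⁻¹ * S.L hn hn' q3 * ρ * (ρ⁻¹ * S.L hn hn' w3 * ρ)⁻¹ := by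
          rw [hQ, ← S.L_mul, S.L_neg]; group
        have hE : E = (a ^ i ⟨⟨q1, hq1⟩, ⟨q3, hq3⟩⟩)⁻¹ * ((ρ * S.L hn hn' q1 * ρ⁻¹) * (ρ⁻¹ * S.L hn hn' q3 * ρ)) :=
          by rw [hq]; group
        rw [hE] at hp
        have h3 : (a ^ i ⟨⟨q1, hq1⟩, ⟨q3, hq3⟩⟩)⁻¹ = a ^ (2 * i ⟨⟨q1, hq1⟩, ⟨q3, hq3⟩⟩) :=
          inv_eq_of_mul_eq_one_left (by rw [← pow_add, show ∀ j : ℕ, 2 * j + j = 3 * j by omega, pow_mul, hA.cube,
            one_pow])
        rw [h3, ← mul_assoc (a ^ i ⟨⟨w1, hw1'⟩, ⟨w3, hw3'⟩⟩), ← pow_add] at hp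
        have c1 : Commute (ρ * S.L hn hn' q1 * ρ⁻¹)
            (a ^ (i ⟨⟨w1, hw1'⟩, ⟨w3, hw3'⟩⟩ + 2 * i ⟨⟨q1, hq1⟩, ⟨q3, hq3⟩⟩)) := (m2 _ hq1).1.pow_right _
        rw [eP, eQ, show ρ * S.L hn hn' w1 * ρ⁻¹ =
          ρ * S.L hn hn' w1 * ρ⁻¹ * (ρ⁻¹ * S.L hn hn' w3 * ρ) * (ρ⁻¹ * S.L hn hn' w3 * ρ)⁻¹ by group, hp,
          show ∀ A B C D : G, A⁻¹ * (B * (A * C) * D) = A⁻¹ * B * A * (C * D) by intros; group,
          mul_assoc _ _ (ρ * S.L hn hn' q1 * ρ⁻¹), ← c1.eq, inv_mul_cancel_left]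
      obtain ⟨j, hj⟩ := hPQ
      have hPQ' : P = Q := hA.unique (i := 0) (j := j) hPa hQa (by rw [pow_zero, one_mul]; exact hj)
      have hP1 : P = 1 := by
        refine eq_one_of_inverted (t := F.t) hPa.2.2.choose_spec ?_ ?_
        · have := (Commute.conj_iff ρ).2 (S.L_comm hn hn' (-q1 + w1)).symm
          rwa [F.rot_z] at this
        · have hQz : Commute (F.t * S.z) Q := by
            have := (Commute.conj_iff ρ⁻¹).2 (S.L_comm hn hn' (q3 + -w3)).symm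
            rwa [inv_inv, riz] at this
          rw [hPQ']
          calc F.t * Q * F.t⁻¹ = (F.t * S.z) * (S.z⁻¹ * Q * S.z⁻¹⁻¹) * (F.t * S.z)⁻¹ := by group
            _ = (F.t * S.z) * Q⁻¹ * (F.t * S.z)⁻¹ := by rw [inv_inv, S.z_inv, hQa.2.1]
            _ = Q⁻¹ := by rw [hQz.inv_right.eq, mul_inv_cancel_right]
      have hQ1 : Q = 1 := hPQ' ▸ hP1
      rw [hP, conj_eq_one_iff] at hP1
      rw [hQ, show ρ⁻¹ * S.L hn hn' (q3 + -w3) * ρ = ρ⁻¹ * S.L hn hn' (q3 + -w3) * ρ⁻¹⁻¹ by rw [inv_inv],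
        conj_eq_one_iff] at hQ1
      have e1 : -q1 + w1 = 0 := S.L_inj hn hn' (hP1.trans (S.L_zero hn hn').symm)
      have e3 : q3 + -w3 = 0 := S.L_inj hn hn' (hQ1.trans (S.L_zero hn hn').symm)
      have e1' : q1 = w1 := neg_add_eq_zero.1 e1
      have e3' : q3 = w3 := add_neg_eq_zero.1 e3
      subst e1' e3'
      rfl
    have hx2e : ∀ p, Commute (e p) (S.L hn hn' (1, 1, 0)) := by
      intro p
      have h1 : Commute (a ^ i p * e p) (S.L hn hn' (1, 1, 0)) := hie p ▸ (cx2 _).1.mul_left (cx2 _).2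
      have h2 := (((S.L_commute hn hn' (0, 0, 1) (1, 1, 0)).pow_left (i p)).inv_left).mul_left h1
      rw [← ha, inv_mul_cancel_left] at h2
      exact h2
    have hrange : Set.range e = S.inv3 a := by
      refine Set.eq_of_subset_of_ncard_le (Set.range_subset_iff.2 he) ?_ (Set.toFinite _)
      rw [Set.ncard_range_of_injective hinj, Nat.card_prod, Nat.card_eq_fintype_card, Fintype.card_coe, hW9]
      omega
    obtain ⟨d, hd, hpd⟩ := S.lift _ ka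
    have hall := hA.kill (c := S.L hn hn' (1, 1, 0)) (d := d) (S.L_comm hn hn' _) hd
      (S.L_commute_of hn hn' hd (by rw [hpd, kac]))
      (fun w hw => by rw [← hrange] at hw; obtain ⟨p, rfl⟩ := hw; exact hx2e p)
      (by rw [S.p_mul (S.L_comm hn hn' _) (S.comm_conj hd (S.L_comm hn hn' _)), S.p_conj hd (S.L_comm hn hn' _),
        S.L_p, hpd, ka2])
      (by rw [S.p_mul (S.L_comm hn hn' _) (S.comm_conj hd (S.L_comm hn hn' _)), S.p_conj hd (S.L_comm hn hn' _),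
        S.L_p, hpd, kas])
    have h := hall _ (m2 ℓ (Finset.mem_filter.2 ⟨Finset.mem_univ _, hℓW⟩))
    exact hv1 (hℓ.trans h)
  · -- the other lines
    have pairs : ∀ w, InW w → Commute (S.L hn hn' ℓ) (ρ * S.L hn hn' w * ρ⁻¹) := by
      intro w hw
      have key : ∀ l w : Fin 3 × Fin 3 × Fin 3, InW l → InW w → l.1 ≠ 0 → l.2.2 ≠ 0 →
          ∃ b c : Fin 3, w = b.val • l + c.val • ((-l.1, -l.2.1, l.2.2) : Fin 3 × Fin 3 × Fin 3) := by decide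
      by_cases hk : ℓ.2.2 = 0
      · have key2 : ∀ l : Fin 3 × Fin 3 × Fin 3, l.2.2 = 0 → (-l.1, -l.2.1, l.2.2) = -l := by decide
        have h := F2 w hw
        rw [hℓ', key2 ℓ hk, S.L_neg] at h
        exact Commute.inv_left_iff.1 h
      · obtain ⟨b, c, rfl⟩ := key ℓ w hℓW hw hi hk
        have pw : ∀ (j : ℕ) (l : Fin 3 × Fin 3 × Fin 3), S.L hn hn' (j • l) = S.L hn hn' l ^ j := by
          intro j l
          induction j with
          | zero => rw [zero_smul, S.L_zero, pow_zero]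
          | succ j ih => rw [succ_nsmul, ← S.L_mul, ih, pow_succ]
        rw [← S.L_mul, pw, pw, show ∀ A B : G, ρ * (A * B) * ρ⁻¹ = ρ * A * ρ⁻¹ * (ρ * B * ρ⁻¹) by intros; group,
          ← conj_pow, ← conj_pow]
        exact (F5.pow_right _).mul_right (F4.pow_right _)
    have hxyW : ∀ w, InW w → ρ * S.L hn hn' w * ρ⁻¹ ∈ S.inv3 x ∧ Commute (ρ * S.L hn hn' w * ρ⁻¹) y := by
      intro w hw
      have hdiff : Commute (S.L hn hn' (ℓ + -ℓ')) (ρ * S.L hn hn' w * ρ⁻¹) := by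
        rw [← S.L_mul, S.L_neg]
        exact (pairs w hw).mul_left (F2 w hw).inv_left
      have key : ∀ l : Fin 3 × Fin 3 × Fin 3, InW l → l.1 ≠ 0 →
          (l + -((-l.1, -l.2.1, l.2.2) : Fin 3 × Fin 3 × Fin 3) = (1, 2, 0) ∨
            l + -((-l.1, -l.2.1, l.2.2) : Fin 3 × Fin 3 × Fin 3) = -(1, 2, 0)) := by decide
      have he : Commute (ρ * S.L hn hn' w * ρ⁻¹) (S.L hn hn' (1, 2, 0)) := by
        rcases key ℓ hℓW hi with h | h <;> rw [h] at hdiff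
        · exact hdiff.symm
        · rw [S.L_neg] at hdiff; exact (Commute.inv_left_iff.1 hdiff).symm
      have h2 := (cx2 w).1
      refine ⟨invmem hw ?_ (Or.inl rfl), ?_⟩
      · rw [hx, show ((1, 0, 0) : Fin 3 × Fin 3 × Fin 3) = -(1, 1, 0) + -(1, 2, 0) by decide, ← S.L_mul, S.L_neg,
          S.L_neg]
        exact h2.inv_right.mul_right he.inv_right
      · rw [hy, show ((0, 1, 0) : Fin 3 × Fin 3 × Fin 3) = -(1, 1, 0) + (1, 2, 0) by decide, ← S.L_mul, S.L_neg]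
        exact h2.inv_right.mul_right he
    -- eighty-one elements commuting with `y`
    let U := {w ∈ S.inv3 x | Commute w y}
    have uU : ∀ {w}, w ∈ U → F.u * w * F.u⁻¹ ∈ U := by
      intro w hw
      have hxi : F.u * x * F.u⁻¹ = x⁻¹ := by rw [hx, F.u_L, ← S.L_neg]; rfl
      have hyi : F.u * y * F.u⁻¹ = y⁻¹ := by rw [hy, F.u_L, ← S.L_neg]; rfl
      have h1 := S.conj_mem_inv3 F.u_z hw.1
      rw [hxi, inv3_inv] at h1
      have h2 := (Commute.conj_iff F.u).2 hw.2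
      rw [hyi] at h2
      exact ⟨h1, Commute.inv_right_iff.1 h2⟩
    let Φ : Wset × Wset → G := fun p => (ρ * S.L hn hn' p.1.1 * ρ⁻¹) * (F.u * (ρ * S.L hn hn' p.2.1 * ρ⁻¹) * F.u⁻¹)
    have m1 : ∀ w ∈ Wset, ρ * S.L hn hn' w * ρ⁻¹ ∈ U := fun w hw => hxyW w (Finset.mem_filter.1 hw).2
    have hΦ : ∀ p, Φ p ∈ U := fun p => by
      have h1 := m1 _ p.1.2
      have h2 := uU (m1 _ p.2.2)
      exact ⟨S.mul_mem_inv3 h1.1 h2.1 (commxy h1.1 h2.1 h1.2 h2.2), h1.2.mul_left h2.2⟩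
    have hinj : Function.Injective Φ := by
      intro p q h
      obtain ⟨⟨w1, hw1'⟩, ⟨w2, hw2'⟩⟩ := p
      obtain ⟨⟨q1, hq1⟩, ⟨q2, hq2⟩⟩ := q
      have mW : ∀ {w w' : Fin 3 × Fin 3 × Fin 3}, InW w → InW w' → InW (-w' + w) ∧ InW (w + -w') := by
        intro w w'; revert w w'; decide
      have hPW := (mW (Finset.mem_filter.1 hw1').2 (Finset.mem_filter.1 hq1).2).1
      set P := ρ * S.L hn hn' (-q1 + w1) * ρ⁻¹ with hP
      set Q := F.u * (ρ * S.L hn hn' (q2 + -w2) * ρ⁻¹) * F.u⁻¹ with hQ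
      have hPQ : P = Q := by
        simp only [Φ] at h
        rw [hP, hQ, ← S.L_mul, ← S.L_mul, S.L_neg, S.L_neg]
        rw [← eq_mul_inv_iff_mul_eq] at h
        calc ρ * ((S.L hn hn' q1)⁻¹ * S.L hn hn' w1) * ρ⁻¹
            = (ρ * S.L hn hn' q1 * ρ⁻¹)⁻¹ * (ρ * S.L hn hn' w1 * ρ⁻¹) := by group
          _ = _ := by rw [h]; group
      have hPm : P ∈ U := m1 _ (Finset.mem_filter.2 ⟨Finset.mem_univ _, hPW⟩)
      have hP1 : P = 1 := by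
        refine eq_one_of_inverted (t := F.t) hPm.1.2.2.choose_spec ?_ ?_
        · have := (Commute.conj_iff ρ).2 (S.L_comm hn hn' (-q1 + w1)).symm
          rwa [F.rot_z] at this
        · have hQt : Commute (F.t * S.z) Q := by
            have := (Commute.conj_iff F.u).2 ((Commute.conj_iff ρ).2 (S.L_comm hn hn' (q2 + -w2)).symm)
            rwa [F.rot_z, F.u_t] at this
          rw [hPQ]
          calc F.t * Q * F.t⁻¹ = (F.t * S.z) * (S.z⁻¹ * Q * S.z⁻¹⁻¹) * (F.t * S.z)⁻¹ := by group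
            _ = (F.t * S.z) * Q⁻¹ * (F.t * S.z)⁻¹ := by
              rw [inv_inv, S.z_inv, (hPQ ▸ hPm : Q ∈ U).1.2.1]
            _ = Q⁻¹ := by rw [hQt.inv_right.eq, mul_inv_cancel_right]
      have hQ1 : Q = 1 := hPQ ▸ hP1
      rw [hP, conj_eq_one_iff] at hP1
      rw [hQ, conj_eq_one_iff, conj_eq_one_iff] at hQ1
      have e1' : q1 = w1 := neg_add_eq_zero.1 (S.L_inj hn hn' (hP1.trans (S.L_zero hn hn').symm))
      have e2' : q2 = w2 := add_neg_eq_zero.1 (S.L_inj hn hn' (hQ1.trans (S.L_zero hn hn').symm))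
      subst e1' e2'
      rfl
    have h81 := S.card_inv3_x hn hn'
    rw [← hx] at h81
    have hall : Set.range Φ = S.inv3 x := by
      refine Set.eq_of_subset_of_ncard_le (Set.range_subset_iff.2 fun p => (hΦ p).1) ?_ (Set.toFinite _)
      rw [Set.ncard_range_of_injective hinj, Nat.card_prod, Nat.card_eq_fintype_card, Fintype.card_coe, hW9]
      omega
    refine killx fun w hw => ?_
    rw [← hall] at hw
    obtain ⟨p, rfl⟩ := hw
    exact (hΦ p).2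

/-- No inverted elements. -/
theorem inv3_x_trivial : ∀ w ∈ S.inv3 (S.L hn hn' (1, 0, 0)), w = 1 := by
  rcases (by omega : n = 9 ∨ n = 10) with rfl | rfl
  · exact inv3_x_nine S hn hn'
  · exact inv3_x_ten S hn hn'

end Setup

end CfsgLib.AltInvolCent
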