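import Mathlib

/-!
# The transpositions of an involutive permutation

The centralizer of an involutive permutation permutes its transpositions.
-/

set_option autoImplicit false
set_option linter.unusedSectionVars false

namespace CfsgLib.AltInvolCent

open Equiv Equiv.Perm

variable {α : Type*} [Fintype α] [DecidableEq α] {σ : Perm α}

open scoped Classical in
/-- The permutation of the transpositions of `σ` induced by `y`. -/
noncomputable def blockPerm (σ y : Perm α) : Perm σ.cycleFactorsFinset :=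
  if h : y ∈ Subgroup.centralizer {σ} then OnCycleFactors.toPermHom σ ⟨y, h⟩ else 1

theorem mem_centralizer_of_commute {y : Perm α} (h : Commute y σ) : y ∈ Subgroup.centralizer {σ} :=
  Subgroup.mem_centralizer_singleton_iff.2 h.eq

theorem coe_blockPerm {y : Perm α} (h : Commute y σ) (c : σ.cycleFactorsFinset) :
    (blockPerm σ y c : Perm α) = y * c * y⁻¹ := by
  rw [blockPerm, dif_pos (mem_centralizer_of_commute h), OnCycleFactors.coe_toPermHom]

theorem blockPerm_mul {y w : Perm α} (hy : Commute y σ) (hw : Commute w σ) :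
    blockPerm σ (y * w) = blockPerm σ y * blockPerm σ w := by
  refine Equiv.ext fun c => Subtype.ext ?_
  rw [Perm.mul_apply, coe_blockPerm (hy.mul_left hw), coe_blockPerm hy, coe_blockPerm hw]
  group

theorem blockPerm_one : blockPerm σ 1 = 1 := by
  refine Equiv.ext fun c => Subtype.ext ?_
  rw [coe_blockPerm (Commute.one_left _), Perm.one_apply]
  group

theorem blockPerm_inv {y : Perm α} (hy : Commute y σ) : blockPerm σ y⁻¹ = (blockPerm σ y)⁻¹ := by
  refine eq_inv_of_mul_eq_one_left ?_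
  rw [← blockPerm_mul hy.inv_left hy, inv_mul_cancel, blockPerm_one]

theorem blockPerm_eq_one {y : Perm α} (hy : Commute y σ) :
    blockPerm σ y = 1 ↔ ∀ c ∈ σ.cycleFactorsFinset, Commute y c := by
  constructor
  · intro h c hc
    have := coe_blockPerm hy ⟨c, hc⟩
    rw [h, Perm.one_apply] at this
    exact (eq_mul_inv_iff_mul_eq.1 this).symm
  · intro h
    refine Equiv.ext fun c => Subtype.ext ?_
    rw [coe_blockPerm hy, Perm.one_apply, (h c c.2).eq, mul_inv_cancel_right]

section Invol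

variable (hσ : σ * σ = 1)
include hσ

theorem invol_apply (i : α) : σ (σ i) = i := by
  rw [← Perm.mul_apply, hσ, Perm.one_apply]

theorem swap_mem_pairs {a : α} (ha : σ a ≠ a) : swap a (σ a) ∈ σ.cycleFactorsFinset := by
  rw [mem_cycleFactorsFinset_iff]
  refine ⟨isCycle_swap (Ne.symm ha), fun x hx => ?_⟩
  rw [support_swap (Ne.symm ha), Finset.mem_insert, Finset.mem_singleton] at hx
  rcases hx with rfl | rfl
  · rw [swap_apply_left]
  · rw [swap_apply_right, invol_apply hσ]

theorem exists_of_mem_pairs {c : Perm α} (hc : c ∈ σ.cycleFactorsFinset) :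
    ∃ a, σ a ≠ a ∧ c = swap a (σ a) := by
  obtain ⟨hcyc, hag⟩ := mem_cycleFactorsFinset_iff.1 hc
  obtain ⟨a, ha⟩ : c.support.Nonempty := by
    rw [Finset.nonempty_iff_ne_empty, Ne, support_eq_empty_iff]
    exact hcyc.ne_one
  have h1 : σ a ≠ a := by rw [← hag a ha]; exact mem_support.1 ha
  refine ⟨a, h1, ?_⟩
  refine cycle_is_cycleOf ha hc |>.trans ?_
  refine (cycle_is_cycleOf ?_ (swap_mem_pairs hσ h1)).symm
  rw [support_swap (Ne.symm h1)]
  simp

theorem pair_eq_iff {a b : α} (ha : σ a ≠ a) :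
    swap a (σ a) = swap b (σ b) ↔ b = a ∨ b = σ a := by
  constructor
  · intro h
    have := congrArg (fun f : Perm α => f a) h
    simp only [swap_apply_left] at this
    by_contra hc
    rw [not_or] at hc
    rw [swap_apply_of_ne_of_ne (Ne.symm hc.1) (fun e => hc.2 (by rw [e, invol_apply hσ]))] at this
    exact ha this
  · rintro (rfl | rfl)
    · rfl
    · rw [invol_apply hσ, swap_comm]

theorem card_pairs : σ.cycleFactorsFinset.card * 2 = σ.support.card := by
  rw [← sum_cycleType, cycleType_def]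
  have : ∀ c ∈ σ.cycleFactorsFinset, (Finset.card ∘ support) c = 2 := fun c hc => by
    obtain ⟨a, ha, rfl⟩ := exists_of_mem_pairs hσ hc
    exact card_support_swap (Ne.symm ha)
  calc σ.cycleFactorsFinset.card * 2 = ∑ _c ∈ σ.cycleFactorsFinset, 2 := by simp
    _ = ∑ c ∈ σ.cycleFactorsFinset, (Finset.card ∘ support) c := (Finset.sum_congr rfl this).symm
    _ = _ := rfl

/-- A permutation agreeing with `σ` on its support. -/
theorem sub_invol {d : Perm α} (hd : ∀ x ∈ d.support, d x = σ x) :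
    d * σ = σ * d ∧ d * d = 1 ∧ (d * σ).support = σ.support \ d.support ∧ d.support ⊆ σ.support := by
  have e1 : ∀ x ∈ d.support, σ x ∈ d.support := fun x hx => hd x hx ▸ apply_mem_support.2 hx
  have e2 : ∀ x ∈ d.support, d (σ x) = x := fun x hx => by rw [hd _ (e1 x hx), invol_apply hσ]
  have e3 : ∀ x, x ∉ d.support → σ x ∉ d.support := fun x hx h => hx (by
    have := e1 _ h
    rwa [invol_apply hσ] at this)
  have e4 : ∀ x, x ∉ d.support → d x = x := fun x hx => notMem_support.1 hx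
  refine ⟨Equiv.ext fun x => ?_, Equiv.ext fun x => ?_, Finset.ext fun x => ?_, fun x hx => ?_⟩
  · show d (σ x) = σ (d x)
    by_cases hx : x ∈ d.support
    · rw [e2 x hx, hd x hx, invol_apply hσ]
    · rw [e4 x hx, e4 _ (e3 x hx)]
  · show d (d x) = x
    by_cases hx : x ∈ d.support
    · rw [hd x hx, e2 x hx]
    · rw [e4 x hx, e4 x hx]
  · rw [mem_support, Finset.mem_sdiff, mem_support]
    show d (σ x) ≠ x ↔ σ x ≠ x ∧ x ∉ d.support
    by_cases hx : x ∈ d.support
    · simp [e2 x hx, hx]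
    · simp [e4 _ (e3 x hx), hx]
  · rw [mem_support, ← hd x hx]
    exact mem_support.1 hx

theorem two_pairs {a b : α} (ha : σ a ≠ a) (hb : σ b ≠ b) (h1 : b ≠ a) (h2 : b ≠ σ a) :
    [a, σ a, b, σ b].Nodup ∧
      ∀ x ∈ (swap a (σ a) * swap b (σ b)).support, (swap a (σ a) * swap b (σ b)) x = σ x := by
  have i := invol_apply hσ
  have n1 : σ b ≠ a := fun e => h2 (by rw [← e, i])
  have n2 : σ b ≠ σ a := fun e => h1 (σ.injective e)
  refine ⟨by simp [Ne.symm ha, Ne.symm h1, Ne.symm n1, Ne.symm h2, Ne.symm n2, Ne.symm hb], fun x hx => ?_⟩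
  rw [mem_support] at hx
  rw [Perm.mul_apply] at hx ⊢
  by_cases x1 : x = a
  · subst x1; rw [swap_apply_of_ne_of_ne (Ne.symm h1) (Ne.symm n1), swap_apply_left]
  by_cases x2 : x = σ a
  · subst x2; rw [swap_apply_of_ne_of_ne (Ne.symm h2) (Ne.symm n2), swap_apply_right, i]
  by_cases x3 : x = b
  · subst x3; rw [swap_apply_left, swap_apply_of_ne_of_ne n1 n2]
  by_cases x4 : x = σ b
  · subst x4; rw [swap_apply_right, swap_apply_of_ne_of_ne h1 h2, i]
  rw [swap_apply_of_ne_of_ne x3 x4, swap_apply_of_ne_of_ne x1 x2] at hx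
  exact absurd rfl hx

/-- A permutation of order three permuting three transpositions of `σ` cyclically. -/
theorem exists_threeBlock {a b c : α} (ha : σ a ≠ a) (hb : σ b ≠ b) (hc : σ c ≠ c) (hba : b ≠ a)
    (hba' : b ≠ σ a) (hca : c ≠ a) (hca' : c ≠ σ a) (hcb : c ≠ b) (hcb' : c ≠ σ b) :
    ∃ x : Perm α, x ^ 3 = 1 ∧ Commute x σ ∧ x a = b ∧ x b = c ∧ x c = a ∧
      x (σ a) = σ b ∧ x (σ b) = σ c ∧ x (σ c) = σ a ∧
      ∀ u, u ∉ ({a, b, c, σ a, σ b, σ c} : Finset α) → x u = u := by
  have i := invol_apply hσ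
  have n1 : σ b ≠ a := fun e => hba' (by rw [← e, i])
  have n2 : σ b ≠ σ a := fun e => hba (σ.injective e)
  have n3 : σ c ≠ a := fun e => hca' (by rw [← e, i])
  have n4 : σ c ≠ σ a := fun e => hca (σ.injective e)
  have n5 : σ c ≠ b := fun e => hcb' (by rw [← e, i])
  have n6 : σ c ≠ σ b := fun e => hcb (σ.injective e)
  set x1 : Perm α := swap a b * swap b c with hx1
  set x2 : Perm α := swap (σ a) (σ b) * swap (σ b) (σ c) with hx2
  have f1 : ∀ u, u ≠ a → u ≠ b → u ≠ c → x1 u = u := fun u h h' h'' => by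
    rw [hx1, Perm.mul_apply, swap_apply_of_ne_of_ne h' h'', swap_apply_of_ne_of_ne h h']
  have f2 : ∀ u, u ≠ σ a → u ≠ σ b → u ≠ σ c → x2 u = u := fun u h h' h'' => by
    rw [hx2, Perm.mul_apply, swap_apply_of_ne_of_ne h' h'', swap_apply_of_ne_of_ne h h']
  have v1 : x1 a = b := by
    rw [hx1, Perm.mul_apply, swap_apply_of_ne_of_ne (Ne.symm hba) (Ne.symm hca), swap_apply_left]
  have v2 : x1 b = c := by rw [hx1, Perm.mul_apply, swap_apply_left, swap_apply_of_ne_of_ne hca hcb]
  have v3 : x1 c = a := by rw [hx1, Perm.mul_apply, swap_apply_right, swap_apply_right]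
  have w1 : x2 (σ a) = σ b := by
    rw [hx2, Perm.mul_apply, swap_apply_of_ne_of_ne (Ne.symm n2) (Ne.symm n4), swap_apply_left]
  have w2 : x2 (σ b) = σ c := by rw [hx2, Perm.mul_apply, swap_apply_left, swap_apply_of_ne_of_ne n4 n6]
  have w3 : x2 (σ c) = σ a := by rw [hx2, Perm.mul_apply, swap_apply_right, swap_apply_right]
  have xa : (x1 * x2) a = b := by
    rw [Perm.mul_apply, f2 a (Ne.symm ha) (Ne.symm n1) (Ne.symm n3), v1]
  have xb : (x1 * x2) b = c := by rw [Perm.mul_apply, f2 b hba' (Ne.symm hb) (Ne.symm n5), v2]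
  have xc : (x1 * x2) c = a := by rw [Perm.mul_apply, f2 c hca' hcb' (Ne.symm hc), v3]
  have xsa : (x1 * x2) (σ a) = σ b := by rw [Perm.mul_apply, w1, f1 _ n1 hb (Ne.symm hcb')]
  have xsb : (x1 * x2) (σ b) = σ c := by rw [Perm.mul_apply, w2, f1 _ n3 n5 hc]
  have xsc : (x1 * x2) (σ c) = σ a := by rw [Perm.mul_apply, w3, f1 _ ha (Ne.symm hba') (Ne.symm hca')]
  have xo : ∀ u, u ∉ ({a, b, c, σ a, σ b, σ c} : Finset α) → (x1 * x2) u = u := by
    intro u hu
    simp only [Finset.mem_insert, Finset.mem_singleton, not_or] at hu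
    rw [Perm.mul_apply, f2 u hu.2.2.2.1 hu.2.2.2.2.1 hu.2.2.2.2.2, f1 u hu.1 hu.2.1 hu.2.2.1]
  refine ⟨x1 * x2, Equiv.ext fun u => ?_, Equiv.ext fun u => ?_, xa, xb, xc, xsa, xsb, xsc, xo⟩
  · show (x1 * x2) ((x1 * x2) ((x1 * x2) u)) = u
    by_cases hu : u ∈ ({a, b, c, σ a, σ b, σ c} : Finset α)
    · simp only [Finset.mem_insert, Finset.mem_singleton] at hu
      rcases hu with rfl | rfl | rfl | rfl | rfl | rfl <;> simp only [xa, xb, xc, xsa, xsb, xsc]
    · simp only [xo u hu]
  · show (x1 * x2) (σ u) = σ ((x1 * x2) u)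
    by_cases hu : u ∈ ({a, b, c, σ a, σ b, σ c} : Finset α)
    · simp only [Finset.mem_insert, Finset.mem_singleton] at hu
      rcases hu with rfl | rfl | rfl | rfl | rfl | rfl <;> simp only [xa, xb, xc, xsa, xsb, xsc, i]
    · rw [xo u hu, xo (σ u) fun h => hu ?_]
      simp only [Finset.mem_insert, Finset.mem_singleton] at h ⊢
      rcases h with h | h | h | h | h | h <;> (rw [← i u, h]; simp only [i]; tauto)

end Invol

end CfsgLib.AltInvolCent
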