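import Cfsg.Agent.AltInvolCent.Fusion
import Cfsg.Agent.AltInvolCent.Pairs

/-!
# Counting conjugates of square roots

In `C(z, t)` some square root of `z` has at most `k (k - 1)` conjugates, `k` the number of
transpositions of `t`, while a square root of `t` has at least `(k - 1)!!` of them. Hence a fusion of
`z` and `t` forces four transpositions.
-/

set_option autoImplicit false
set_option linter.unusedSectionVars false

namespace CfsgLib.AltInvolCent

open Equiv Equiv.Perm

theorem roots_bound {c : ℕ} : ∀ h : ℕ, 4 ≤ h → c * (2 ^ h * h.factorial) = (2 * h).factorial →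
    2 * h * (2 * h - 1) < c := by
  have key : ∀ h : ℕ, 4 ≤ h → 2 * h * (2 * h - 1) * (2 ^ h * h.factorial) < (2 * h).factorial := by
    intro h hh
    induction h, hh using Nat.le_induction with
    | base => decide
    | succ h hh ih =>
      have e1 : (2 * (h + 1)).factorial = (2 * h + 2) * ((2 * h + 1) * (2 * h).factorial) := by
        rw [show 2 * (h + 1) = 2 * h + 1 + 1 by omega, Nat.factorial_succ, Nat.factorial_succ]
      have e2 : 2 * (h + 1) * (2 * (h + 1) - 1) * (2 ^ (h + 1) * (h + 1).factorial) =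
          (2 * h + 2) * ((2 * h + 1) * ((2 * (h + 1)) * (2 ^ h * h.factorial))) := by
        rw [show 2 * (h + 1) - 1 = 2 * h + 1 by omega, pow_succ, Nat.factorial_succ]
        ring
      rw [e1, e2]
      refine Nat.mul_lt_mul_of_pos_left (Nat.mul_lt_mul_of_pos_left ?_ (by omega)) (by omega)
      refine lt_of_le_of_lt (Nat.mul_le_mul_right _ ?_) ih
      have : 2 * h * (2 * h - 1) ≥ 2 * h * 2 := Nat.mul_le_mul_left _ (by omega)
      omega
  intro h hh hc
  by_contra hle
  rw [not_lt] at hle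
  have := Nat.mul_le_mul_right (2 ^ h * h.factorial) hle
  have := key h hh
  omega

/-- Fixed-point-free involutions on a set of size `2 h`. -/
theorem card_fpf {β : Type*} [Fintype β] [DecidableEq β] {h : ℕ} (hβ : Fintype.card β = 2 * h)
    (hh : 4 ≤ h) :
    2 * h * (2 * h - 1) < ({g | g.cycleType = Multiset.replicate h 2} : Finset (Perm β)).card := by
  refine roots_bound h hh ?_
  have e := card_of_cycleType_mul_eq β (Multiset.replicate h 2)
  rw [if_pos ⟨by rw [Multiset.sum_replicate, smul_eq_mul, hβ]; omega,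
    fun a ha => le_of_eq (Multiset.eq_of_mem_replicate ha).symm⟩, Multiset.sum_replicate, smul_eq_mul, hβ,
    show 2 * h - h * 2 = 0 by omega, Nat.factorial_zero, one_mul, Multiset.prod_replicate,
    Multiset.toFinset_replicate, if_neg (by omega), Finset.prod_singleton, Multiset.count_replicate_self] at e
  exact e

namespace Setup

variable {G : Type*} [Group G] {n : ℕ} (S : Setup G n)

/-- The conjugates of `u` under the centralizer of `z` and `t`. -/
def orbitOf (t u : G) : Set G := {v | ∃ d, Commute d S.z ∧ Commute d t ∧ d * u * d⁻¹ = v}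

/-- A product of two transpositions of `t` lifts to a root of `z` commuting with `t`. -/
theorem lift_two {t : G} (ht : Commute t S.z) (hs : S.p t * S.p t = 1) {m : ℕ}
    (hc : (S.p t).support.card = 4 * m) {a b : Fin n} (ha : S.p t a ≠ a) (hb : S.p t b ≠ b) (h1 : b ≠ a)
    (h2 : b ≠ S.p t a) :
    ∃ u, Commute u S.z ∧ Commute u t ∧ S.p u = swap a (S.p t a) * swap b (S.p t b) ∧ u * u = S.z := by
  obtain ⟨hnd, hag⟩ := two_pairs hs ha hb h1 h2
  obtain ⟨u, hu, hpu⟩ := S.lift _ (mem_alternatingGroup.1 (AltDoubleCoverInvol.dt_mem hnd))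
  have hty := AltDoubleCoverInvol.cycleType_dt hnd
  have hcard : (S.p u).support.card = 4 * 1 := by rw [hpu, ← sum_cycleType, hty]; rfl
  obtain ⟨e1, e2, e3, e4⟩ := sub_invol hs hag
  refine ⟨u, hu, ?_, hpu, S.sq_dt hu (hpu ▸ hty)⟩
  have hm : 1 ≤ m := by
    have := Finset.card_le_card e4
    rw [← hpu, hcard, hc] at this
    omega
  refine (S.commute_iff hu ht (by rw [hpu, e2]) hs (by rw [hpu, e1]) (i := 1) (j := m) (k := m - 1) hcard hc
    ?_).1.2 (by rw [show 1 + m + (m - 1) = 2 * m by omega]; exact even_two_mul m)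
  rw [hpu, e3, Finset.card_sdiff_of_subset e4, ← hpu, hcard, hc]
  omega

open scoped Classical in
/-- There is a root of `z` with few conjugates. -/
theorem exists_root_small [Finite G] {t : G} (ht : Commute t S.z) (hs : S.p t * S.p t = 1) {m : ℕ}
    (hm : 0 < m) (hc : (S.p t).support.card = 4 * m) :
    ∃ u, Commute u S.z ∧ Commute u t ∧ u * u = S.z ∧ (S.orbitOf t u).ncard ≤ 2 * m * (2 * m - 1) := by
  set σ := S.p t with hσ
  obtain ⟨a, ha⟩ : σ.support.Nonempty := Finset.card_pos.1 (by omega)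
  obtain ⟨b, hb, hb'⟩ : ∃ b ∈ σ.support, b ∉ ({a, σ a} : Finset (Fin n)) := by
    by_contra h
    push Not at h
    have := (Finset.card_le_card h).trans Finset.card_le_two
    omega
  rw [mem_support] at ha hb
  simp only [Finset.mem_insert, Finset.mem_singleton, not_or] at hb'
  obtain ⟨u, hu, hut, hpu, hu2⟩ := S.lift_two ht hs hc ha hb hb'.1 hb'.2
  refine ⟨u, hu, hut, hu2, ?_⟩
  set T := σ.cycleFactorsFinset with hT
  set P := T.offDiag.image (fun e => e.1 * e.2) with hP
  have hPcard : 2 * P.card ≤ T.card * T.card - T.card := by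
    rw [← Finset.offDiag_card]
    refine Finset.mul_card_image_le_card _ 2 fun π hπ => ?_
    obtain ⟨⟨c, c'⟩, he, rfl⟩ := Finset.mem_image.1 hπ
    obtain ⟨h1, h2, h3⟩ := Finset.mem_offDiag.1 he
    refine le_trans ?_ (Finset.card_le_card (s := {(c, c'), (c', c)}) ?_)
    · rw [Finset.card_pair (fun e => h3 (congrArg Prod.fst e))]
    · intro e he'
      simp only [Finset.mem_insert, Finset.mem_singleton] at he'
      rcases he' with rfl | rfl
      · exact Finset.mem_filter.2 ⟨Finset.mem_offDiag.2 ⟨h1, h2, h3⟩, rfl⟩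
      · exact Finset.mem_filter.2 ⟨Finset.mem_offDiag.2 ⟨h2, h1, Ne.symm h3⟩,
          (cycleFactorsFinset_mem_commute σ h2 h1 (Ne.symm h3)).eq⟩
  have hTm : T.card = 2 * m := by
    have := card_pairs hs
    rw [← hT] at this
    omega
  let L : Perm (Fin n) → G := fun π => if h : sign π = 1 then (S.lift π h).choose else 1
  have hsub : S.orbitOf t u ⊆ (fun e : Perm (Fin n) × Bool => if e.2 then L e.1 else L e.1 * S.z) ''
      ((P : Set (Perm (Fin n))) ×ˢ Set.univ) := by
    rintro v ⟨d, hd, hdt, rfl⟩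
    have hv := S.comm_conj hd hu
    have hdσ : Commute (S.p d) σ := by
      show S.p d * σ = σ * S.p d
      rw [hσ, ← S.p_mul hd ht, ← S.p_mul ht hd, hdt.eq]
    have hmem : ∀ c ∈ T, S.p d * c * (S.p d)⁻¹ ∈ T := fun c hc' => by
      rw [← coe_blockPerm hdσ ⟨c, hc'⟩]
      exact (blockPerm σ (S.p d) _).2
    have hPm : S.p (d * u * d⁻¹) ∈ P := by
      rw [S.p_conj hd hu, hpu, ← hσ]
      refine Finset.mem_image.2 ⟨(S.p d * swap a (σ a) * (S.p d)⁻¹, S.p d * swap b (σ b) * (S.p d)⁻¹),
        Finset.mem_offDiag.2 ⟨hmem _ (swap_mem_pairs hs ha), hmem _ (swap_mem_pairs hs hb), fun e => ?_⟩,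
        by group⟩
      rcases (pair_eq_iff hs ha).1 (mul_left_cancel (mul_right_cancel e)) with h | h
      · exact hb'.1 h
      · exact hb'.2 h
    have hsg : sign (S.p (d * u * d⁻¹)) = 1 := S.p_sign hv
    have hL : Commute (L (S.p (d * u * d⁻¹))) S.z ∧ S.p (L (S.p (d * u * d⁻¹))) = S.p (d * u * d⁻¹) := by
      simp only [L, dif_pos hsg]
      exact (S.lift _ hsg).choose_spec
    rcases S.eq_or hv hL.1 hL.2.symm with h | h
    · exact ⟨(_, true), ⟨hPm, trivial⟩, by simpa using h.symm⟩
    · exact ⟨(_, false), ⟨hPm, trivial⟩, by simpa using h.symm⟩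
  refine (Set.ncard_le_ncard hsub (Set.toFinite _)).trans ((Set.ncard_image_le (Set.toFinite _)).trans ?_)
  rw [Set.ncard_prod, Set.ncard_coe_finset, Set.ncard_univ, Nat.card_eq_fintype_card, Fintype.card_bool]
  rw [hTm] at hPcard
  have h3 : 2 * m * (2 * m - 1) = 2 * m * (2 * m) - 2 * m := by
    rw [Nat.mul_sub, mul_one]
  omega

open scoped Classical in
/-- Every root of `t` has many conjugates. -/
theorem root_large [Finite G] {t u : G} (ht : Commute t S.z) (hs : S.p t * S.p t = 1) {m : ℕ}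
    (hm : 4 ≤ m) (hc : (S.p t).support.card = 4 * m) (hu : Commute u S.z) (hut : u * u = t) :
    2 * m * (2 * m - 1) < (S.orbitOf t u).ncard := by
  set σ := S.p t with hσ
  have hcu : Commute u t := by rw [← hut]; exact (Commute.refl u).mul_right (Commute.refl u)
  have hpu2 : S.p u * S.p u = σ := by rw [hσ, ← hut, S.p_mul hu hu]
  have hyσ : Commute (S.p u) σ := by rw [← hpu2]; exact (Commute.refl _).mul_right (Commute.refl _)
  set τ := blockPerm σ (S.p u) with hτ
  have hTm : Fintype.card σ.cycleFactorsFinset = 2 * m := by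
    rw [Fintype.card_coe]
    have := card_pairs hs
    omega
  have hτ2 : τ * τ = 1 := by
    rw [hτ, ← blockPerm_mul hyσ hyσ, hpu2]
    refine (blockPerm_eq_one (Commute.refl _)).2 fun c hc' => ?_
    exact (self_mem_cycle_factors_commute hc').symm
  have hfix : ∀ c, τ c ≠ c := by
    intro c hc'
    obtain ⟨a, ha, hca⟩ := exists_of_mem_pairs hs c.2
    have e := coe_blockPerm hyσ c
    rw [← hτ, hc', hca] at e
    have e' : swap a (σ a) = swap (S.p u a) (S.p u (σ a)) := by
      rw [Equiv.swap_apply_apply]; exact e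
    have hσu : S.p u (σ a) = σ (S.p u a) := by
      rw [← Perm.mul_apply, hyσ.eq, Perm.mul_apply]
    rw [hσu] at e'
    have hya := (pair_eq_iff hs ha).1 e'
    have haa : σ a = S.p u (S.p u a) := by rw [← Perm.mul_apply, hpu2]
    rcases hya with h | h
    · rw [h, h] at haa
      exact ha haa
    · have h1 : S.p u (S.p u a) = σ (S.p u a) := by rw [h]; exact hσu.trans (by rw [h])
      rw [← haa, h, invol_apply hs] at h1
      exact ha h1
  have hsupp : τ.support.card = 2 * m := by
    rw [show τ.support = Finset.univ from Finset.eq_univ_iff_forall.2 fun c => mem_support.2 (hfix c),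
      Finset.card_univ, hTm]
  let R : Subgroup (Perm σ.cycleFactorsFinset) :=
    { carrier := {π | ∃ d, Commute d S.z ∧ Commute d t ∧ Commute (S.p d) σ ∧ blockPerm σ (S.p d) = π}
      one_mem' := ⟨1, Commute.one_left _, Commute.one_left _, by rw [S.p_one]; exact Commute.one_left _,
        by rw [S.p_one, blockPerm_one]⟩
      mul_mem' := by
        rintro _ _ ⟨d, hd, hd', hdc, rfl⟩ ⟨e, he, he', hec, rfl⟩
        exact ⟨d * e, hd.mul_left he, hd'.mul_left he', by rw [S.p_mul hd he]; exact hdc.mul_left hec,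
          by rw [S.p_mul hd he, blockPerm_mul hdc hec]⟩
      inv_mem' := by
        rintro _ ⟨d, hd, hd', hdc, rfl⟩
        exact ⟨d⁻¹, hd.inv_left, hd'.inv_left, by rw [S.p_inv hd]; exact hdc.inv_left,
          by rw [S.p_inv hd, blockPerm_inv hdc]⟩ }
  have hR : ∀ π : Perm σ.cycleFactorsFinset, sign π = 1 → π ∈ R := by
    have hle : Subgroup.closure {π : Perm σ.cycleFactorsFinset | IsThreeCycle π} ≤ R := by
      rw [Subgroup.closure_le]
      intro π hπ
      obtain ⟨c1, hc1⟩ : ∃ c, π c ≠ c := by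
        by_contra h
        push Not at h
        exact hπ.isCycle.ne_one (Equiv.ext h)
      have h3 : π ^ 3 = 1 := hπ.orderOf ▸ pow_orderOf_eq_one π
      have hp3 : π (π (π c1)) = c1 := by
        have := congrArg (fun f : Perm σ.cycleFactorsFinset => f c1) h3
        simpa [pow_succ] using this
      have h21 : π (π c1) ≠ c1 := fun e => hc1 (by rw [e] at hp3; exact hp3)
      have h22 : π (π c1) ≠ π c1 := fun e => hc1 (π.injective e)
      obtain ⟨a, ha, hca⟩ := exists_of_mem_pairs hs c1.2
      obtain ⟨b, hb, hcb⟩ := exists_of_mem_pairs hs (π c1).2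
      obtain ⟨c, hc', hcc⟩ := exists_of_mem_pairs hs (π (π c1)).2
      have nab : ¬ (b = a ∨ b = σ a) := fun e => hc1 (Subtype.ext (by rw [hcb, hca, (pair_eq_iff hs ha).2 e]))
      have nac : ¬ (c = a ∨ c = σ a) := fun e => h21 (Subtype.ext (by rw [hcc, hca, (pair_eq_iff hs ha).2 e]))
      have nbc : ¬ (c = b ∨ c = σ b) := fun e => h22 (Subtype.ext (by rw [hcc, hcb, (pair_eq_iff hs hb).2 e]))
      rw [not_or] at nab nac nbc
      obtain ⟨x, hx3, hxσ, xa, xb, xc, xsa, xsb, xsc, xo⟩ :=
        exists_threeBlock hs ha hb hc' nab.1 nab.2 nac.1 nac.2 nbc.1 nbc.2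
      obtain ⟨d, hd, rfl, hd3⟩ := S.lift_odd (m := 3) (by decide) hx3
      refine ⟨d, hd, S.commute_of_odd hd ht (by decide) hd3 hxσ.eq, hxσ, Equiv.ext fun w => Subtype.ext ?_⟩
      rw [coe_blockPerm hxσ]
      obtain ⟨v, hv, hwv⟩ := exists_of_mem_pairs hs w.2
      rw [hwv, ← Equiv.swap_apply_apply]
      by_cases hw : w = c1 ∨ w = π c1 ∨ w = π (π c1)
      · rcases hw with rfl | rfl | rfl
        · rw [hcb]
          rcases (pair_eq_iff hs ha).1 (hca.symm.trans hwv) with rfl | rfl
          · rw [xa, xsa]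
          · rw [invol_apply hs, xsa, xa, swap_comm]
        · rw [hcc]
          rcases (pair_eq_iff hs hb).1 (hcb.symm.trans hwv) with rfl | rfl
          · rw [xb, xsb]
          · rw [invol_apply hs, xsb, xb, swap_comm]
        · rw [hp3, hca]
          rcases (pair_eq_iff hs hc').1 (hcc.symm.trans hwv) with rfl | rfl
          · rw [xc, xsc]
          · rw [invol_apply hs, xsc, xc, swap_comm]
      · simp only [not_or] at hw
        have hπw : π w = w := by
          by_contra hne
          have hsub : ({c1, π c1, π (π c1), w} : Finset σ.cycleFactorsFinset) ⊆ π.support := by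
            intro u' hu'
            simp only [Finset.mem_insert, Finset.mem_singleton] at hu'
            rw [mem_support]
            rcases hu' with rfl | rfl | rfl | rfl
            · exact hc1
            · exact h22
            · rw [hp3]; exact Ne.symm h21
            · exact hne
          have := Finset.card_le_card hsub
          rw [hπ.card_support, Finset.card_insert_of_notMem (by simp [Ne.symm hc1, Ne.symm h21, Ne.symm hw.1]),
            Finset.card_insert_of_notMem (by simp [Ne.symm h22, Ne.symm hw.2.1]),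
            Finset.card_pair (Ne.symm hw.2.2)] at this
          omega
        rw [hπw, hwv]
        have hnot : ∀ (e : Fin n) (_ : σ e ≠ e) (q : σ.cycleFactorsFinset), (q : Perm (Fin n)) = swap e (σ e) →
            w ≠ q → v ≠ e ∧ v ≠ σ e := fun e he q hq hne =>
          not_or.1 fun h => hne (Subtype.ext (by rw [hwv, hq, (pair_eq_iff hs he).2 h]))
        obtain ⟨v1, v2⟩ := hnot a ha _ hca hw.1
        obtain ⟨v3, v4⟩ := hnot b hb _ hcb hw.2.1
        obtain ⟨v5, v6⟩ := hnot c hc' _ hcc hw.2.2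
        rw [xo v (by simp [v1, v2, v3, v4, v5, v6]), xo (σ v) ?_]
        simp only [Finset.mem_insert, Finset.mem_singleton, not_or]
        exact ⟨fun e => v2 (by rw [← e, invol_apply hs]), fun e => v4 (by rw [← e, invol_apply hs]),
          fun e => v6 (by rw [← e, invol_apply hs]), fun e => v1 (σ.injective e), fun e => v3 (σ.injective e),
          fun e => v5 (σ.injective e)⟩
    intro π hπ
    refine hle ?_
    rw [closure_three_cycles_eq_alternating]
    exact mem_alternatingGroup.2 hπ
  have hcl := card_fpf hTm hm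
  refine hcl.trans_le ?_
  rw [← Set.ncard_coe_finset]
  refine le_trans (Set.ncard_le_ncard ?_ (Set.toFinite _))
    (Set.ncard_image_le (f := fun v => blockPerm σ (S.p v)) (Set.toFinite _))
  intro π hπ
  rw [Finset.coe_filter, Set.mem_ofPred_eq] at hπ
  have hπ2 : π * π = 1 := by
    rw [← sq, ← orderOf_dvd_iff_pow_eq_one, ← lcm_cycleType, hπ.2, Multiset.lcm_dvd]
    exact fun b hb => (Multiset.eq_of_mem_replicate hb).dvd
  have hπs : π.support.card = 2 * m := by
    rw [← sum_cycleType, hπ.2, Multiset.sum_replicate, smul_eq_mul, mul_comm]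
  obtain ⟨ψ, hψ, hψe⟩ := exists_even_conj hτ2 hπ2
    (fun e => by rw [e, support_one, Finset.card_empty] at hsupp; omega) (hsupp.trans hπs.symm)
  obtain ⟨d, hd, hdt, hdc, rfl⟩ := hR ψ hψ
  refine ⟨d * u * d⁻¹, ⟨d, hd, hdt, rfl⟩, ?_⟩
  show blockPerm σ (S.p (d * u * d⁻¹)) = π
  rw [S.p_conj hd hu, blockPerm_mul (hdc.mul_left hyσ) hdc.inv_left, blockPerm_mul hdc hyσ, blockPerm_inv hdc,
    ← hτ, hψe]

/-- A fusion of `z` with `t` forces four transpositions in `t`. -/
theorem fused_eight [Finite G] {g : G} (h : Commute (g * S.z * g⁻¹) S.z) (hne : g * S.z * g⁻¹ ≠ S.z) :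
    (S.p (g * S.z * g⁻¹)).support.card = 8 ∧ (S.p (g⁻¹ * S.z * g⁻¹⁻¹)).support.card = 8 := by
  have step : ∀ {g : G}, Commute (g * S.z * g⁻¹) S.z → g * S.z * g⁻¹ ≠ S.z → ∀ {m m' : ℕ},
      0 < m → (S.p (g * S.z * g⁻¹)).support.card = 4 * m →
      (S.p (g⁻¹ * S.z * g⁻¹⁻¹)).support.card = 4 * m' → 4 ≤ m' → m' < m := by
    intro g h hne m m' hm hc hc' hm'
    obtain ⟨h', hne'⟩ := S.inv_fused h hne
    obtain ⟨u, hu, hut, hu2, hsmall⟩ := S.exists_root_small h (S.fused_support h hne).1 hm hc
    have hu'z : Commute (g⁻¹ * u * g⁻¹⁻¹) S.z := by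
      have := (Commute.conj_iff g⁻¹).2 hut
      rwa [show g⁻¹ * (g * S.z * g⁻¹) * g⁻¹⁻¹ = S.z by group] at this
    have hlarge := S.root_large h' (S.fused_support h' hne').1 hm' hc' hu'z
      (by rw [← hu2]; group)
    have hsub : S.orbitOf (g⁻¹ * S.z * g⁻¹⁻¹) (g⁻¹ * u * g⁻¹⁻¹) ⊆
        (fun v => g⁻¹ * v * g⁻¹⁻¹) '' S.orbitOf (g * S.z * g⁻¹) u := by
      rintro v ⟨d, hd, hdt, rfl⟩
      refine ⟨g * d * g⁻¹ * u * (g * d * g⁻¹)⁻¹, ⟨g * d * g⁻¹, ?_, ?_, rfl⟩, by group⟩
      · have := (Commute.conj_iff g).2 hdt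
        rwa [show g * (g⁻¹ * S.z * g⁻¹⁻¹) * g⁻¹ = S.z by group] at this
      · exact (Commute.conj_iff g).2 hd
    have := (Set.ncard_le_ncard hsub (Set.toFinite _)).trans (Set.ncard_image_le (Set.toFinite _))
    by_contra hlt
    rw [not_lt] at hlt
    have : 2 * m * (2 * m - 1) ≤ 2 * m' * (2 * m' - 1) := Nat.mul_le_mul (by omega) (by omega)
    omega
  obtain ⟨h', hne'⟩ := S.inv_fused h hne
  obtain ⟨-, m, hm, ⟨k, hk⟩, hc⟩ := S.fused_support h hne
  obtain ⟨-, m', hm', ⟨k', hk'⟩, hc'⟩ := S.fused_support h' hne'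
  have key1 := step h hne hm hc hc'
  have key2 := step h' hne' hm' hc' (by rwa [inv_inv])
  omega

end Setup

end CfsgLib.AltInvolCent
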