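import Cfsg.Agent.AltInvolCent.Standard
import Cfsg.Agent.AltInvolCent.FourPairs

/-!
# An element rotating `z`, `t`, `t z` and centralizing `x y`

For degrees nine and ten the centralizer of `⟨z, t⟩` has Sylow three-subgroups of order three, so the
rotation of `z`, `t`, `t z` can be chosen in the centralizer of `L (1, 1, 0)`.
-/

set_option autoImplicit false
set_option linter.unusedSectionVars false

namespace CfsgLib.AltInvolCent

open Equiv Equiv.Perm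
open NinePerms

/-- The lines inverted by `pt0`. -/
def InW (v : Fin 3 × Fin 3 × Fin 3) : Prop := v.2.1 = -v.1

instance (v : Fin 3 × Fin 3 × Fin 3) : Decidable (InW v) := by unfold InW; infer_instance

theorem frame_facts {n : ℕ} (hn : 9 ≤ n) (hn' : n ≤ 10) :
    pt0 hn * el hn (1, 1, 0) = el hn (1, 1, 0) * pt0 hn ∧
      (∀ (i : Fin 3) (v : Fin 3 × Fin 3 × Fin 3), el hn (i, i, 0) * el hn v = el hn v * el hn (i, i, 0)) ∧
      el hn (1, 1, 0) ≠ 1 := by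
  rcases (by omega : n = 9 ∨ n = 10) with rfl | rfl <;> decide +kernel +revert

/-- Elements of order three of the centralizer of `pt0` in the alternating group are conjugate up to
inversion. -/
theorem conj_three_t0 {n : ℕ} (hn : 9 ≤ n) (hn' : n ≤ 10) {σ : Perm (Fin n)} (h3 : σ ^ 3 = 1) (h1 : σ ≠ 1)
    (hc : σ * pt0 hn = pt0 hn * σ) :
    ∃ π : Perm (Fin n), sign π = 1 ∧ π * pt0 hn = pt0 hn * π ∧
      (π * σ * π⁻¹ = el hn (1, 1, 0) ∨ π * σ * π⁻¹ = (el hn (1, 1, 0))⁻¹) := by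
  classical
  have : Fact (Nat.Prime 3) := ⟨Nat.prime_three⟩
  set H : Subgroup (Perm (Fin n)) := Subgroup.centralizer ({pt0 hn} : Set (Perm (Fin n))) ⊓ alternatingGroup (Fin n)
    with hH
  have memH : ∀ {π}, π ∈ H ↔ π * pt0 hn = pt0 hn * π ∧ sign π = 1 := fun {π} => by
    rw [hH, Subgroup.mem_inf, Subgroup.mem_centralizer_singleton_iff, mem_alternatingGroup]
  have hsign : ∀ {ρ : Perm (Fin n)}, ρ ^ 3 = 1 → sign ρ = 1 := fun {ρ} hρ => by
    have h := congrArg sign hρ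
    rwa [map_pow, map_one, pow_succ, Int.units_sq, one_mul] at h
  have hcard : Nat.card H ∣ 768 := by
    refine (Subgroup.card_dvd_of_le (inf_le_left : H ≤ _)).trans ?_
    obtain ⟨⟨hi, -, -⟩, ⟨hc8, -, -⟩, -, -⟩ := invol_facts hn hn'
    obtain ⟨ht, ht2⟩ := cycleType_invol hi
    rw [nat_card_centralizer, ht, show Multiset.card (pt0 hn).cycleType = 4 by omega, Fintype.card_fin]
    rcases (by omega : n = 9 ∨ n = 10) with rfl | rfl <;> decide
  set P : H := ⟨σ, memH.2 ⟨hc, hsign h3⟩⟩ with hP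
  have hx3 := (el_facts hn hn').1.1 (1, 1, 0)
  set Q : H := ⟨el hn (1, 1, 0), memH.2 ⟨(frame_facts hn hn').1.symm, hsign hx3⟩⟩ with hQ
  have hoP : orderOf P = 3 := orderOf_eq_prime (Subtype.ext h3) fun e => h1 (congrArg Subtype.val e)
  have hoQ : orderOf Q = 3 :=
    orderOf_eq_prime (Subtype.ext hx3) fun e => (frame_facts hn hn').2.2 (congrArg Subtype.val e)
  have hfac : (Nat.card H).factorization 3 = 1 := by
    have h3dvd : 3 ∣ Nat.card H := hoP ▸ orderOf_dvd_natCard P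
    refine le_antisymm ?_ ((Nat.Prime.dvd_iff_one_le_factorization Nat.prime_three Nat.card_pos.ne').1 h3dvd)
    by_contra h
    have := (Nat.prime_three.pow_dvd_iff_le_factorization (n := Nat.card H) (k := 2) Nat.card_pos.ne').2 (by omega)
    exact absurd (this.trans hcard) (by norm_num)
  let SP : Sylow 3 H := Sylow.ofCard (Subgroup.zpowers P) (by rw [Nat.card_zpowers, hoP, hfac, pow_one])
  let SQ : Sylow 3 H := Sylow.ofCard (Subgroup.zpowers Q) (by rw [Nat.card_zpowers, hoQ, hfac, pow_one])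
  obtain ⟨g, hg⟩ := MulAction.exists_smul_eq H SP SQ
  have hm : g * P * g⁻¹ ∈ (SQ : Subgroup H) := by
    rw [← hg]
    exact Subgroup.smul_mem_pointwise_smul P (MulAut.conj g) _ (Subgroup.mem_zpowers P)
  have hm' : g * P * g⁻¹ ∈ Subgroup.zpowers Q := hm
  rw [mem_zpowers_iff_mem_range_orderOf, hoQ, Finset.mem_image] at hm'
  obtain ⟨j, hj, e⟩ := hm'
  rw [Finset.mem_range] at hj
  refine ⟨g.1, (memH.1 g.2).2, (memH.1 g.2).1, ?_⟩
  interval_cases j
  · rw [pow_zero, eq_comm, conj_eq_one_iff] at e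
    exact absurd (congrArg Subtype.val e) h1
  · left
    rw [pow_one] at e
    exact congrArg Subtype.val e.symm
  · right
    refine (congrArg Subtype.val e.symm).trans (eq_inv_of_mul_eq_one_left ?_)
    show el hn (1, 1, 0) ^ 2 * el hn (1, 1, 0) = 1
    rw [← pow_succ, hx3]

namespace Setup

variable {G : Type*} [Group G] {n : ℕ} (S : Setup G n) (hn : 9 ≤ n) (hn' : n ≤ 10)

/-- Lifts of `pt0` and `pu` with a rotation of three-power order. -/
structure Frame where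
  t : G
  u : G
  rot : G
  t_z : Commute t S.z
  t_p : S.p t = pt0 hn
  t_t : t * t = 1
  u_z : Commute u S.z
  u_p : S.p u = pu hn
  u_u : u * u = S.z
  u_t : u * t * u⁻¹ = t * S.z
  rot_z : rot * S.z * rot⁻¹ = t
  rot_t : rot * t * rot⁻¹ = t * S.z
  rot_x : Commute rot (S.L hn hn' (1, 1, 0))
  rot_pow : ∃ k, rot ^ 3 ^ k = 1

/-- Existence of a frame. -/
theorem exists_frame [Finite G] [IsSimpleGroup G] : Nonempty (S.Frame hn hn') := by
  obtain ⟨⟨i1, i2, -⟩, ⟨c1, c2, -⟩, ⟨hcomm, c12⟩, ⟨s1, s2, -⟩⟩ := invol_facts hn hn'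
  obtain ⟨t, ht, hpt⟩ := S.lift _ s1
  obtain ⟨u, hu, hpu⟩ := S.lift _ s2
  have htt : t * t = 1 := by
    rw [S.sq_invol 2 ht (by rw [hpt, i1]) (by rw [hpt, c1]), sq, S.z_sq]
  have huu : u * u = S.z := by
    rw [S.sq_invol 1 hu (by rw [hpu, i2]) (by rw [hpu, c2]), pow_one]
  have hut : u * t * u⁻¹ = t * S.z := by
    have h := (S.commute_iff hu ht (by rw [hpu, i2]) (by rw [hpt, i1]) (by rw [hpu, hpt, hcomm]) (i := 1) (j := 2)
      (k := 2) (by rw [hpu, c2]) (by rw [hpt, c1]) (by rw [hpu, hpt, c12])).2 (by decide)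
    rw [mul_inv_eq_iff_eq_mul, h, mul_assoc t u S.z, hu.eq, ← mul_assoc]
  obtain ⟨g, hg, hne⟩ := S.exists_fused
  obtain ⟨f1, f2⟩ := S.fused_eight hg hne
  obtain ⟨r, rz, rt, rtz⟩ := S.exists_rot hg hne (m := 2) (by norm_num) f1 f2 ht (by rw [hpt, i1]) (by rw [hpt, c1])
  set x2 := S.L hn hn' (1, 1, 0) with hx2
  have hxz : Commute x2 S.z := S.L_comm hn hn' _
  have hxt : Commute t x2 := S.L_commute_of hn hn' ht (by rw [hpt, (frame_facts hn hn').1])
  set y := r * x2 * r⁻¹ with hy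
  have hyt : Commute y t := by
    have := (Commute.conj_iff r).2 hxz
    rwa [rz] at this
  have hyz : Commute y S.z := by
    have := (Commute.conj_iff r).2 (hxt.symm.mul_right hxz)
    rwa [rtz] at this
  have hy3 : y ^ 3 = 1 := by rw [hy, conj_pow, hx2, S.L_cube, mul_one, mul_inv_cancel]
  have hy1 : y ≠ 1 := fun h => S.L_ne hn hn' (v := (1, 1, 0)) (by decide) (conj_eq_one_iff.1 h)
  have hpy1 : S.p y ≠ 1 := fun h => hy1 (S.eq_one_of_odd hyz (m := 3) (by decide) hy3 h)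
  obtain ⟨π, hπs, hπt, hπy⟩ := conj_three_t0 hn hn' (σ := S.p y) (by rw [← S.p_pow hyz, hy3, S.p_one]) hpy1
    (by rw [← hpt, ← S.p_mul hyz ht, ← S.p_mul ht hyz, hyt.eq])
  obtain ⟨d0, hd0, hpd0⟩ := S.lift π hπs
  have hcases : d0 * t * d0⁻¹ = t ∨ d0 * t * d0⁻¹ = t * S.z :=
    S.eq_or (S.comm_conj hd0 ht) ht (by rw [S.p_conj hd0 ht, hpd0, hpt, hπt, mul_inv_cancel_right])
  -- correct the lift by the lift of `pu`
  obtain ⟨d, hd, hdt, hdy⟩ : ∃ d, Commute d S.z ∧ Commute d t ∧ (d * y * d⁻¹ = x2 ∨ d * y * d⁻¹ = x2⁻¹) := by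
    have e0 : d0 * y * d0⁻¹ = x2 ∨ d0 * y * d0⁻¹ = x2⁻¹ := by
      have hc3 : (d0 * y * d0⁻¹) ^ 3 = 1 := by rw [conj_pow, hy3, mul_one, mul_inv_cancel]
      rcases hπy with h | h
      · exact Or.inl (S.L_eq hn hn' (S.comm_conj hd0 hyz) (m := 3) (by decide) hc3
          (by rw [S.p_conj hd0 hyz, hpd0, h]))
      · refine Or.inr (S.odd_lift_unique (S.comm_conj hd0 hyz) hxz.inv_left (m := 3) (by decide) hc3
          (by rw [inv_pow, hx2, S.L_cube, inv_one]) ?_)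
        rw [S.p_conj hd0 hyz, hpd0, h, S.p_inv hxz, hx2, S.L_p]
    rcases hcases with h | h
    · exact ⟨d0, hd0, mul_inv_eq_iff_eq_mul.1 h, e0⟩
    · refine ⟨u * d0, hu.mul_left hd0, mul_inv_eq_iff_eq_mul.1 ?_, ?_⟩
      · rw [show u * d0 * t * (u * d0)⁻¹ = u * (d0 * t * d0⁻¹) * u⁻¹ by group, h,
          show u * (t * S.z) * u⁻¹ = u * t * u⁻¹ * (u * S.z * u⁻¹) by group, hut, hu.eq, mul_inv_cancel_right,
          mul_assoc, S.z_sq, mul_one]
      · have hux : u * x2 * u⁻¹ = x2⁻¹ := by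
          rw [hx2, ← S.L_neg hn hn']
          exact S.L_conj hn hn' hu (by rw [hpu, (inv_facts hn hn').2.1]; rfl)
        rw [show u * d0 * y * (u * d0)⁻¹ = u * (d0 * y * d0⁻¹) * u⁻¹ by group]
        rcases e0 with e | e
        · exact Or.inr (by rw [e, hux])
        · left
          rw [e, show u * x2⁻¹ * u⁻¹ = (u * x2 * u⁻¹)⁻¹ by group, hux, inv_inv]
  set r0 := d * r with hr0
  have a1 : r0 * S.z * r0⁻¹ = t := by
    rw [hr0, show d * r * S.z * (d * r)⁻¹ = d * (r * S.z * r⁻¹) * d⁻¹ by group, rz, hdt.eq, mul_inv_cancel_right]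
  have a2 : r0 * t * r0⁻¹ = t * S.z := by
    rw [hr0, show d * r * t * (d * r)⁻¹ = d * (r * t * r⁻¹) * d⁻¹ by group, rt, (hdt.mul_right hd).eq,
      mul_inv_cancel_right]
  have a3 : r0 * (t * S.z) * r0⁻¹ = S.z := by
    rw [hr0, show d * r * (t * S.z) * (d * r)⁻¹ = d * (r * (t * S.z) * r⁻¹) * d⁻¹ by group, rtz, hd.eq,
      mul_inv_cancel_right]
  have a4 : r0 * x2 * r0⁻¹ = x2 ∨ r0 * x2 * r0⁻¹ = x2⁻¹ := by
    rw [hr0, show d * r * x2 * (d * r)⁻¹ = d * y * d⁻¹ by rw [hy]; group]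
    exact hdy
  have c3 : Commute (r0 ^ 3) S.z ∧ Commute (r0 ^ 3) t := by
    refine ⟨mul_inv_eq_iff_eq_mul.1 ?_, mul_inv_eq_iff_eq_mul.1 ?_⟩
    · rw [show r0 ^ 3 * S.z * (r0 ^ 3)⁻¹ = r0 * (r0 * (r0 * S.z * r0⁻¹) * r0⁻¹) * r0⁻¹ by
        simp only [pow_succ, pow_zero, one_mul, mul_inv_rev, mul_assoc], a1, a2, a3]
    · rw [show r0 ^ 3 * t * (r0 ^ 3)⁻¹ = r0 * (r0 * (r0 * t * r0⁻¹) * r0⁻¹) * r0⁻¹ by
        simp only [pow_succ, pow_zero, one_mul, mul_inv_rev, mul_assoc], a2, a3, a1]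
  have r2x : Commute (r0 ^ 2) x2 := by
    refine mul_inv_eq_iff_eq_mul.1 ?_
    rw [show r0 ^ 2 * x2 * (r0 ^ 2)⁻¹ = r0 * (r0 * x2 * r0⁻¹) * r0⁻¹ by
      simp only [pow_succ, pow_zero, one_mul, mul_inv_rev, mul_assoc]]
    rcases a4 with h | h
    · rw [h, h]
    · rw [h, show r0 * x2⁻¹ * r0⁻¹ = (r0 * x2 * r0⁻¹)⁻¹ by group, h, inv_inv]
  set r1 := r0 ^ 4 with hr1
  have r1x : Commute r1 x2 := by
    rw [hr1, show r0 ^ 4 = r0 ^ 2 * r0 ^ 2 by rw [← pow_add]]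
    exact r2x.mul_left r2x
  have act : ∀ j : ℕ, r0 ^ (3 * j + 1) * S.z * (r0 ^ (3 * j + 1))⁻¹ = t ∧
      r0 ^ (3 * j + 1) * t * (r0 ^ (3 * j + 1))⁻¹ = t * S.z := by
    intro j
    have cj1 : Commute (r0 ^ (3 * j)) S.z := by rw [pow_mul]; exact c3.1.pow_left j
    have cj2 : Commute (r0 ^ (3 * j)) t := by rw [pow_mul]; exact c3.2.pow_left j
    refine ⟨?_, ?_⟩
    · rw [pow_succ', show r0 * r0 ^ (3 * j) * S.z * (r0 * r0 ^ (3 * j))⁻¹ =
        r0 * (r0 ^ (3 * j) * S.z * (r0 ^ (3 * j))⁻¹) * r0⁻¹ by group, cj1.eq, mul_inv_cancel_right, a1]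
    · rw [pow_succ', show r0 * r0 ^ (3 * j) * t * (r0 * r0 ^ (3 * j))⁻¹ =
        r0 * (r0 ^ (3 * j) * t * (r0 ^ (3 * j))⁻¹) * r0⁻¹ by group, cj2.eq, mul_inv_cancel_right, a2]
  obtain ⟨k, l, hl3, hkl⟩ := Nat.exists_eq_pow_mul_and_not_dvd (orderOf_pos r1).ne' 3 (by norm_num)
  have hll : l * l % 3 = 1 := by
    have : l % 3 = 1 ∨ l % 3 = 2 := by omega
    rcases this with h | h <;> simp [Nat.mul_mod, h]
  obtain ⟨j, hj⟩ : ∃ j, 4 * (l * l) = 3 * j + 1 := ⟨(4 * (l * l) - 1) / 3, by omega⟩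
  refine ⟨⟨t, u, r1 ^ (l * l), ht, hpt, htt, hu, hpu, huu, hut, ?_, ?_, r1x.pow_left _, k, ?_⟩⟩
  · rw [hr1, ← pow_mul, hj]; exact (act j).1
  · rw [hr1, ← pow_mul, hj]; exact (act j).2
  · rw [← pow_mul, show l * l * 3 ^ k = orderOf r1 * l by rw [hkl]; ring, pow_mul, pow_orderOf_eq_one, one_pow]

namespace Frame

variable {S hn hn'} (F : S.Frame hn hn')

theorem rot_tz : F.rot * (F.t * S.z) * F.rot⁻¹ = S.z := by
  rw [show F.rot * (F.t * S.z) * F.rot⁻¹ = F.rot * F.t * F.rot⁻¹ * (F.rot * S.z * F.rot⁻¹) by group, F.rot_t,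
    F.rot_z, mul_assoc, ← F.t_z.eq, ← mul_assoc, F.t_t, one_mul]

theorem t_x2 : Commute F.t (S.L hn hn' (1, 1, 0)) :=
  S.L_commute_of hn hn' F.t_z (by rw [F.t_p, (frame_facts hn hn').1])

theorem t_L (v : Fin 3 × Fin 3 × Fin 3) :
    F.t * S.L hn hn' v * F.t⁻¹ = S.L hn hn' (v.2.1, v.1, -v.2.2) :=
  S.L_conj hn hn' F.t_z (by rw [F.t_p, (inv_facts hn hn').1])

theorem u_L (v : Fin 3 × Fin 3 × Fin 3) :
    F.u * S.L hn hn' v * F.u⁻¹ = S.L hn hn' (-v.1, -v.2.1, v.2.2) :=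
  S.L_conj hn hn' F.u_z (by rw [F.u_p, (inv_facts hn hn').2.1])

theorem t_inW {w : Fin 3 × Fin 3 × Fin 3} (hw : InW w) :
    F.t * S.L hn hn' w * F.t⁻¹ = S.L hn hn' (-w) := by
  rw [F.t_L]
  congr 1
  have key : ∀ w : Fin 3 × Fin 3 × Fin 3, InW w → (w.2.1, w.1, -w.2.2) = -w := by decide
  exact key w hw

/-- The centralizer of `z`, `t` and `L (1, 1, 0)`. -/
theorem cent_zt_x2 {d : G} (hd : Commute d S.z) (hdt : Commute d F.t) (hdx : Commute d (S.L hn hn' (1, 1, 0))) :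
    ∃ (i : Fin 3) (e : G), d = S.L hn hn' (i, i, 0) * e ∧ (e = 1 ∨ e = S.z ∨ e = F.t ∨ e = F.t * S.z) := by
  have pc : ∀ {a b : G}, Commute a S.z → Commute b S.z → Commute a b → S.p a * S.p b = S.p b * S.p a :=
    fun ha hb h => by rw [← S.p_mul ha hb, ← S.p_mul hb ha, h.eq]
  obtain ⟨i, e, h⟩ := cent_xy_t0 hn hn' (S.p_sign hd) (S.L_p hn hn' (1, 1, 0) ▸ pc hd (S.L_comm hn hn' _) hdx)
    (F.t_p ▸ pc hd F.t_z hdt)
  set e' := if e then F.t else 1 with he'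
  have he'z : Commute e' S.z := by rw [he']; split_ifs; exacts [F.t_z, Commute.one_left _]
  have hLt : Commute (S.L hn hn' (i, i, 0)) F.t := by
    refine (mul_inv_eq_iff_eq_mul.1 (?_ : F.t * S.L hn hn' (i, i, 0) * F.t⁻¹ = S.L hn hn' (i, i, 0))).symm
    rw [F.t_L]
    congr 1
    simp
  have he't : Commute e' F.t := by rw [he']; split_ifs; exacts [Commute.refl _, Commute.one_left _]
  set g := S.L hn hn' (i, i, 0) * e' with hg
  have hgz : Commute g S.z := (S.L_comm hn hn' _).mul_left he'z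
  have hgp : S.p g = el hn (i, i, 0) * (if e then pt0 hn else 1) := by
    rw [hg, S.p_mul (S.L_comm hn hn' _) he'z, S.L_p, he']
    split_ifs
    · rw [F.t_p]
    · rw [S.p_one]
  rcases h with h | ⟨δ, h, -, hδt, hδ2, hδc, hδc'⟩
  · rcases S.eq_or hd hgz (by rw [hgp, h]) with h1 | h1
    · refine ⟨i, e', h1, ?_⟩
      rw [he']; split_ifs <;> simp
    · refine ⟨i, e' * S.z, by rw [h1, hg, mul_assoc], ?_⟩
      rw [he']; split_ifs <;> simp
  · exfalso
    set d' := g⁻¹ * d with hd'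
    have hd'z : Commute d' S.z := hgz.inv_left.mul_left hd
    have hpd' : S.p d' = δ := by
      rw [hd', S.p_mul hgz.inv_left hd, S.p_inv hgz, hgp, h, inv_mul_cancel_left]
    have hct : Commute d' F.t := (hLt.mul_left he't).inv_left.mul_left hdt
    have := (S.commute_iff hd'z F.t_z (by rw [hpd', hδ2]) (by rw [F.t_p, (invol_facts hn hn').1.1])
      (by rw [hpd', F.t_p, hδt]) (i := 1) (j := 2) (k := 2) (by rw [hpd', hδc])
      (by rw [F.t_p, (invol_facts hn hn').2.1.1]) (by rw [hpd', F.t_p, hδc'])).1.1 hct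
    exact absurd this (by decide)

/-- Elements of `C(z, t, x y)` act as a scalar on the lines inverted by `t`. -/
theorem act_inW {d : G} (hd : Commute d S.z) (hdt : Commute d F.t) (hdx : Commute d (S.L hn hn' (1, 1, 0)))
    (w : Fin 3 × Fin 3 × Fin 3) (hw : InW w) :
    d * S.L hn hn' w * d⁻¹ = S.L hn hn' w ∨ d * S.L hn hn' w * d⁻¹ = S.L hn hn' (-w) := by
  obtain ⟨i, e, rfl, he⟩ := F.cent_zt_x2 hd hdt hdx
  have hL : ∀ v, S.L hn hn' (i, i, 0) * S.L hn hn' v * (S.L hn hn' (i, i, 0))⁻¹ = S.L hn hn' v := fun v => by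
    rw [(S.L_commute hn hn' _ v).eq, mul_inv_cancel_right]
  have hzv : ∀ v, S.z * S.L hn hn' v * S.z⁻¹ = S.L hn hn' v := fun v => by
    rw [← (S.L_comm hn hn' v).eq, mul_inv_cancel_right]
  rw [show S.L hn hn' (i, i, 0) * e * S.L hn hn' w * (S.L hn hn' (i, i, 0) * e)⁻¹ =
    S.L hn hn' (i, i, 0) * (e * S.L hn hn' w * e⁻¹) * (S.L hn hn' (i, i, 0))⁻¹ by group]
  rcases he with rfl | rfl | rfl | rfl
  · left; rw [one_mul, inv_one, mul_one, hL]
  · left; rw [hzv, hL]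
  · right; rw [F.t_inW hw, hL]
  · right
    rw [show F.t * S.z * S.L hn hn' w * (F.t * S.z)⁻¹ = F.t * (S.z * S.L hn hn' w * S.z⁻¹) * F.t⁻¹ by group, hzv,
      F.t_inW hw, hL]

end Frame

end Setup

end CfsgLib.AltInvolCent
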