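import Cfsg.Prelude.Def_SporadicB
import Cfsg.Agent.AltDoubleCover.Flip
import Cfsg.Agent.AltDoubleCoverInvol.Basic
import Cfsg.Agent.ZStar.Theorem

/-!
# An involution whose centralizer is a double cover of an alternating group: the setup

The covering map is recorded as a function `p` defined on the whole group and multiplicative on the
centralizer of `z`. Squares of lifts of involutions and the resulting commutation rules are derived.
-/

set_option autoImplicit false
set_option linter.unusedSectionVars false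

namespace CfsgLib.AltInvolCent

open Equiv Equiv.Perm

/-- An involution `z` with a perfect double cover `p` of the alternating group on its centralizer. -/
structure Setup (G : Type*) [Group G] (n : ℕ) where
  z : G
  hz : orderOf z = 2
  p : G → Perm (Fin n)
  p_mul : ∀ {a b : G}, Commute a z → Commute b z → p (a * b) = p a * p b
  p_sign : ∀ {a : G}, Commute a z → sign (p a) = 1
  lift : ∀ σ : Perm (Fin n), sign σ = 1 → ∃ a, Commute a z ∧ p a = σ
  p_ker : ∀ {a : G}, Commute a z → p a = 1 → a = 1 ∨ a = z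
  p_z : p z = 1
  hn : 5 ≤ n
  sq_dt : ∀ {a : G}, Commute a z → (p a).cycleType = {2, 2} → a * a = z
  comm_dt : ∀ {a b : G} {i j k l : Fin n}, Commute a z → Commute b z → p a = swap i k * swap j l →
    p b i = i → p b j = j → p b k = k → p b l = l → Commute a b

/-- The setup of a non-split double cover centralizer. -/
theorem exists_setup {G : Type*} [Group G] [Finite G] {n : ℕ} (hn : 5 ≤ n) {z : G} (hz : orderOf z = 2)
    (hcov : Cfsg.IsNonsplitDoubleCover (Subgroup.centralizer ({z} : Set G)) (alternatingGroup (Fin n))) :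
    ∃ S : Setup G n, S.z = z := by
  classical
  obtain ⟨hc, ⟨e⟩, hns⟩ := hcov
  set C := Subgroup.centralizer ({z} : Set G) with hC
  have hzC : z ∈ C := Subgroup.mem_centralizer_singleton_iff.2 rfl
  set zc : C := ⟨z, hzC⟩ with hzc
  have hzne : zc ≠ 1 := fun h => by
    rw [show z = 1 from congrArg Subtype.val h, orderOf_one] at hz
    omega
  have hzcent : zc ∈ Subgroup.center C := Subgroup.mem_center_iff.2 fun g =>
    Subtype.ext (Subgroup.mem_centralizer_singleton_iff.1 g.2)
  have hsq : zc * zc = 1 := Subtype.ext (by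
    have h := pow_orderOf_eq_one z
    rwa [hz, sq] at h)
  have hZ : ∀ g : C, g ∈ Subgroup.center C ↔ g = 1 ∨ g = zc := by
    intro g
    refine ⟨fun hg => ?_, ?_⟩
    · obtain ⟨u, v, -, huv⟩ := Nat.card_eq_two_iff.1 hc
      have hall : ∀ w : Subgroup.center C, w = u ∨ w = v := fun w => by
        have := huv ▸ Set.mem_univ w
        simpa using this
      by_contra h
      rw [not_or] at h
      have h1 : (⟨g, hg⟩ : Subgroup.center C) ≠ ⟨1, one_mem _⟩ := fun e => h.1 (congrArg Subtype.val e)
      have h2 : (⟨g, hg⟩ : Subgroup.center C) ≠ ⟨zc, hzcent⟩ := fun e => h.2 (congrArg Subtype.val e)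
      have h3 : (⟨zc, hzcent⟩ : Subgroup.center C) ≠ ⟨1, one_mem _⟩ :=
        fun e => hzne (congrArg Subtype.val e)
      rcases hall ⟨g, hg⟩ with e1 | e1 <;> rcases hall ⟨zc, hzcent⟩ with e2 | e2 <;>
        rcases hall ⟨1, one_mem _⟩ with e3 | e3 <;> simp_all
    · rintro (rfl | rfl)
      · exact one_mem _
      · exact hzcent
  let f : C →* alternatingGroup (Fin n) := e.toMonoidHom.comp (QuotientGroup.mk' _)
  have hfker : ∀ g : C, f g = 1 ↔ g ∈ Subgroup.center C := fun g => by
    simp [f]
  have Cv : AltDoubleCoverInvol.Cov f zc :=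
    ⟨e.surjective.comp (QuotientGroup.mk'_surjective _), fun g => (Subgroup.mem_center_iff.1 hzcent g),
      hzne, hsq, fun g hg => (hZ g).1 ((hfker g).1 hg), (hfker zc).2 hzcent⟩
  have H : AltDoubleCover.IsDoubleCover f zc :=
    AltDoubleCoverInvol.perfect_of_mem Cv hn
      (AltDoubleCoverInvol.mem_commutator_of_nonsplit Cv (by omega) hZ hns)
  have hmem : ∀ {a : G}, Commute a z → a ∈ C := fun h => Subgroup.mem_centralizer_singleton_iff.2 h.eq
  let p : G → Perm (Fin n) := fun a => if h : a ∈ C then (f ⟨a, h⟩ : Perm (Fin n)) else 1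
  have hp : ∀ {a : G} (h : a ∈ C), p a = (f ⟨a, h⟩ : Perm (Fin n)) := fun h => dif_pos h
  refine ⟨⟨z, hz, p, ?_, ?_, ?_, ?_, ?_, hn, ?_, ?_⟩, rfl⟩
  · intro a b ha hb
    rw [hp (hmem ha), hp (hmem hb), hp (hmem (ha.mul_left hb))]
    rw [← Subgroup.coe_mul, ← map_mul]
    rfl
  · intro a ha
    rw [hp (hmem ha)]
    exact mem_alternatingGroup.1 (f _).2
  · intro σ hσ
    obtain ⟨a, ha⟩ := Cv.surj ⟨σ, mem_alternatingGroup.2 hσ⟩
    exact ⟨a, Subgroup.mem_centralizer_singleton_iff.1 a.2, by rw [hp a.2, Subtype.coe_eta, ha]⟩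
  · intro a ha h1
    rw [hp (hmem ha)] at h1
    rcases Cv.ker _ (Subtype.ext h1) with h | h
    · exact Or.inl (congrArg Subtype.val h)
    · exact Or.inr (congrArg Subtype.val h)
  · rw [hp hzC]
    exact congrArg Subtype.val Cv.map_z
  · intro a ha ht
    rw [hp (hmem ha)] at ht
    exact congrArg Subtype.val (AltDoubleCoverInvol.sq_lift_eq H hn ht)
  · intro a b i j k l ha hb hpa h1 h2 h3 h4
    rw [hp (hmem ha)] at hpa
    exact congrArg Subtype.val (AltDoubleCover.commute_of_fix H hpa (hp (hmem hb)).symm h1 h2 h3 h4)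

namespace Setup

variable {G : Type*} [Group G] {n : ℕ} (S : Setup G n)

theorem z_ne : S.z ≠ 1 := fun h => by
  have := S.hz
  rw [h, orderOf_one] at this
  omega

theorem z_sq : S.z * S.z = 1 := by
  have h := pow_orderOf_eq_one S.z
  rwa [S.hz, sq] at h

theorem z_inv : S.z⁻¹ = S.z := inv_eq_of_mul_eq_one_right S.z_sq

theorem p_one : S.p 1 = 1 := by
  have h := S.p_mul (Commute.one_left S.z) (Commute.one_left S.z)
  rwa [mul_one, left_eq_mul] at h

theorem p_inv {a : G} (ha : Commute a S.z) : S.p a⁻¹ = (S.p a)⁻¹ := by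
  refine eq_inv_of_mul_eq_one_left ?_
  rw [← S.p_mul ha.inv_left ha, inv_mul_cancel, p_one]

theorem p_conj {a b : G} (ha : Commute a S.z) (hb : Commute b S.z) :
    S.p (a * b * a⁻¹) = S.p a * S.p b * (S.p a)⁻¹ := by
  rw [S.p_mul (ha.mul_left hb) ha.inv_left, S.p_mul ha hb, S.p_inv ha]

theorem comm_conj {a b : G} (ha : Commute a S.z) (hb : Commute b S.z) : Commute (a * b * a⁻¹) S.z :=
  (ha.mul_left hb).mul_left ha.inv_left

theorem p_pow {a : G} (ha : Commute a S.z) : ∀ m : ℕ, S.p (a ^ m) = S.p a ^ m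
  | 0 => by rw [pow_zero, pow_zero, p_one]
  | m + 1 => by rw [pow_succ, pow_succ, S.p_mul (ha.pow_left m) ha, p_pow ha m]

theorem eq_or {a b : G} (ha : Commute a S.z) (hb : Commute b S.z) (h : S.p a = S.p b) :
    a = b ∨ a = b * S.z := by
  rcases S.p_ker (hb.inv_left.mul_left ha) (by rw [S.p_mul hb.inv_left ha, S.p_inv hb, h, inv_mul_cancel])
    with h1 | h1
  · exact Or.inl (inv_mul_eq_one.1 h1).symm
  · exact Or.inr (by rw [← h1, mul_inv_cancel_left])

theorem mul_z_sq {a : G} (ha : Commute a S.z) : a * S.z * (a * S.z) = a * a := by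
  rw [mul_assoc, ← mul_assoc S.z, ← ha.eq, mul_assoc a S.z S.z, S.z_sq, mul_one]

theorem sq_eq_of_p_eq {a b : G} (ha : Commute a S.z) (hb : Commute b S.z) (h : S.p a = S.p b) :
    a * a = b * b := by
  rcases S.eq_or ha hb h with rfl | rfl
  · rfl
  · exact S.mul_z_sq hb

/-- Lifts whose images commute commute if one of them has odd order. -/
theorem commute_of_odd {a b : G} (ha : Commute a S.z) (hb : Commute b S.z) {m : ℕ} (hm : Odd m)
    (ham : a ^ m = 1) (h : S.p a * S.p b = S.p b * S.p a) : Commute a b := by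
  have e : S.p (b * a * b⁻¹) = S.p a := by
    rw [S.p_conj hb ha, ← h, mul_inv_cancel_right]
  rcases S.eq_or (S.comm_conj hb ha) ha e with h1 | h1
  · rw [mul_inv_eq_iff_eq_mul] at h1
    exact h1.symm
  · exfalso
    have h2 : (b * a * b⁻¹) ^ m = 1 := by rw [conj_pow, ham, mul_one, mul_inv_cancel]
    obtain ⟨k, rfl⟩ := hm
    rw [h1, ha.mul_pow, ham, one_mul, pow_succ, pow_mul, sq, S.z_sq, one_pow, one_mul] at h2
    exact S.z_ne h2

/-- A permutation of odd exponent has a lift with the same exponent. -/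
theorem lift_odd {σ : Perm (Fin n)} {m : ℕ} (hm : Odd m) (hσ : σ ^ m = 1) :
    ∃ a, Commute a S.z ∧ S.p a = σ ∧ a ^ m = 1 := by
  have hs : sign σ = 1 := by
    have h := congrArg sign hσ
    rw [map_pow, map_one] at h
    obtain ⟨k, rfl⟩ := hm
    rwa [pow_succ, pow_mul, Int.units_sq, one_pow, one_mul] at h
  obtain ⟨a, ha, rfl⟩ := S.lift σ hs
  rcases S.p_ker (ha.pow_left m) (by rw [S.p_pow ha, hσ]) with h | h
  · exact ⟨a, ha, rfl, h⟩
  · refine ⟨a * S.z, ha.mul_left (Commute.refl _), by rw [S.p_mul ha (Commute.refl _), S.p_z, mul_one], ?_⟩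
    obtain ⟨k, rfl⟩ := hm
    rw [ha.mul_pow, h, pow_succ S.z, pow_mul, sq, S.z_sq, one_pow, one_mul, S.z_sq]

/-- Odd lifts are unique. -/
theorem odd_lift_unique {a b : G} (ha : Commute a S.z) (hb : Commute b S.z) {m : ℕ} (hm : Odd m)
    (ham : a ^ m = 1) (hbm : b ^ m = 1) (h : S.p a = S.p b) : a = b := by
  rcases S.eq_or ha hb h with h1 | h1
  · exact h1
  · exfalso
    obtain ⟨k, rfl⟩ := hm
    rw [h1, hb.mul_pow, hbm, one_mul, pow_succ, pow_mul, sq, S.z_sq, one_pow, one_mul] at ham
    exact S.z_ne ham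

/-- An element of odd exponent with trivial image is trivial. -/
theorem eq_one_of_odd {a : G} (ha : Commute a S.z) {m : ℕ} (hm : Odd m) (ham : a ^ m = 1)
    (h : S.p a = 1) : a = 1 :=
  S.odd_lift_unique ha (Commute.one_left _) hm ham (one_pow m) (by rw [h, S.p_one])

end Setup

theorem apply_apply_of_invol {α : Type*} {σ : Perm α} (h : σ * σ = 1) (i : α) : σ (σ i) = i := by
  rw [← Perm.mul_apply, h, Perm.one_apply]

/-- The cycle type of an involutive permutation. -/
theorem cycleType_invol {α : Type*} [Fintype α] [DecidableEq α] {σ : Perm α} (h : σ * σ = 1) :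
    σ.cycleType = Multiset.replicate (Multiset.card σ.cycleType) 2 ∧
      σ.support.card = 2 * Multiset.card σ.cycleType := by
  have hall : ∀ k ∈ σ.cycleType, k = 2 := fun k hk => by
    have h2 : 2 ≤ k := two_le_of_mem_cycleType hk
    have h3 : k ∣ 2 := (dvd_of_mem_cycleType hk).trans (orderOf_dvd_of_pow_eq_one (by rw [sq, h]))
    have := Nat.le_of_dvd (by norm_num) h3
    omega
  have hrep : σ.cycleType = Multiset.replicate (Multiset.card σ.cycleType) 2 :=
    Multiset.eq_replicate.2 ⟨rfl, hall⟩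
  refine ⟨hrep, ?_⟩
  rw [← sum_cycleType]
  conv_lhs => rw [hrep]
  rw [Multiset.sum_replicate, smul_eq_mul, mul_comm]

/-- An even involutive permutation moves a multiple of four points. -/
theorem support_invol_even {α : Type*} [Fintype α] [DecidableEq α] {σ : Perm α} (h : σ * σ = 1)
    (hs : sign σ = 1) : ∃ m, σ.support.card = 4 * m := by
  obtain ⟨h1, h2⟩ := cycleType_invol h
  rw [sign_of_cycleType, sum_cycleType, h2] at hs
  have : Even (Multiset.card σ.cycleType) := by
    by_contra hc
    rw [Nat.not_even_iff_odd] at hc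
    have : Odd (2 * Multiset.card σ.cycleType + Multiset.card σ.cycleType) := (even_two_mul _).add_odd hc
    rw [this.neg_one_pow] at hs
    exact absurd hs (by decide)
  obtain ⟨m, hm⟩ := this
  exact ⟨m, by omega⟩

/-- Involutive permutations moving equally many points are conjugate under even permutations. -/
theorem exists_even_conj {α : Type*} [Fintype α] [DecidableEq α] {σ τ : Perm α} (hσ : σ * σ = 1)
    (hτ : τ * τ = 1) (hne : σ ≠ 1) (h : σ.support.card = τ.support.card) :
    ∃ π : Perm α, sign π = 1 ∧ π * σ * π⁻¹ = τ := by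
  obtain ⟨a1, a2⟩ := cycleType_invol hσ
  obtain ⟨b1, b2⟩ := cycleType_invol hτ
  have : σ.cycleType = τ.cycleType := by
    rw [a1, b1, show Multiset.card σ.cycleType = Multiset.card τ.cycleType by omega]
  obtain ⟨π, hπ⟩ := isConj_iff.1 (isConj_iff_cycleType_eq.2 this)
  rcases Int.units_eq_one_or (sign π) with hs | hs
  · exact ⟨π, hs, hπ⟩
  · obtain ⟨i, hi⟩ : ∃ i, σ i ≠ i := by
      by_contra hc
      push Not at hc
      exact hne (Equiv.ext hc)
    have hc : swap i (σ i) * σ * (swap i (σ i))⁻¹ = σ := by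
      refine Equiv.ext fun x => ?_
      have hii : σ (σ i) = i := apply_apply_of_invol hσ i
      rw [swap_inv, Perm.mul_apply, Perm.mul_apply]
      by_cases h1 : x = i
      · subst h1; rw [swap_apply_left, hii, swap_apply_left]
      by_cases h2 : x = σ i
      · subst h2; rw [swap_apply_right, swap_apply_right, hii]
      rw [swap_apply_of_ne_of_ne h1 h2]
      refine swap_apply_of_ne_of_ne (fun e => h2 ?_) (fun e => h1 (σ.injective e))
      rw [← e, apply_apply_of_invol hσ]
    refine ⟨π * swap i (σ i), by rw [map_mul, hs, sign_swap (Ne.symm hi)]; rfl, ?_⟩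
    rw [mul_inv_rev, show π * swap i (σ i) * σ * ((swap i (σ i))⁻¹ * π⁻¹) =
      π * (swap i (σ i) * σ * (swap i (σ i))⁻¹) * π⁻¹ by group, hc, hπ]

end CfsgLib.AltInvolCent
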