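import Cfsg.Agent.AltInvolCent.Inverted
import Cfsg.Agent.AltInvolCent.RootCount

/-!
# At most eighty-one inverted elements

An abelian three-group of permutations of at most ten points inverted by a product of four
transpositions has order at most nine. Hence at most eighty-one elements of three-power order in
`C(X)` are inverted by `z` if some involution of `C(z)` inverts `X`.
-/

set_option autoImplicit false
set_option linter.unusedSectionVars false

namespace CfsgLib.AltInvolCent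

open Equiv Equiv.Perm

theorem card_inverted_le {n : ℕ} (hn : n ≤ 10) (A : Subgroup (Perm (Fin n)))
    (hcomm : ∀ a ∈ A, ∀ b ∈ A, a * b = b * a) (hA : IsPGroup 3 A) {s : Perm (Fin n)} (hs : s * s = 1)
    (hc : s.support.card = 8) (hinv : ∀ a ∈ A, s * a * s⁻¹ = a⁻¹) : Nat.card A ≤ 9 := by
  classical
  have : Fact (Nat.Prime 3) := ⟨Nat.prime_three⟩
  obtain ⟨e, he⟩ := IsPGroup.iff_card.1 hA
  by_contra hgt
  rw [not_le, he] at hgt
  have he3 : 3 ≤ e := by
    by_contra h
    have : 3 ^ e ≤ 3 ^ 2 := Nat.pow_le_pow_right (by norm_num) (by omega)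
    omega
  let Orb : Fin n → Finset (Fin n) := fun i => Finset.univ.filter fun j => ∃ a ∈ A, a i = j
  let St : Fin n → Subgroup (Perm (Fin n)) := fun i =>
    { carrier := {a | a ∈ A ∧ a i = i}
      one_mem' := ⟨one_mem A, rfl⟩
      mul_mem' := fun {a b} ha hb => ⟨mul_mem ha.1 hb.1, by rw [Perm.mul_apply, hb.2, ha.2]⟩
      inv_mem' := fun {a} ha => ⟨inv_mem ha.1, by rw [Perm.inv_eq_iff_eq, ha.2]⟩ }
  have orbEq : ∀ {i j}, j ∈ Orb i → St j = St i := by
    intro i j hj
    obtain ⟨a, ha, rfl⟩ := (Finset.mem_filter.1 hj).2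
    ext b
    show b ∈ A ∧ b (a i) = a i ↔ b ∈ A ∧ b i = i
    refine and_congr_right fun hb => ?_
    rw [← Perm.mul_apply, hcomm b hb a ha, Perm.mul_apply, a.injective.eq_iff]
  have hprod : ∀ i, (Orb i).card * Nat.card (St i) = 3 ^ e := by
    intro i
    have key : ∀ j ∈ Orb i, (Finset.univ.filter fun a : Perm (Fin n) => a ∈ A ∧ a i = j).card = Nat.card (St i) := by
      intro j hj
      obtain ⟨b, hb, rfl⟩ := (Finset.mem_filter.1 hj).2
      rw [Nat.card_eq_fintype_card, Fintype.card_subtype]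
      refine Finset.card_nbij' (fun a => b⁻¹ * a) (fun a => b * a) ?_ ?_ ?_ ?_
      · intro a ha
        simp only [Finset.coe_filter, Finset.mem_univ, true_and, Set.mem_ofPred_eq] at ha ⊢
        exact ⟨mul_mem (inv_mem hb) ha.1, by rw [Perm.mul_apply, ha.2]; simp⟩
      · intro a ha
        simp only [Finset.coe_filter, Finset.mem_univ, true_and, Set.mem_ofPred_eq] at ha ⊢
        exact ⟨mul_mem hb ha.1, by rw [Perm.mul_apply, ha.2]⟩
      · intro a _; simp
      · intro a _; simp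
    rw [← he, Nat.card_eq_fintype_card (α := A), Fintype.card_subtype,
      Finset.card_eq_sum_card_fiberwise (f := fun a : Perm (Fin n) => a i) (t := Orb i) ?_,
      ← smul_eq_mul, ← Finset.sum_const]
    · refine Finset.sum_congr rfl fun j hj => ?_
      rw [← key j hj, Finset.filter_filter]
    · intro a ha
      simp only [Finset.coe_filter, Finset.mem_univ, true_and, Set.mem_ofPred_eq] at ha
      exact Finset.mem_filter.2 ⟨Finset.mem_univ _, a, ha, rfl⟩
  have hsz : ∀ i, (Orb i).card = 1 ∨ (Orb i).card = 3 ∨ (Orb i).card = 9 := by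
    intro i
    obtain ⟨j, -, hj⟩ := (Nat.dvd_prime_pow Nat.prime_three).1 ⟨_, (hprod i).symm⟩
    have h1 := Finset.card_le_univ (Orb i)
    rw [Fintype.card_fin] at h1
    have hj3 : j < 3 := by
      by_contra h
      have : 3 ^ 3 ≤ 3 ^ j := Nat.pow_le_pow_right (by norm_num) (by omega)
      omega
    interval_cases j <;> simp [hj]
  have self : ∀ i, i ∈ Orb i := fun i => Finset.mem_filter.2 ⟨Finset.mem_univ _, 1, one_mem A, rfl⟩
  have no9 : ∀ i, (Orb i).card ≠ 9 := by
    intro i hi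
    have hp := hprod i
    rw [hi] at hp
    have hSt : Nat.card (St i) = 1 := by
      rw [Subgroup.card_eq_one, Subgroup.eq_bot_iff_forall]
      rintro a ⟨ha, hai⟩
      have hfix : ∀ j ∈ Orb i, a j = j := fun j hj =>
        ((orbEq hj).symm ▸ (show a ∈ St i from ⟨ha, hai⟩) : a ∈ St j).2
      refine Equiv.ext fun j => ?_
      by_cases hj : j ∈ Orb i
      · exact hfix j hj
      · have hout : a j ∉ Orb i := fun h => by
          have := hfix _ h
          rw [a.injective this] at h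
          exact hj h
        have hle : ((Orb i)ᶜ).card ≤ 1 := by rw [Finset.card_compl, hi, Fintype.card_fin]; omega
        exact Finset.card_le_one.1 hle _ (Finset.mem_compl.2 hout) _ (Finset.mem_compl.2 hj)
    rw [hSt] at hp
    omega
  -- orbits of length three
  have fix3 : ∀ {i}, ∀ a ∈ A, a i ≠ i → (Orb i).card = 3 ∧ 9 ≤ Nat.card (St i) := by
    intro i a ha hai
    have h3 : (Orb i).card = 3 := by
      rcases hsz i with h | h | h
      · exact absurd (Finset.card_le_one.1 h.le _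
          (Finset.mem_filter.2 ⟨Finset.mem_univ _, a, ha, rfl⟩) _ (self i)) hai
      · exact h
      · exact absurd h (no9 i)
    have hp := hprod i
    have : 3 ^ 3 ≤ 3 ^ e := Nat.pow_le_pow_right (by norm_num) he3
    rw [h3] at hp
    exact ⟨h3, by omega⟩
  obtain ⟨a, ha, ha1⟩ : ∃ a ∈ A, a ≠ 1 := by
    by_contra h
    push Not at h
    rw [show A = ⊥ from (Subgroup.eq_bot_iff_forall A).2 h, Subgroup.card_bot] at he
    omega
  obtain ⟨i₁, hi₁⟩ : ∃ i, a i ≠ i := by
    by_contra h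
    push Not at h
    exact ha1 (Equiv.ext h)
  obtain ⟨o₁, c₁⟩ := fix3 a ha hi₁
  obtain ⟨b, hb, hb1⟩ : ∃ b ∈ St i₁, b ≠ 1 := by
    by_contra h
    push Not at h
    rw [show St i₁ = ⊥ from (Subgroup.eq_bot_iff_forall _).2 h, Subgroup.card_bot] at c₁
    omega
  obtain ⟨i₂, hi₂⟩ : ∃ i, b i ≠ i := by
    by_contra h
    push Not at h
    exact hb1 (Equiv.ext h)
  obtain ⟨o₂, -⟩ := fix3 b hb.1 hi₂
  have n12 : St i₂ ≠ St i₁ := fun h => hi₂ (show b ∈ St i₂ from h.symm ▸ hb).2
  obtain ⟨c, hc1, hc2, hc3⟩ : ∃ c, c ∈ St i₁ ∧ c ∈ St i₂ ∧ c ≠ 1 := by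
    set F : Finset (Perm (Fin n)) := Finset.univ.filter fun g => g ∈ St i₁ with hF
    have hFc : 9 ≤ F.card := by
      rw [Nat.card_eq_fintype_card, Fintype.card_subtype] at c₁
      exact c₁
    obtain ⟨g, hg, g', hg', hne, heq⟩ := Finset.exists_ne_map_eq_of_card_lt_of_maps_to
      (f := fun g : Perm (Fin n) => g i₂) (t := Orb i₂) (s := F) (by omega)
      (fun g hg => Finset.mem_filter.2 ⟨Finset.mem_univ _, g, (Finset.mem_filter.1 hg).2.1, rfl⟩)
    have h1 := (Finset.mem_filter.1 hg).2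
    have h2 := (Finset.mem_filter.1 hg').2
    refine ⟨g⁻¹ * g', mul_mem (inv_mem h1) h2, ⟨mul_mem (inv_mem h1.1) h2.1, ?_⟩,
      fun h => hne (inv_mul_eq_one.1 h)⟩
    simp only [Perm.mul_apply, Perm.inv_eq_iff_eq]
    exact heq.symm
  obtain ⟨i₃, hi₃⟩ : ∃ i, c i ≠ i := by
    by_contra h
    push Not at h
    exact hc3 (Equiv.ext h)
  obtain ⟨o₃, -⟩ := fix3 c hc1.1 hi₃
  have n13 : St i₃ ≠ St i₁ := fun h => hi₃ (show c ∈ St i₃ from h.symm ▸ hc1).2
  have n23 : St i₃ ≠ St i₂ := fun h => hi₃ (show c ∈ St i₃ from h.symm ▸ hc2).2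
  have hdisj : ∀ {p q}, St p ≠ St q → Disjoint (Orb p) (Orb q) := fun {p q} h =>
    Finset.disjoint_left.2 fun j h1 h2 => h ((orbEq h1).symm.trans (orbEq h2))
  have hsdisj : ∀ {p q}, q ∉ Orb p → Disjoint (Orb p) (Orb q) := fun {p q} h =>
    Finset.disjoint_left.2 fun j h1 h2 => h <| by
      obtain ⟨u, hu, rfl⟩ := (Finset.mem_filter.1 h1).2
      obtain ⟨v, hv, hv'⟩ := (Finset.mem_filter.1 h2).2
      exact Finset.mem_filter.2 ⟨Finset.mem_univ _, v⁻¹ * u, mul_mem (inv_mem hv) hu,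
        by rw [Perm.mul_apply, ← hv']; simp⟩
  have inv := apply_apply_of_invol hs
  have comA : ∀ {u}, u ∈ A → ∀ j, s (u j) = u⁻¹ (s j) := fun {u} hu j => by
    rw [← hinv u hu, Perm.mul_apply, Perm.mul_apply]
    simp
  have stS : ∀ p, St (s p) = St p := by
    intro p
    ext u
    show u ∈ A ∧ u (s p) = s p ↔ u ∈ A ∧ u p = p
    refine and_congr_right fun hu => ?_
    constructor
    · intro h
      refine s.injective ?_
      rw [comA hu, Perm.inv_eq_iff_eq, h]
    · intro h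
      have := congrArg s h
      rw [comA hu, Perm.inv_eq_iff_eq] at this
      exact this.symm
  have fixpt : ∀ {p q r}, (Orb p).card = 3 → (Orb q).card = 3 → (Orb r).card = 3 → St p ≠ St q → St p ≠ St r →
      St q ≠ St r → ∃ j ∈ Orb p, s j = j := by
    intro p q r hp hq hr npq npr nqr
    have hsp : s p ∈ Orb p := by
      by_contra hout
      have hst := stS p
      have hp' : (Orb (s p)).card = 3 := by
        rcases hsz (s p) with h | h | h
        · exfalso
          have hpp := hprod (s p)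
          rw [h, one_mul, hst] at hpp
          have := hprod p
          rw [hp, hpp] at this
          have : 0 < 3 ^ e := pow_pos (by norm_num) e
          omega
        · exact h
        · exact absurd h (no9 _)
      have h1 : (Orb p ∪ Orb q ∪ Orb r ∪ Orb (s p)).card = 12 := by
        rw [Finset.card_union_of_disjoint, Finset.card_union_of_disjoint, Finset.card_union_of_disjoint, hp, hq,
          hr, hp']
        · exact hdisj npq
        · rw [Finset.disjoint_union_left]; exact ⟨hdisj npr, hdisj nqr⟩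
        · rw [Finset.disjoint_union_left, Finset.disjoint_union_left]
          exact ⟨⟨hsdisj hout, hdisj (hst.symm ▸ npq.symm)⟩, hdisj (hst.symm ▸ npr.symm)⟩
      have h2 := Finset.card_le_univ (Orb p ∪ Orb q ∪ Orb r ∪ Orb (s p))
      rw [h1, Fintype.card_fin] at h2
      omega
    have hmaps : ∀ j ∈ Orb p, s j ∈ Orb p := by
      intro j hj
      obtain ⟨u, hu, rfl⟩ := (Finset.mem_filter.1 hj).2
      obtain ⟨v, hv, hv'⟩ := (Finset.mem_filter.1 hsp).2
      exact Finset.mem_filter.2 ⟨Finset.mem_univ _, u⁻¹ * v, mul_mem (inv_mem hu) hv,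
        by rw [Perm.mul_apply, hv', comA hu]⟩
    obtain ⟨x, y, w, hxy, hxw, hyw, he'⟩ := Finset.card_eq_three.1 hp
    have mx := hmaps x (by simp [he'])
    have my := hmaps y (by simp [he'])
    have mw := hmaps w (by simp [he'])
    simp only [he', Finset.mem_insert, Finset.mem_singleton] at mx my mw
    by_contra hno
    push Not at hno
    have fx := hno x (by simp [he'])
    have fy := hno y (by simp [he'])
    have fw := hno w (by simp [he'])
    have sym : ∀ {i j}, s i = j → s j = i := fun {i j} h => by rw [← h, inv]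
    rcases mx with h | h | h
    · exact fx h
    · rcases mw with h' | h' | h'
      · exact hyw (h.symm.trans (sym h'))
      · exact hxw ((sym h).symm.trans (sym h'))
      · exact fw h'
    · rcases my with h' | h' | h'
      · exact hyw.symm (h.symm.trans (sym h'))
      · exact fy h'
      · exact hxy ((sym h).symm.trans (sym h'))
  obtain ⟨p₁, hp₁, f₁⟩ := fixpt o₁ o₂ o₃ n12.symm n13.symm n23.symm
  obtain ⟨p₂, hp₂, f₂⟩ := fixpt o₂ o₁ o₃ n12 n23.symm n13.symm
  obtain ⟨p₃, hp₃, f₃⟩ := fixpt o₃ o₁ o₂ n13 n23 n12.symm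
  have hsub : ({p₁, p₂, p₃} : Finset (Fin n)) ⊆ s.supportᶜ := by
    intro j hj
    simp only [Finset.mem_insert, Finset.mem_singleton] at hj
    rw [Finset.mem_compl, mem_support, not_not]
    rcases hj with rfl | rfl | rfl <;> assumption
  have h12 : p₁ ≠ p₂ := fun h => Finset.disjoint_left.1 (hdisj n12.symm) hp₁ (h ▸ hp₂)
  have h13 : p₁ ≠ p₃ := fun h => Finset.disjoint_left.1 (hdisj n13.symm) hp₁ (h ▸ hp₃)
  have h23 : p₂ ≠ p₃ := fun h => Finset.disjoint_left.1 (hdisj n23.symm) hp₂ (h ▸ hp₃)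
  have h5 := Finset.card_le_card hsub
  rw [Finset.card_insert_of_notMem (by simp [h12, h13]), Finset.card_pair h23, Finset.card_compl, hc,
    Fintype.card_fin] at h5
  omega

namespace Setup

variable {G : Type*} [Group G] {n : ℕ} (S : Setup G n)

/-- A commuting set of elements of three-power order in `C(g z g⁻¹)` inverted by `z`. -/
theorem card_inv3_fixed_le [Finite G] (hn : n ≤ 10) {X τ g : G} (hX : S.Cyc X) (hτz : Commute τ S.z)
    (hne : τ ≠ S.z) (hτX : τ * X * τ⁻¹ = X⁻¹) (hg : g * S.z * g⁻¹ = τ) :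
    {w ∈ S.inv3 X | Commute w τ}.ncard ≤ 9 := by
  classical
  set F := {w ∈ S.inv3 X | Commute w τ} with hF
  have hcF : ∀ v ∈ F, ∀ w ∈ F, Commute v w := by
    intro v hv w hw
    obtain ⟨i, hi⟩ := hX.exists_swap hv.1 hw.1
    have h1 : Commute (X ^ i) τ := by
      have hc : Commute ((v * w)⁻¹ * (w * v)) τ := (hv.2.mul_left hw.2).inv_left.mul_left (hw.2.mul_left hv.2)
      rwa [hi, inv_mul_cancel_left] at hc
    have h2 : X ^ i * X ^ i = 1 := by
      have : (τ * X * τ⁻¹) ^ i = X ^ i := by rw [conj_pow, ← h1.eq, mul_inv_cancel_right]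
      rw [hτX, inv_pow] at this
      nth_rewrite 1 [← this]
      exact inv_mul_cancel _
    have h3 : X ^ i = 1 := by
      have : X ^ i * X ^ i * X ^ i = 1 := by
        rw [← pow_add, ← pow_add, show i + i + i = 3 * i by omega, pow_mul, hX.cube, one_pow]
      rwa [h2, one_mul] at this
    rw [h3, mul_one] at hi
    exact hi.symm
  set s := g⁻¹ * S.z * g⁻¹⁻¹ with hsdef
  have hcs : ∀ {w}, Commute w τ → Commute (g⁻¹ * w * g⁻¹⁻¹) S.z := fun {w} h => by
    have := (Commute.conj_iff g⁻¹).2 h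
    rwa [show g⁻¹ * τ * g⁻¹⁻¹ = S.z by rw [← hg]; group] at this
  have hsz : Commute s S.z := hcs hτz.symm
  have hs2 : s * s = 1 := by
    rw [hsdef, show g⁻¹ * S.z * g⁻¹⁻¹ * (g⁻¹ * S.z * g⁻¹⁻¹) = g⁻¹ * (S.z * S.z) * g by group, S.z_sq]
    group
  have hsne : s ≠ S.z := fun h => hne (by
    have h' : g⁻¹ * S.z * g⁻¹⁻¹ = S.z := h
    rw [← hg]
    conv_lhs => rw [← h']
    group)
  have hs1 : s ≠ 1 := fun h => S.z_ne (conj_eq_one_iff.1 h)
  obtain ⟨hps, m, hm0, ⟨k, rfl⟩, hcard⟩ := S.invol_support hsz hs2 hs1 hsne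
  have hmn := Finset.card_le_univ (S.p s).support
  rw [Fintype.card_fin, hcard] at hmn
  let f : G → Perm (Fin n) := fun w => S.p (g⁻¹ * w * g⁻¹⁻¹)
  have fmul : ∀ {v w}, v ∈ F → w ∈ F → f (v * w) = f v * f w := fun {v w} hv hw => by
    show S.p _ = S.p _ * S.p _
    rw [← S.p_mul (hcs hv.2) (hcs hw.2)]
    congr 1
    group
  have finv : ∀ {v}, v ∈ F → f v⁻¹ = (f v)⁻¹ := fun {v} hv => by
    show S.p _ = (S.p _)⁻¹
    rw [← S.p_inv (hcs hv.2)]
    congr 1
    group
  have one : (1 : G) ∈ F := ⟨S.one_mem_inv3 X, Commute.one_left _⟩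
  let A : Subgroup (Perm (Fin n)) :=
    { carrier := f '' F
      one_mem' := ⟨1, one, by show S.p _ = 1; rw [mul_one, mul_inv_cancel, S.p_one]⟩
      mul_mem' := by
        rintro _ _ ⟨v, hv, rfl⟩ ⟨w, hw, rfl⟩
        exact ⟨v * w, ⟨S.mul_mem_inv3 hv.1 hw.1 (hcF v hv w hw), hv.2.mul_left hw.2⟩, fmul hv hw⟩
      inv_mem' := by
        rintro _ ⟨v, hv, rfl⟩
        exact ⟨v⁻¹, ⟨S.inv_mem_inv3 hv.1, hv.2.inv_left⟩, finv hv⟩ }
  have hinj : Set.InjOn f F := by
    intro v hv w hw e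
    obtain ⟨a, ha⟩ := hv.1.2.2
    obtain ⟨b, hb⟩ := hw.1.2.2
    have := S.odd_lift_unique (hcs hv.2) (hcs hw.2) (m := 3 ^ max a b) (Odd.pow (by decide))
      (by rw [conj_pow, pow_three_pow (le_max_left a b) ha, mul_one, mul_inv_cancel])
      (by rw [conj_pow, pow_three_pow (le_max_right a b) hb, mul_one, mul_inv_cancel]) e
    exact mul_left_cancel (mul_right_cancel this)
  have hle := card_inverted_le hn A (by
      rintro _ ⟨v, hv, rfl⟩ _ ⟨w, hw, rfl⟩
      rw [← fmul hv hw, ← fmul hw hv, (hcF v hv w hw).eq]) (by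
      rintro ⟨_, v, hv, rfl⟩
      obtain ⟨a, ha⟩ := hv.1.2.2
      refine ⟨a, Subtype.ext ?_⟩
      show (S.p _) ^ 3 ^ a = 1
      rw [← S.p_pow (hcs hv.2), conj_pow, ha, mul_one, mul_inv_cancel, S.p_one]) hps (by omega) (by
      rintro _ ⟨v, hv, rfl⟩
      rw [← finv hv]
      show S.p s * S.p _ * (S.p s)⁻¹ = S.p _
      rw [← S.p_conj hsz (hcs hv.2)]
      congr 1
      rw [hsdef, show g⁻¹ * S.z * g⁻¹⁻¹ * (g⁻¹ * v * g⁻¹⁻¹) * (g⁻¹ * S.z * g⁻¹⁻¹)⁻¹ =
        g⁻¹ * (S.z * v * S.z⁻¹) * g⁻¹⁻¹ by group, S.z_inv, hv.1.2.1])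
  rwa [show Nat.card A = F.ncard from (Nat.card_coe_set_eq (f '' F)).trans (Set.InjOn.ncard_image hinj)] at hle

/-- Lifts of four transpositions are fused to `z`. -/
theorem exists_conj_eight [Finite G] [IsSimpleGroup G] {τ : G} (hτ : Commute τ S.z)
    (hp : S.p τ * S.p τ = 1) (hc : (S.p τ).support.card = 8) : ∃ g, g * S.z * g⁻¹ = τ := by
  obtain ⟨g, h, hne⟩ := S.exists_fused
  obtain ⟨c, hc', e⟩ := S.exists_conj_invol h hτ (S.fused_support h hne).1 hp (m := 2) (by norm_num)
    (S.fused_eight h hne).1 hc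
  exact ⟨c * g, by rw [← e]; group⟩

/-- At most eighty-one inverted elements. -/
theorem card_inv3_le [Finite G] [IsSimpleGroup G] (hn : n ≤ 10) {X τ : G} (hX : S.Cyc X)
    (hτz : Commute τ S.z) (hp : S.p τ * S.p τ = 1) (hc : (S.p τ).support.card = 8)
    (hτX : τ * X * τ⁻¹ = X⁻¹) : (S.inv3 X).ncard ≤ 81 := by
  have hττ : τ * τ = 1 := by
    rw [S.sq_invol 2 hτz hp hc, sq, S.z_sq]
  have hτ' : Commute (τ * S.z) S.z := hτz.mul_left (Commute.refl _)
  have hp' : S.p (τ * S.z) = S.p τ := by rw [S.p_mul hτz (Commute.refl _), S.p_z, mul_one]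
  have hne : τ ≠ S.z := fun h => by rw [h, S.p_z, support_one, Finset.card_empty] at hc; omega
  have hne' : τ * S.z ≠ S.z := fun h => by
    rw [mul_eq_right] at h
    rw [h, S.p_one, support_one, Finset.card_empty] at hc
    omega
  obtain ⟨g, hg⟩ := S.exists_conj_eight hτz hp hc
  obtain ⟨g', hg'⟩ := S.exists_conj_eight hτ' (by rw [hp', hp]) (by rw [hp', hc])
  have hX' : τ * S.z * X * (τ * S.z)⁻¹ = X⁻¹ := by
    rw [show τ * S.z * X * (τ * S.z)⁻¹ = τ * (S.z * X * S.z⁻¹) * τ⁻¹ by group, ← hX.comm.eq,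
      mul_inv_cancel_right, hτX]
  calc (S.inv3 X).ncard ≤ _ := hX.card_le_mul hτz hττ hτX
    _ ≤ 9 * 9 := Nat.mul_le_mul (S.card_inv3_fixed_le hn hX hτz hne hτX hg)
        (S.card_inv3_fixed_le hn hX hτ' hne' hX' hg')

end Setup

end CfsgLib.AltInvolCent
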