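import Cfsg.Agent.AltInvolCent.Setup

/-!
# Squares of lifts of involutions

A lift of a product of `2m` disjoint transpositions squares to `z ^ m`. Consequences: commutation
rules for lifts of commuting involutions, and conjugacy of lifts.
-/

set_option autoImplicit false
set_option linter.unusedSectionVars false

namespace CfsgLib.AltInvolCent

open Equiv Equiv.Perm

namespace Setup

variable {G : Type*} [Group G] {n : ℕ} (S : Setup G n)

theorem sq_invol : ∀ (m : ℕ) {a : G}, Commute a S.z → S.p a * S.p a = 1 →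
    (S.p a).support.card = 4 * m → a * a = S.z ^ m := by
  intro m
  induction m with
  | zero =>
    intro a ha _ hc
    rw [mul_zero, Finset.card_eq_zero, support_eq_empty_iff] at hc
    rcases S.p_ker ha hc with rfl | rfl
    · simp
    · simp [S.z_sq]
  | succ m ih =>
    intro a ha hs hc
    set σ := S.p a with hσ
    have inv := apply_apply_of_invol hs
    obtain ⟨i, hi⟩ : σ.support.Nonempty := Finset.card_pos.1 (by omega)
    obtain ⟨j, hj, hj'⟩ : ∃ j ∈ σ.support, j ∉ ({i, σ i} : Finset (Fin n)) := by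
      by_contra h
      push Not at h
      have := (Finset.card_le_card h).trans Finset.card_le_two
      omega
    rw [mem_support] at hi hj
    simp only [Finset.mem_insert, Finset.mem_singleton, not_or] at hj'
    have e1 : σ j ≠ i := fun e => hj'.2 (by rw [← e, inv])
    have e2 : σ j ≠ σ i := fun e => hj'.1 (σ.injective e)
    set d : Perm (Fin n) := swap i (σ i) * swap j (σ j) with hd
    have hnd : [i, σ i, j, σ j].Nodup := by
      simp [Ne.symm hi, Ne.symm hj'.1, Ne.symm e1, Ne.symm hj'.2, Ne.symm e2, Ne.symm hj]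
    have hdc : d.cycleType = {2, 2} := AltDoubleCoverInvol.cycleType_dt hnd
    have hds : sign d = 1 := mem_alternatingGroup.1 (AltDoubleCoverInvol.dt_mem hnd)
    obtain ⟨D, hD, hpD⟩ := S.lift d hds
    have hDD : D * D = S.z := S.sq_dt hD (hpD ▸ hdc)
    set b := D⁻¹ * a with hb
    have hb' : Commute b S.z := hD.inv_left.mul_left ha
    have hdd : d * d = 1 := (AltDoubleCover.four_points hnd).2.2.2
    have hpb : S.p b = d * σ := by
      rw [hb, S.p_mul hD.inv_left ha, S.p_inv hD, hpD, inv_eq_of_mul_eq_one_right hdd]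
    have fix4 : ∀ x, (x = i ∨ x = σ i ∨ x = j ∨ x = σ j) → S.p b x = x := by
      intro x hx
      rw [hpb, Perm.mul_apply, hd, Perm.mul_apply]
      rcases hx with rfl | rfl | rfl | rfl
      · rw [swap_apply_of_ne_of_ne (Ne.symm hj'.2) (Ne.symm e2), swap_apply_right]
      · rw [inv, swap_apply_of_ne_of_ne (Ne.symm hj'.1) (Ne.symm e1), swap_apply_left]
      · rw [swap_apply_right, swap_apply_of_ne_of_ne hj'.1 hj'.2]
      · rw [inv, swap_apply_left, swap_apply_of_ne_of_ne e1 e2]
    have other : ∀ x, ¬ (x = i ∨ x = σ i ∨ x = j ∨ x = σ j) → S.p b x = σ x := by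
      intro x hx
      simp only [not_or] at hx
      rw [hpb, Perm.mul_apply, hd, Perm.mul_apply,
        swap_apply_of_ne_of_ne (fun e => hx.2.2.2 (by rw [← e, inv])) (fun e => hx.2.2.1 (σ.injective e)),
        swap_apply_of_ne_of_ne (fun e => hx.2.1 (by rw [← e, inv])) (fun e => hx.1 (σ.injective e))]
    have hbs : S.p b * S.p b = 1 := by
      refine Equiv.ext fun x => ?_
      rw [Perm.mul_apply, Perm.one_apply]
      by_cases hx : x = i ∨ x = σ i ∨ x = j ∨ x = σ j
      · rw [fix4 x hx, fix4 x hx]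
      · rw [other x hx, other _ ?_, inv]
        simp only [not_or] at hx ⊢
        exact ⟨fun e => hx.2.1 (by rw [← e, inv]), fun e => hx.1 (σ.injective e),
          fun e => hx.2.2.2 (by rw [← e, inv]), fun e => hx.2.2.1 (σ.injective e)⟩
    have hsupp : (S.p b).support = σ.support \ {i, σ i, j, σ j} := by
      ext x
      simp only [mem_support, Finset.mem_sdiff, Finset.mem_insert, Finset.mem_singleton]
      by_cases hx : x = i ∨ x = σ i ∨ x = j ∨ x = σ j
      · simp [fix4 x hx, hx]
      · simp [other x hx, hx]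
    have hbm : b * b = S.z ^ m := by
      refine ih hb' hbs ?_
      rw [hsupp, Finset.card_sdiff_of_subset, hc, Finset.card_insert_of_notMem, Finset.card_insert_of_notMem,
        Finset.card_pair (Ne.symm hj)]
      · omega
      · simp [Ne.symm hj'.2, Ne.symm e2]
      · simp [Ne.symm hi, Ne.symm hj'.1, Ne.symm e1]
      · intro x hx
        simp only [Finset.mem_insert, Finset.mem_singleton] at hx
        rw [mem_support]
        rcases hx with rfl | rfl | rfl | rfl
        · exact hi
        · rw [inv]; exact Ne.symm hi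
        · exact hj
        · rw [inv]; exact Ne.symm hj
    have hcomm : Commute D b := S.comm_dt (i := i) (j := j) (k := σ i) (l := σ j) hD hb'
      (hpD.trans hd) (fix4 _ (Or.inl rfl)) (fix4 _ (Or.inr (Or.inr (Or.inl rfl))))
      (fix4 _ (Or.inr (Or.inl rfl))) (fix4 _ (Or.inr (Or.inr (Or.inr rfl))))
    have ea : a = D * b := by rw [hb, mul_inv_cancel_left]
    rw [ea, mul_assoc, ← mul_assoc b, ← hcomm.eq, mul_assoc D b b, ← mul_assoc, hDD, hbm, pow_succ']

theorem z_pow (m : ℕ) : S.z ^ m = if Even m then 1 else S.z := by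
  obtain ⟨k, rfl | rfl⟩ := Nat.even_or_odd' m
  · rw [pow_mul, sq, S.z_sq, one_pow, if_pos (even_two_mul k)]
  · rw [pow_succ, pow_mul, sq, S.z_sq, one_pow, one_mul, if_neg (Nat.not_even_bit1 k)]

/-- Commutation of lifts of commuting involutions. -/
theorem commute_iff {a b : G} (ha : Commute a S.z) (hb : Commute b S.z) (hpa : S.p a * S.p a = 1)
    (hpb : S.p b * S.p b = 1) (hab : S.p a * S.p b = S.p b * S.p a) {i j k : ℕ}
    (hi : (S.p a).support.card = 4 * i) (hj : (S.p b).support.card = 4 * j)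
    (hk : (S.p a * S.p b).support.card = 4 * k) :
    (Commute a b ↔ Even (i + j + k)) ∧ (¬ Even (i + j + k) → a * b = b * a * S.z) := by
  have e : S.p (a * b) = S.p (b * a) := by rw [S.p_mul ha hb, S.p_mul hb ha, hab]
  have h3 : a * b * (a * b) = S.z ^ k := by
    refine S.sq_invol k (ha.mul_left hb) ?_ ?_
    · rw [S.p_mul ha hb, mul_assoc, ← mul_assoc (S.p b), ← hab, mul_assoc (S.p a), hpb, mul_one, hpa]
    · rw [S.p_mul ha hb, hk]
  have h1 := S.sq_invol i ha hpa hi
  have h2 := S.sq_invol j hb hpb hj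
  have hz2 : ∀ m, S.z ^ m * S.z ^ m = 1 := fun m => by
    rw [← pow_add, ← two_mul, pow_mul, sq, S.z_sq, one_pow]
  rcases S.eq_or (ha.mul_left hb) (hb.mul_left ha) e with h | h
  · have h4 : S.z ^ k = S.z ^ (i + j) := by
      rw [← h3, pow_add, ← h1, ← h2]
      rw [show a * b * (a * b) = a * (b * a) * b by group, ← h]
      group
    have h5 : S.z ^ (i + j + k) = 1 := by rw [pow_add, ← h4, hz2]
    have h6 : Even (i + j + k) := by
      by_contra hc
      rw [S.z_pow, if_neg hc] at h5
      exact S.z_ne h5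
    exact ⟨⟨fun _ => h6, fun _ => h⟩, fun hc => absurd h6 hc⟩
  · have h4 : S.z ^ k = S.z ^ (i + j + 1) := by
      rw [← h3, pow_succ, pow_add, ← h1, ← h2]
      have hbz : b * a = a * b * S.z := by
        rw [h, mul_assoc _ S.z S.z, S.z_sq, mul_one]
      rw [show a * b * (a * b) = a * (b * a) * b by group, hbz, mul_assoc a (a * b * S.z) b,
        show a * b * S.z * b = a * b * b * S.z by rw [mul_assoc _ S.z b, ← hb.eq, ← mul_assoc]]
      group
    have h6 : ¬ Even (i + j + k) := by
      intro hc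
      have h5 : S.z ^ (i + j + 1 + k) = 1 := by rw [pow_add, ← h4, hz2]
      rw [S.z_pow, if_neg (by rw [show i + j + 1 + k = i + j + k + 1 by omega, Nat.even_add_one]; simpa using hc)]
        at h5
      exact S.z_ne h5
    refine ⟨⟨fun hc => ?_, fun hc => absurd hc h6⟩, fun _ => h⟩
    rw [← hc.eq, left_eq_mul] at h
    exact absurd h S.z_ne

/-- An involution of the centralizer other than `z` moves a multiple of eight points. -/
theorem invol_support {t : G} (ht : Commute t S.z) (ht2 : t * t = 1) (h1 : t ≠ 1) (hne : t ≠ S.z) :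
    S.p t * S.p t = 1 ∧ ∃ m, 0 < m ∧ Even m ∧ (S.p t).support.card = 4 * m := by
  have hs : S.p t * S.p t = 1 := by rw [← S.p_mul ht ht, ht2, S.p_one]
  obtain ⟨m, hm⟩ := support_invol_even hs (S.p_sign ht)
  have h2 := S.sq_invol m ht hs hm
  rw [ht2, S.z_pow] at h2
  have hev : Even m := by
    by_contra hc
    rw [if_neg hc] at h2
    exact S.z_ne h2.symm
  refine ⟨hs, m, Nat.pos_of_ne_zero fun h0 => ?_, hev, hm⟩
  rw [h0, mul_zero, Finset.card_eq_zero, support_eq_empty_iff] at hm
  rcases S.p_ker ht hm with h | h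
  · exact h1 h
  · exact hne h

/-- The two lifts of an involution moving at least four points are conjugate. -/
theorem exists_conj_z {t : G} (ht : Commute t S.z) (hs : S.p t * S.p t = 1) {m : ℕ} (hm : 0 < m)
    (hc : (S.p t).support.card = 4 * m) : ∃ y, Commute y S.z ∧ y * t * y⁻¹ = t * S.z := by
  set σ := S.p t with hσ
  have inv := apply_apply_of_invol hs
  obtain ⟨i, hi⟩ : σ.support.Nonempty := Finset.card_pos.1 (by omega)
  obtain ⟨j, hj, hj'⟩ : ∃ j ∈ σ.support, j ∉ ({i, σ i} : Finset (Fin n)) := by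
    by_contra h
    push Not at h
    have := (Finset.card_le_card h).trans Finset.card_le_two
    omega
  rw [mem_support] at hi hj
  simp only [Finset.mem_insert, Finset.mem_singleton, not_or] at hj'
  have e1 : σ j ≠ i := fun e => hj'.2 (by rw [← e, inv])
  have e2 : σ j ≠ σ i := fun e => hj'.1 (σ.injective e)
  set d : Perm (Fin n) := swap i j * swap (σ i) (σ j) with hd
  have hnd : [i, j, σ i, σ j].Nodup := by
    simp [Ne.symm hi, Ne.symm hj'.1, Ne.symm e1, hj'.2, Ne.symm e2, Ne.symm hj]
  have hdd : d * d = 1 := (AltDoubleCover.four_points hnd).2.2.2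
  obtain ⟨y, hy, hpy⟩ := S.lift d (mem_alternatingGroup.1 (AltDoubleCoverInvol.dt_mem hnd))
  have hy2 : (S.p y).support.card = 4 * 1 := by
    rw [hpy, ← sum_cycleType, AltDoubleCoverInvol.cycleType_dt hnd]
    rfl
  have di : d i = j := by rw [hd, Perm.mul_apply, swap_apply_of_ne_of_ne (Ne.symm hi) (Ne.symm e1), swap_apply_left]
  have dj : d j = i := by rw [hd, Perm.mul_apply, swap_apply_of_ne_of_ne hj'.2 (Ne.symm hj), swap_apply_right]
  have dsi : d (σ i) = σ j := by rw [hd, Perm.mul_apply, swap_apply_left, swap_apply_of_ne_of_ne e1 hj]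
  have dsj : d (σ j) = σ i := by
    rw [hd, Perm.mul_apply, swap_apply_right, swap_apply_of_ne_of_ne hi (Ne.symm hj'.2)]
  have dfix : ∀ x, ¬ (x = i ∨ x = j ∨ x = σ i ∨ x = σ j) → d x = x := by
    intro x hx
    simp only [not_or] at hx
    rw [hd, Perm.mul_apply, swap_apply_of_ne_of_ne hx.2.2.1 hx.2.2.2, swap_apply_of_ne_of_ne hx.1 hx.2.1]
  have hout : ∀ x, ¬ (x = i ∨ x = j ∨ x = σ i ∨ x = σ j) →
      ¬ (σ x = i ∨ σ x = j ∨ σ x = σ i ∨ σ x = σ j) := by
    intro x hx
    simp only [not_or] at hx ⊢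
    exact ⟨fun e => hx.2.2.1 (by rw [← e, inv]), fun e => hx.2.2.2 (by rw [← e, inv]),
      fun e => hx.1 (σ.injective e), fun e => hx.2.1 (σ.injective e)⟩
  have hcomm : d * σ = σ * d := by
    refine Equiv.ext fun x => ?_
    show d (σ x) = σ (d x)
    by_cases hx : x = i ∨ x = j ∨ x = σ i ∨ x = σ j
    · rcases hx with rfl | rfl | rfl | rfl
      · rw [dsi, di]
      · rw [dsj, dj]
      · rw [inv, di, dsi, inv]
      · rw [inv, dj, dsj, inv]
    · rw [dfix x hx, dfix _ (hout x hx)]
  have hsupp : (d * σ).support = σ.support := by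
    ext x
    rw [mem_support, mem_support]
    show d (σ x) ≠ x ↔ σ x ≠ x
    by_cases hx : x = i ∨ x = j ∨ x = σ i ∨ x = σ j
    · rcases hx with rfl | rfl | rfl | rfl
      · rw [dsi]; simp [e1, hi]
      · rw [dsj]; simp [Ne.symm hj'.2, hj]
      · rw [inv, di]; simp [hj'.2, Ne.symm hi]
      · rw [inv, dj]; simp [Ne.symm e1, Ne.symm hj]
    · rw [dfix _ (hout x hx)]
  have h := (S.commute_iff hy ht (by rw [hpy, hdd]) hs (by rw [hpy]; exact hcomm) (i := 1) (j := m) (k := m)
    hy2 hc (by rw [hpy, hsupp, hc])).2 (by rw [show 1 + m + m = 2 * m + 1 by omega]; exact Nat.not_even_bit1 m)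
  refine ⟨y, hy, ?_⟩
  rw [mul_inv_eq_iff_eq_mul, h, mul_assoc t y S.z, hy.eq, ← mul_assoc]

/-- Lifts of conjugate involutions are conjugate in the centralizer. -/
theorem exists_conj_invol {a b : G} (ha : Commute a S.z) (hb : Commute b S.z)
    (hpa : S.p a * S.p a = 1) (hpb : S.p b * S.p b = 1) {m : ℕ} (hm : 0 < m)
    (hca : (S.p a).support.card = 4 * m) (hcb : (S.p b).support.card = 4 * m) :
    ∃ c, Commute c S.z ∧ c * a * c⁻¹ = b := by
  obtain ⟨π, hπ, he⟩ := exists_even_conj hpa hpb (fun h => by rw [h, support_one, Finset.card_empty] at hca; omega)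
    (hca.trans hcb.symm)
  obtain ⟨c, hc, rfl⟩ := S.lift π hπ
  rcases S.eq_or (S.comm_conj hc ha) hb (by rw [S.p_conj hc ha, he]) with h | h
  · exact ⟨c, hc, h⟩
  · obtain ⟨y, hy, hyb⟩ := S.exists_conj_z hb hpb hm hcb
    refine ⟨y * c, hy.mul_left hc, ?_⟩
    rw [show y * c * a * (y * c)⁻¹ = y * (c * a * c⁻¹) * y⁻¹ by group, h,
      show y * (b * S.z) * y⁻¹ = y * b * y⁻¹ * (y * S.z * y⁻¹) by group, hyb, hy.eq, mul_inv_cancel_right,
      mul_assoc, S.z_sq, mul_one]

end Setup

end CfsgLib.AltInvolCent
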