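import Cfsg.Agent.AltInvolCent.SmallInverted
import Cfsg.Agent.AltInvolCent.NinePerms
import Mathlib.GroupTheory.SpecificGroups.Alternating.Simple

/-!
# The standard elements of order three

`L v` is the lift of odd order of the permutation `el v`. For `x = L (1, 0, 0)` the centralizer is
described by the Z*-theorem, so that `x` and its conjugates satisfy `Cyc`.
-/

set_option autoImplicit false
set_option linter.unusedSectionVars false

namespace CfsgLib.AltInvolCent

open Equiv Equiv.Perm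
open NinePerms

/-- A three-cycle on `3, 4, 6`. -/
theorem extra_facts {n : ℕ} (hn : 9 ≤ n) (hn' : n ≤ 10) :
    ∀ v : Fin 3 × Fin 3 × Fin 3, el hn v * (swap (pt n 3) (pt n 4) * swap (pt n 4) (pt n 6)) =
      swap (pt n 3) (pt n 4) * swap (pt n 4) (pt n 6) * el hn v → v.2 = 0 := by
  rcases (by omega : n = 9 ∨ n = 10) with rfl | rfl <;> decide +kernel +revert

theorem el_first {n : ℕ} (hn : 9 ≤ n) (hn' : n ≤ 10) :
    ∀ v : Fin 3 × Fin 3 × Fin 3, v.2 = 0 → el hn v = el hn (1, 0, 0) ^ v.1.val := by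
  rcases (by omega : n = 9 ∨ n = 10) with rfl | rfl <;> decide +kernel +revert

namespace Setup

variable {G : Type*} [Group G] {n : ℕ} (S : Setup G n) (hn : 9 ≤ n) (hn' : n ≤ 10)

/-- The lift of order dividing three of `el v`. -/
noncomputable def L (v : Fin 3 × Fin 3 × Fin 3) : G :=
  (S.lift_odd (m := 3) (by decide) ((el_facts hn hn').1.1 v)).choose

theorem L_spec (v : Fin 3 × Fin 3 × Fin 3) :
    Commute (S.L hn hn' v) S.z ∧ S.p (S.L hn hn' v) = el hn v ∧ S.L hn hn' v ^ 3 = 1 :=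
  (S.lift_odd (m := 3) (by decide) ((el_facts hn hn').1.1 v)).choose_spec

theorem L_comm (v : Fin 3 × Fin 3 × Fin 3) : Commute (S.L hn hn' v) S.z := (S.L_spec hn hn' v).1

theorem L_p (v : Fin 3 × Fin 3 × Fin 3) : S.p (S.L hn hn' v) = el hn v := (S.L_spec hn hn' v).2.1

theorem L_cube (v : Fin 3 × Fin 3 × Fin 3) : S.L hn hn' v ^ 3 = 1 := (S.L_spec hn hn' v).2.2

theorem L_eq {a : G} {v : Fin 3 × Fin 3 × Fin 3} (ha : Commute a S.z) {m : ℕ} (hm : Odd m) (ham : a ^ m = 1)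
    (h : S.p a = el hn v) : a = S.L hn hn' v :=
  S.odd_lift_unique ha (S.L_comm hn hn' v) (m := 3 * m) ((by decide : Odd 3).mul hm)
    (by rw [mul_comm, pow_mul, ham, one_pow]) (by rw [pow_mul, S.L_cube hn hn', one_pow]) (by rw [h, S.L_p hn hn'])

theorem L_commute (v w : Fin 3 × Fin 3 × Fin 3) : Commute (S.L hn hn' v) (S.L hn hn' w) :=
  S.commute_of_odd (S.L_comm hn hn' v) (S.L_comm hn hn' w) (m := 3) (by decide) (S.L_cube hn hn' v)
    (by rw [S.L_p, S.L_p, (el_facts hn hn').2.1, (el_facts hn hn').2.1, add_comm v w])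

theorem L_mul (v w : Fin 3 × Fin 3 × Fin 3) : S.L hn hn' v * S.L hn hn' w = S.L hn hn' (v + w) :=
  S.L_eq hn hn' ((S.L_comm hn hn' v).mul_left (S.L_comm hn hn' w)) (m := 3) (by decide)
    (by rw [(S.L_commute hn hn' v w).mul_pow, S.L_cube, S.L_cube, one_mul])
    (by rw [S.p_mul (S.L_comm hn hn' v) (S.L_comm hn hn' w), S.L_p, S.L_p, (el_facts hn hn').2.1])

theorem L_zero : S.L hn hn' 0 = 1 := by
  have h := S.L_mul hn hn' 0 0
  rwa [add_zero, mul_eq_left] at h

theorem L_neg (v : Fin 3 × Fin 3 × Fin 3) : S.L hn hn' (-v) = (S.L hn hn' v)⁻¹ := by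
  refine eq_inv_of_mul_eq_one_left ?_
  rw [L_mul, neg_add_cancel, L_zero]

theorem L_inj {v w : Fin 3 × Fin 3 × Fin 3} (h : S.L hn hn' v = S.L hn hn' w) : v = w := by
  have := congrArg S.p h
  rw [S.L_p, S.L_p] at this
  exact (el_facts hn hn').2.2 this

theorem L_ne {v : Fin 3 × Fin 3 × Fin 3} (h : v ≠ 0) : S.L hn hn' v ≠ 1 :=
  fun e => h (S.L_inj hn hn' (e.trans (S.L_zero hn hn').symm))

/-- Conjugation of lifts. -/
theorem L_conj {d : G} (hd : Commute d S.z) {v w : Fin 3 × Fin 3 × Fin 3}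
    (h : S.p d * el hn v * (S.p d)⁻¹ = el hn w) : d * S.L hn hn' v * d⁻¹ = S.L hn hn' w :=
  S.L_eq hn hn' (S.comm_conj hd (S.L_comm hn hn' v)) (m := 3) (by decide)
    (by rw [conj_pow, S.L_cube, mul_one, mul_inv_cancel]) (by rw [S.p_conj hd (S.L_comm hn hn' v), S.L_p, h])

/-- An element commuting with `z` and inducing a permutation of the standard elements fixes `el v`. -/
theorem L_commute_of {d : G} (hd : Commute d S.z) {v : Fin 3 × Fin 3 × Fin 3}
    (h : S.p d * el hn v = el hn v * S.p d) : Commute d (S.L hn hn' v) :=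
  (S.commute_of_odd (S.L_comm hn hn' v) hd (m := 3) (by decide) (S.L_cube hn hn' v)
    (by rw [S.L_p, h])).symm

/-- An element commuting with all lifts has image among the `el v`. -/
theorem exists_el {d : G} (hd : Commute d S.z) (h : ∀ v, Commute d (S.L hn hn' v)) : ∃ w, S.p d = el hn w := by
  have key : ∀ v, S.p d * el hn v = el hn v * S.p d := fun v => by
    rw [← S.L_p hn hn' v, ← S.p_mul hd (S.L_comm hn hn' v), ← S.p_mul (S.L_comm hn hn' v) hd, (h v).eq]
  obtain ⟨-, ex, ey, ea⟩ := (el_facts hn hn').1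
  exact cent_three hn hn' (ex ▸ key _) (ey ▸ key _) (ea ▸ key _)

/-- An involution commuting with a lift of odd weight and with `z` equals `z`. -/
theorem eq_z_of_oddWeight {v : Fin 3 × Fin 3 × Fin 3} (hv : OddWeight v) {j : G} (hj : Commute j S.z)
    (hjj : j * j = 1) (hj1 : j ≠ 1) (hjv : Commute j (S.L hn hn' v)) : j = S.z := by
  by_contra hne
  obtain ⟨hp, m, hm0, ⟨k, rfl⟩, hc⟩ := S.invol_support hj hjj hj1 hne
  have := support_le_seven hn hn' hv hp (by
    rw [← S.L_p hn hn' v, ← S.p_mul hj (S.L_comm hn hn' v), ← S.p_mul (S.L_comm hn hn' v) hj, hjv.eq])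
  omega

/-- Odd-order elements of `C(z)` in a normal odd subgroup of `C(X)`. -/
theorem cap {N : Subgroup G} {r : G} (hr : r ∈ N) (hrz : Commute r S.z)
    (hodd : Odd (Nat.card N)) (hX : ∀ g ∈ N, Commute g (S.L hn hn' (1, 0, 0)))
    (hnorm : ∀ d, Commute d S.z → Commute d (S.L hn hn' (1, 0, 0)) → ∀ g ∈ N, d * g * d⁻¹ ∈ N) :
    ∃ i : ℕ, r = S.L hn hn' (1, 0, 0) ^ i := by
  classical
  set x := S.L hn hn' (1, 0, 0) with hx
  have hexp : ∀ g ∈ N, g ^ Nat.card N = 1 := fun g hg => congrArg Subtype.val (pow_card_eq_one' (x := (⟨g, hg⟩ : N)))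
  let β := {i : Fin n // 3 ≤ i.val}
  let φ : Perm β →* Perm (Fin n) := ofSubtype
  have hsign : ∀ π : alternatingGroup β, sign (φ π) = 1 := fun π =>
    (sign_ofSubtype _).trans (mem_alternatingGroup.1 π.2)
  have hφx : ∀ π : Perm β, φ π * el hn (1, 0, 0) = el hn (1, 0, 0) * φ π := by
    intro π
    refine (disjoint_iff_disjoint_support.2 ?_).commute.eq
    rw [Finset.disjoint_left]
    intro i h1 h2
    rw [mem_support] at h1 h2
    rw [← (el_facts hn hn').1.2.1] at h2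
    have := (moved_facts hn hn' i).1.1 h2
    exact h1 (ofSubtype_apply_of_not_mem _ (by omega))
  have lifts : ∀ π : alternatingGroup β, ∃ d, Commute d S.z ∧ Commute d x ∧ S.p d = φ π := fun π => by
    obtain ⟨d, hd, hpd⟩ := S.lift _ (hsign π)
    exact ⟨d, hd, S.L_commute_of hn hn' hd (by rw [hpd, hφx]), hpd⟩
  let M : Subgroup (alternatingGroup β) :=
    { carrier := {π | ∃ g ∈ N, Commute g S.z ∧ S.p g = φ π}
      one_mem' := ⟨1, one_mem N, Commute.one_left _, by rw [S.p_one]; simp⟩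
      mul_mem' := by
        rintro π ρ ⟨g, hg, hgz, e⟩ ⟨k, hk, hkz, e'⟩
        exact ⟨g * k, mul_mem hg hk, hgz.mul_left hkz, by rw [S.p_mul hgz hkz, e, e', ← map_mul]; rfl⟩
      inv_mem' := by
        rintro π ⟨g, hg, hgz, e⟩
        exact ⟨g⁻¹, inv_mem hg, hgz.inv_left, by rw [S.p_inv hgz, e, ← map_inv]; rfl⟩ }
  have hMn : M.Normal := ⟨by
    rintro π ⟨g, hg, hgz, e⟩ ρ
    obtain ⟨d, hd, hdx, hpd⟩ := lifts ρ
    exact ⟨d * g * d⁻¹, hnorm d hd hdx g hg, S.comm_conj hd hgz,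
      by rw [S.p_conj hd hgz, hpd, e, ← map_inv, ← map_mul, ← map_mul]; rfl⟩⟩
  have hcard : 5 ≤ Nat.card β := by
    let f : Fin 5 → β := fun i => ⟨⟨i.val + 3, by omega⟩, by simp⟩
    simpa using Nat.card_le_card_of_injective f (fun i j e => Fin.ext (by have := congrArg (fun a : β => a.1.val) e; simpa [f] using this))
  have := alternatingGroup.isSimpleGroup hcard
  have hM : M = ⊥ := by
    refine hMn.eq_bot_or_eq_top.resolve_right fun htop => ?_
    let q : Fin 4 → β := fun i => ⟨⟨i.val + 3, by omega⟩, by simp⟩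
    have qne : ∀ i j, i ≠ j → q i ≠ q j := fun i j h e => h (Fin.ext (by
      have := congrArg (fun a : β => a.1.val) e; simpa [q] using this))
    set π : alternatingGroup β := ⟨swap (q 0) (q 1) * swap (q 2) (q 3), mem_alternatingGroup.2 (by
      rw [map_mul, sign_swap (qne _ _ (by decide)), sign_swap (qne _ _ (by decide))]; rfl)⟩ with hπ
    obtain ⟨g, hg, hgz, e⟩ : π ∈ M := htop ▸ Subgroup.mem_top π
    obtain ⟨k, hk⟩ := hodd
    have h1 := congrArg S.p (hexp g hg)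
    rw [S.p_pow hgz, S.p_one, e, ← map_pow, hk] at h1
    have hnd : [(q 0).1, (q 1).1, (q 2).1, (q 3).1].Nodup := by simp [q, Fin.ext_iff]
    have h2 : (π : Perm β) * π = 1 := ofSubtype_injective (by
      rw [map_mul, map_one]
      show φ (swap (q 0) (q 1) * swap (q 2) (q 3)) * φ (swap (q 0) (q 1) * swap (q 2) (q 3)) = 1
      simp +zetaDelta only [map_mul, ofSubtype_swap_eq]
      exact (AltDoubleCover.four_points hnd).2.2.2)
    rw [pow_succ, pow_mul, sq, h2, one_pow, one_mul] at h1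
    have h3 : (π : Perm β) = 1 := ofSubtype_injective (h1.trans (map_one φ).symm)
    have := congrArg (fun σ : Perm β => σ (q 0)) h3
    rw [hπ] at this
    simp only [Perm.mul_apply, Perm.one_apply] at this
    rw [swap_apply_of_ne_of_ne (qne 0 2 (by decide)) (qne 0 3 (by decide)), swap_apply_left] at this
    exact qne 1 0 (by decide) this
  set σ := S.p r with hσ
  have hσx : σ * el hn (1, 0, 0) = el hn (1, 0, 0) * σ := by
    rw [← S.L_p hn hn', hσ, ← S.p_mul hrz (S.L_comm hn hn' _), ← S.p_mul (S.L_comm hn hn' _) hrz, (hX r hr).eq]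
  have hhi : ∀ i : Fin n, 3 ≤ (σ i).val ↔ 3 ≤ i.val := fun i => by
    have e : el hn (1, 0, 0) (σ i) = σ (el hn (1, 0, 0) i) := by rw [← Perm.mul_apply, ← hσx, Perm.mul_apply]
    have h1 := (moved_facts hn hn' (σ i)).1
    have h2 := (moved_facts hn hn' i).1
    rw [(el_facts hn hn').1.2.1, e, σ.injective.ne_iff] at h1
    rw [(el_facts hn hn').1.2.1] at h2
    omega
  have hcomm : ∀ π : alternatingGroup β, σ * φ π = φ π * σ := by
    intro π
    obtain ⟨d, hd, hdx, hpd⟩ := lifts π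
    set w := r * (d * r * d⁻¹)⁻¹ with hw
    have hwN : w ∈ N := mul_mem hr (inv_mem (hnorm d hd hdx r hr))
    have hwz : Commute w S.z := hrz.mul_left (S.comm_conj hd hrz).inv_left
    have hpw : S.p w = σ * (φ π * σ * (φ π)⁻¹)⁻¹ := by
      rw [hw, S.p_mul hrz (S.comm_conj hd hrz).inv_left, S.p_inv (S.comm_conj hd hrz), S.p_conj hd hrz, hpd]
    have hfix : ∀ i : Fin n, ¬ 3 ≤ i.val → S.p w i = i := by
      intro i hi
      have hπi : ∀ {j : Fin n} (ρ : Perm β), ¬ 3 ≤ j.val → φ ρ j = j := fun ρ hj => ofSubtype_apply_of_not_mem ρ hj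
      rw [hpw, mul_inv_rev, mul_inv_rev, inv_inv, ← map_inv]
      simp only [Perm.mul_apply]
      rw [hπi _ hi]
      have h1 : ¬ 3 ≤ (σ⁻¹ i).val := fun h => hi (by simpa using (hhi (σ⁻¹ i)).2 h)
      rw [hπi _ h1]
      simp
    have hstab : ∀ i, 3 ≤ i.val ↔ 3 ≤ (S.p w i).val := fun i => by
      by_cases h : 3 ≤ i.val
      · refine iff_of_true h (by_contra fun h' => ?_)
        have := (S.p w).injective (hfix _ h')
        rw [this] at h'
        exact h' h
      · rw [hfix i h]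
    have hmem : ((S.p w).subtypePerm (fun i => (hstab i).symm) : Perm β) ∈ alternatingGroup β := by
      rw [mem_alternatingGroup, sign_subtypePerm _ _ (fun i hi => by_contra fun h => hi (hfix i h)), S.p_sign hwz]
    have hwM : (⟨_, hmem⟩ : alternatingGroup β) ∈ M := ⟨w, hwN, hwz,
      (ofSubtype_subtypePerm (f := S.p w) (fun i => (hstab i).symm) (fun i hi => by_contra fun h => hi (hfix i h))).symm⟩
    rw [hM, Subgroup.mem_bot] at hwM
    have h1 : S.p w = 1 := by
      rw [← ofSubtype_subtypePerm (f := S.p w) (fun i => (hstab i).symm)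
        (fun i hi => by_contra fun h => hi (hfix i h))]
      exact (congrArg φ (congrArg Subtype.val hwM)).trans (map_one φ)
    rw [hpw, mul_inv_eq_one] at h1
    rw [mul_inv_eq_iff_eq_mul.1 h1.symm]
  have cyc3 : ∀ a b c : Fin n, 3 ≤ a.val → 3 ≤ b.val → 3 ≤ c.val → a ≠ b → b ≠ c →
      σ * (swap a b * swap b c) = swap a b * swap b c * σ := by
    intro a b c ha hb hc hab hbc
    have := hcomm ⟨swap (⟨a, ha⟩ : β) ⟨b, hb⟩ * swap ⟨b, hb⟩ ⟨c, hc⟩, mem_alternatingGroup.2 (by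
      rw [map_mul, sign_swap fun e => hab (congrArg Subtype.val e),
        sign_swap fun e => hbc (congrArg Subtype.val e)]; rfl)⟩
    simpa +zetaDelta [map_mul, ofSubtype_swap_eq] using this
  have hy : σ * py hn = py hn * σ := cyc3 _ _ _ (by simp [pt]) (by simp [pt]) (by simp [pt]) (by simp [pt])
    (by simp [pt])
  have ha : σ * pa hn = pa hn * σ := cyc3 _ _ _ (by simp [pt]) (by simp [pt]) (by simp [pt]) (by simp [pt])
    (by simp [pt])
  obtain ⟨v, hv⟩ := cent_three hn hn' ((el_facts hn hn').1.2.1 ▸ hσx) hy ha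
  have hv2 : v.2 = 0 := extra_facts hn hn' v (by
    rw [← hv]; exact cyc3 _ _ _ (by simp [pt]) (by simp [pt]) (by simp [pt]) (by simp [pt]) (by simp [pt]))
  refine ⟨v.1.val, S.odd_lift_unique hrz ((S.L_comm hn hn' _).pow_left _) (m := 3 * Nat.card N)
    ((by decide : Odd 3).mul hodd) (by rw [mul_comm, pow_mul, hexp r hr, one_pow])
    (by rw [← pow_mul, mul_left_comm, pow_mul, S.L_cube, one_pow]) ?_⟩
  rw [← hσ, hv, S.p_pow (S.L_comm hn hn' _), S.L_p]
  exact el_first hn hn' v hv2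

variable [Finite G]

/-- The standard element satisfies `Cyc`. -/
theorem cyc_x : S.Cyc (S.L hn hn' (1, 0, 0)) := by
  set x := S.L hn hn' (1, 0, 0) with hx
  set K := Subgroup.centralizer ({x} : Set G) with hK
  have memK : ∀ {g}, g ∈ K ↔ Commute g x := fun {g} => Subgroup.mem_centralizer_singleton_iff
  let zK : K := ⟨S.z, memK.2 (S.L_comm hn hn' _).symm⟩
  have hiso : Cfsg.IsIsolatedInvolution zK := by
    refine ⟨by rw [← orderOf_submonoid zK]; exact S.hz, fun g hg => Subtype.ext ?_⟩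
    show (g : G) * S.z * (g : G)⁻¹ = S.z
    exact S.eq_z_of_oddWeight hn hn' (v := (1, 0, 0)) (by decide) (congrArg Subtype.val hg.eq).symm
      (S.conj_sq g) (S.conj_ne_one g) (memK.1 (g * zK * g⁻¹).2)
  obtain ⟨N, hN, hodd, hc⟩ := ZStar.exists_oddNormal hiso
  set N' := N.map K.subtype with hN'
  have hodd' : Odd (Nat.card N') := by
    rwa [hN', ← Nat.card_congr (N.equivMapOfInjective _ K.subtype_injective).toEquiv]
  have hsub : ∀ g ∈ N', Commute g x := by
    rintro _ ⟨g, -, rfl⟩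
    exact memK.1 g.2
  have hnorm : ∀ d, Commute d x → ∀ g ∈ N', d * g * d⁻¹ ∈ N' := by
    rintro d hd _ ⟨g, hg, rfl⟩
    exact ⟨⟨d, memK.2 hd⟩ * g * ⟨d, memK.2 hd⟩⁻¹, hN.conj_mem g hg _, rfl⟩
  have hzc : ∀ g, Commute g x → S.z * g * S.z * g⁻¹ ∈ N' := fun g hg =>
    ⟨_, hc ⟨g, memK.2 hg⟩, by show S.z * g * S.z⁻¹ * g⁻¹ = _; rw [S.z_inv]⟩
  have hmem : ∀ {w}, w ∈ S.inv3 x → w ∈ N' := by
    rintro w ⟨hw, hinv, k, hk⟩
    have h := hzc w hw
    rw [hinv, ← mul_inv_rev, inv_mem_iff] at h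
    obtain ⟨r, hr⟩ := (Odd.pow (by decide : Odd 3) : Odd (3 ^ k))
    have := N'.pow_mem h (r + 1)
    rwa [← sq, ← pow_mul, show 2 * (r + 1) = 3 ^ k + 1 by omega, pow_succ, hk, one_mul] at this
  refine ⟨S.L_comm hn hn' _, S.L_cube hn hn' _, S.L_ne hn hn' (by decide), fun v hv w hw => ?_⟩
  have hr := mul_mem (hmem hv) (hmem hw)
  set r := v * w with hrdef
  set q := r⁻¹ * (S.z * r * S.z) with hq
  have hqz : S.z * q * S.z = q⁻¹ := by
    rw [hq, show (r⁻¹ * (S.z * r * S.z))⁻¹ = S.z⁻¹ * r⁻¹ * S.z⁻¹ * r by group, S.z_inv,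
      show S.z * (r⁻¹ * (S.z * r * S.z)) * S.z = S.z * r⁻¹ * S.z * r * (S.z * S.z) by group, S.z_sq, mul_one]
  have hrX : Commute r x := hv.1.mul_left hw.1
  have hqN : q ∈ N' := by
    have := hnorm r⁻¹ hrX.inv_left _ (hzc r hrX)
    rwa [inv_inv, mul_assoc, inv_mul_cancel_right] at this
  obtain ⟨k, hk⟩ := hodd'
  have hqord : q ^ Nat.card N' = 1 := congrArg Subtype.val (pow_card_eq_one' (x := (⟨q, hqN⟩ : N')))
  set u := (q⁻¹) ^ (k + 1) with hu
  have huN : u ∈ N' := N'.pow_mem (inv_mem hqN) _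
  have huu : q * u = u⁻¹ := by
    refine eq_inv_of_mul_eq_one_left ?_
    rw [hu, mul_assoc, ← pow_add, show k + 1 + (k + 1) = Nat.card N' + 1 by omega, pow_succ', ← mul_assoc,
      mul_inv_cancel, one_mul, inv_pow, hqord, inv_one]
  have huz : S.z * u * S.z = u⁻¹ := by
    have key : ∀ j : ℕ, S.z * q⁻¹ ^ j * S.z = q ^ j := by
      intro j
      induction j with
      | zero => simp [S.z_sq]
      | succ j ih => rw [pow_succ, S.z_conj_mul, ih, pow_succ, show S.z * q⁻¹ * S.z =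
          (S.z⁻¹ * q * S.z⁻¹)⁻¹ by group, S.z_inv, hqz, inv_inv]
    rw [hu, key, inv_pow, inv_inv]
  have hcz : Commute (r * u⁻¹) S.z := by
    have h : S.z * (r * u⁻¹) * S.z = r * u⁻¹ := by
      rw [S.z_conj_mul, show S.z * r * S.z = r * q by rw [hq, mul_inv_cancel_left],
        show S.z * u⁻¹ * S.z = (S.z⁻¹ * u * S.z⁻¹)⁻¹ by group, S.z_inv, huz, inv_inv, mul_assoc, huu]
    show r * u⁻¹ * S.z = S.z * (r * u⁻¹)
    conv_lhs => rw [← h]
    rw [mul_assoc, S.z_sq, mul_one]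
  obtain ⟨i, hi⟩ := S.cap hn hn' (mul_mem hr (inv_mem huN)) hcz ⟨k, hk⟩ hsub (fun d _ => hnorm d)
  have hru : r = x ^ i * u := by rw [← hi, inv_mul_cancel_right]
  have hux : Commute u x := hsub u huN
  have hxu : Commute (x ^ i) u := (hux.pow_right i).symm
  have hz2 : v⁻¹ * w⁻¹ = x ^ i * u⁻¹ := by
    rw [← hv.2.1, ← hw.2.1, ← S.z_conj_mul, ← hrdef, hru, S.z_conj_mul,
      S.z_conj_of_commute ((S.L_comm hn hn' _).pow_left i), huz]
  have h3 : (x ^ i) ^ 3 = 1 := by rw [← pow_mul, mul_comm, pow_mul, S.L_cube, one_pow]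
  have hc' : w * v = v * w * x ^ i := by
    calc w * v = (v⁻¹ * w⁻¹)⁻¹ := by group
      _ = u * (x ^ i)⁻¹ := by rw [hz2]; group
      _ = u * (x ^ i * x ^ i) := by
        congr 1
        exact inv_eq_of_mul_eq_one_left (by rw [← h3]; group)
      _ = v * w * x ^ i := by rw [← hrdef, hru, ← mul_assoc, ← hxu.eq]
  obtain ⟨a, ha⟩ := hv.2.2
  obtain ⟨b, hb⟩ := hw.2.2
  refine ⟨i, u, ⟨hux, huz, max a b + 1, ?_⟩, hru⟩
  have hp := mul_pow_comm (hv.1.symm.pow_left i) (hw.1.symm.pow_left i) hc' (3 ^ (max a b + 1))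
  rw [pow_three_pow (le_trans (le_max_left a b) (Nat.le_succ _)) ha,
    pow_three_pow (le_trans (le_max_right a b) (Nat.le_succ _)) hb, one_mul, one_mul, ← hrdef, hru,
    hxu.mul_pow] at hp
  obtain ⟨c, hc3⟩ := three_dvd_choose (max a b)
  rw [hc3, pow_mul (x ^ i), h3, one_pow, pow_succ' 3, pow_mul (x ^ i), h3, one_pow, one_mul] at hp
  rwa [pow_succ']

end Setup

end CfsgLib.AltInvolCent
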